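/-
The generating subgroup of the `Ω₁(Z(S))` and Thompson factorizability.
-/
import Cfsg.Agent.PLocal.Constrained

set_option linter.unusedSectionVars false
set_option linter.style.haveILetI false

namespace Cfsg.Agent.PLocal

open Subgroup Cfsg
open scoped commutatorElement

universe u

variable {G : Type u} [Group G] [Finite G] {p : ℕ} [Fact p.Prime]

/-- `Ω₁(Z(U))` inside `G`. -/
abbrev omegaZ (p : ℕ) (U : Subgroup G) : Subgroup G :=
  omegaOne p (U ⊓ centralizer (U : Set G))

theorem omegaZ_le (U : Subgroup G) : omegaZ p U ≤ U ⊓ centralizer (U : Set G) :=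
  (Subgroup.closure_le _).mpr fun _ hx => hx.1

theorem omegaZ_map {G' : Type u} [Group G'] (f : G →* G') {U : Subgroup G} (hf : Set.InjOn f (U : Set G)) :
    (omegaZ p U).map f = omegaZ p (U.map f) := by
  rw [omegaZ, omegaZ, omegaOne, omegaOne, MonoidHom.map_closure, ← Core.ThompsonComplement.centre_map f hf]
  congr 1
  ext y
  constructor
  · rintro ⟨x, ⟨hx, hxp⟩, rfl⟩
    exact ⟨⟨x, hx, rfl⟩, by rw [← map_pow, hxp, map_one]⟩
  · rintro ⟨⟨x, hx, rfl⟩, hxp⟩
    refine ⟨x, ⟨hx, hf (pow_mem hx.1 p) (one_mem _) ?_⟩, rfl⟩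
    rw [map_pow, map_one]
    exact hxp

/-- `⟨Ω₁(Z(S)) | S⟩`. -/
abbrev omegaGen (p : ℕ) (G : Type u) [Group G] : Subgroup G :=
  ⨆ S : Sylow p G, omegaZ p (S : Subgroup G)

theorem omegaGen_normal : (omegaGen p G).Normal := by
  refine ⟨fun x hx g => ?_⟩
  have hle : (omegaGen p G).map (MulAut.conj g).toMonoidHom ≤ omegaGen p G := by
    rw [Subgroup.map_iSup]
    refine iSup_le fun S => ?_
    rw [omegaZ_map _ (MulAut.conj g).injective.injOn]
    exact le_iSup (fun T : Sylow p G => omegaZ p (T : Subgroup G)) (g • S)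
  exact hle ⟨x, hx, rfl⟩

theorem omegaGen_isEA (hc : centralizer (pCore p G : Set G) ≤ pCore p G) :
    IsElementaryAbelian p (omegaGen p G) := by
  set X : Set G := {x | ∃ S : Sylow p G, x ∈ (S : Subgroup G) ⊓ centralizer ((S : Subgroup G) : Set G) ∧ x ^ p = 1}
  have hle : omegaGen p G ≤ closure X :=
    iSup_le fun S => (Subgroup.closure_le _).mpr fun x hx => Subgroup.subset_closure ⟨S, hx.1, hx.2⟩
  refine isEA_mono (isEA_closure ?_ ?_) hle
  · rintro x ⟨S, hx, -⟩ y ⟨T, hy, -⟩
    have hxQ : x ∈ pCore p G := hc (Subgroup.centralizer_le (Core.pCore_le_sylow S) hx.2)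
    exact Subgroup.mem_centralizer_iff.mp hy.2 x (Core.pCore_le_sylow T hxQ)
  · rintro x ⟨S, -, hx⟩
    exact hx

/-- A `p`-closed extension of `C = C(V)` centralizes every `C_V(S)`. -/
theorem le_centralizer_of_relIndex (S : Sylow p G) (C D W : Subgroup G) [C.Normal] [D.Normal] (hCD : C ≤ D)
    (hk : ∃ k, C.relIndex D ∣ p ^ k) (hC : C ≤ centralizer (W : Set G))
    (hS : (S : Subgroup G) ≤ centralizer (W : Set G)) : D ≤ centralizer (W : Set G) := by
  obtain ⟨k, hk⟩ := hk
  obtain ⟨P, hP⟩ := exists_sylow_inf S D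
  have h1 : (P : Subgroup D) ⊔ C.subgroupOf D = ⊤ := by
    rw [← Subgroup.index_eq_one]
    refine Nat.eq_one_of_dvd_coprimes (a := (P : Subgroup D).index) ?_ (Subgroup.index_dvd_of_le le_sup_left)
      ((Subgroup.index_dvd_of_le le_sup_right).trans hk)
    exact (Nat.Coprime.pow_left k (((Fact.out : p.Prime).coprime_iff_not_dvd).mpr P.not_dvd_index)).symm
  have h2 := congrArg (Subgroup.map D.subtype) h1
  rw [Subgroup.map_sup, hP, Subgroup.map_subgroupOf_eq_of_le hCD, ← MonoidHom.range_eq_map,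
    Subgroup.range_subtype] at h2
  rw [← h2]
  exact sup_le (inf_le_left.trans hS) hC

theorem eq_centralizer_of_generated (V : Subgroup G) [V.Normal]
    (hgen : ∀ W : Subgroup G, (∀ S : Sylow p G, V ⊓ centralizer ((S : Subgroup G) : Set G) ≤ W) → V ≤ W)
    (D : Subgroup G) [D.Normal] (hCD : centralizer (V : Set G) ≤ D)
    (hk : ∃ k, (centralizer (V : Set G)).relIndex D ∣ p ^ k) : D = centralizer (V : Set G) := by
  refine le_antisymm ?_ hCD
  refine le_centralizer_iff.mp (hgen _ fun S => ?_)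
  refine le_centralizer_iff.mp (le_centralizer_of_relIndex S _ D _ hCD hk
    (Subgroup.centralizer_le inf_le_left) (le_centralizer_iff.mp inf_le_right))

theorem pCore_quotient_centralizer_eq_bot (V : Subgroup G) [V.Normal]
    (hgen : ∀ W : Subgroup G, (∀ S : Sylow p G, V ⊓ centralizer ((S : Subgroup G) : Set G) ≤ W) → V ≤ W) :
    pCore p (G ⧸ centralizer (V : Set G)) = ⊥ := by
  set C := centralizer (V : Set G) with hC
  set D := (pCore p (G ⧸ C)).comap (QuotientGroup.mk' C) with hD
  haveI : D.Normal := Subgroup.Normal.comap inferInstance _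
  have hCD : C ≤ D := (QuotientGroup.ker_mk' C).ge.trans (MonoidHom.ker_le_comap _ _)
  obtain ⟨k, hk⟩ := IsPGroup.iff_card.mp (Core.isPGroup_pCore p (G ⧸ C))
  have hc' := Subgroup.relIndex_comap (⊥ : Subgroup (G ⧸ C)) (QuotientGroup.mk' C) D
  rw [MonoidHom.comap_bot, QuotientGroup.ker_mk', hD,
    Subgroup.map_comap_eq_self_of_surjective (QuotientGroup.mk'_surjective C),
    Subgroup.relIndex_bot_left, hk] at hc'
  have h := eq_centralizer_of_generated V hgen D hCD ⟨k, by rw [hD]; exact hc'.dvd⟩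
  rw [← Subgroup.map_comap_eq_self_of_surjective (QuotientGroup.mk'_surjective C) (pCore p (G ⧸ C)), ← hD, h,
    QuotientGroup.map_mk'_self]

theorem card_le_of_maxEA_sylow (S : Sylow p G) {B : Subgroup G} (hB : B ∈ maxIn (IsElementaryAbelian p) (S : Subgroup G)) :
    B ∈ maxElementaryAbelianSubgroups p G := by
  refine ⟨hB.2.1, fun E hE => ?_⟩
  obtain ⟨T, hT⟩ := (isPGroup_of_EA hE).exists_le_sylow
  obtain ⟨g, hg⟩ := MulAction.exists_smul_eq G T S
  have hle : E.map (MulAut.conj g).toMonoidHom ≤ (S : Subgroup G) := by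
    rw [← hg]
    exact Subgroup.map_mono hT
  have h := hB.2.2 _ hle (isEA_map hE _)
  rwa [Subgroup.card_map_of_injective (MulAut.conj g).injective] at h

theorem le_thompsonSubgroupOf' {U A : Subgroup G} (hA : A ∈ maxIn (IsElementaryAbelian p) U) :
    A ≤ thompsonSubgroupOf p U :=
  (Subgroup.map_subgroupOf_eq_of_le hA.1).ge.trans
    (Subgroup.map_mono (le_thompsonSubgroup (maxIn_ea_iff.mp hA).2))

/-- Thompson factorizability when `O_{p'}(G) = 1`. -/
theorem thompsonFactorizable_iff (hO : pPrimeCore p G = ⊥) :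
    IsThompsonFactorizable p G ↔ thompsonSubgroup p G ≤ centralizer (omegaGen p G : Set G) := by
  constructor
  · intro hf
    refine sSup_le fun A hA => le_centralizer_iff.mp (iSup_le fun T => le_centralizer_iff.mp ?_)
    obtain ⟨S, hS⟩ := (isPGroup_of_EA hA.1).exists_le_sylow
    have hAJ : A ≤ thompsonSubgroupOf p (S : Subgroup G) :=
      le_thompsonSubgroupOf' ⟨hS, hA.1, fun C _ hC => hA.2 C hC⟩
    obtain ⟨g, hg⟩ := MulAction.exists_smul_eq G S T
    obtain ⟨x, hx, c, hc, n, hn, e⟩ := hf S g⁻¹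
    rw [hO, Subgroup.mem_bot] at hx
    rw [hx, one_mul] at e
    have hJZ : thompsonSubgroupOf p (S : Subgroup G) ≤ centralizer (omegaZ p (S : Subgroup G) : Set G) :=
      le_centralizer_iff.mp ((omegaZ_le _).trans (inf_le_right.trans
        (Subgroup.centralizer_le (Subgroup.map_subtype_le _))))
    intro a ha
    rw [Subgroup.mem_centralizer_iff]
    intro z hz
    rw [← hg, Sylow.coe_subgroup_smul] at hz
    have hmap : (omegaZ p (S : Subgroup G)).map (MulAut.conj g).toMonoidHom =
        omegaZ p ((S : Subgroup G).map (MulAut.conj g).toMonoidHom) :=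
      omegaZ_map _ (MulAut.conj g).injective.injOn
    obtain ⟨w, hw, rfl⟩ : z ∈ (omegaZ p (S : Subgroup G)).map (MulAut.conj g).toMonoidHom := hmap ▸ hz
    -- `g = n⁻¹ c⁻¹`
    have hg' : g = n⁻¹ * c⁻¹ := by rw [← inv_inv g, e, mul_inv_rev]
    have hcw : c⁻¹ * w * c = w := by
      rw [mul_assoc, Subgroup.mem_centralizer_iff.mp hc w hw, inv_mul_cancel_left]
    have hwn : n⁻¹ * w * n = (MulAut.conj g).toMonoidHom w := by
      simp only [MulEquiv.toMonoidHom_eq_coe, MonoidHom.coe_coe, MulAut.conj_apply, hg']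
      conv_lhs => rw [← hcw]
      group
    have hna : n * a * n⁻¹ ∈ thompsonSubgroupOf p (S : Subgroup G) :=
      (mem_normalizer_iff.mp hn a).mp (hAJ ha)
    have h := Subgroup.mem_centralizer_iff.mp (hJZ hna) w hw
    rw [← hwn]
    calc n⁻¹ * w * n * a = n⁻¹ * (w * (n * a * n⁻¹)) * n := by group
      _ = n⁻¹ * ((n * a * n⁻¹) * w) * n := by rw [h]
      _ = a * (n⁻¹ * w * n) := by group
  · intro hJ S g
    haveI := omegaGen_normal (p := p) (G := G)
    set C := centralizer (omegaGen p G : Set G) with hC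
    haveI : C.Normal := inferInstance
    have hJC : thompsonSubgroupOf p (S : Subgroup G) ≤ C := by
      rw [thompsonSubgroupOf, thompsonSubgroup, Subgroup.map_le_iff_le_comap]
      refine sSup_le fun B hB => ?_
      rw [← Subgroup.map_le_iff_le_comap]
      refine le_trans (le_thompsonSubgroup (card_le_of_maxEA_sylow S (maxIn_ea_iff.mpr
        ⟨Subgroup.map_subtype_le _, by
          rwa [Subgroup.subgroupOf, Subgroup.comap_map_eq_self_of_injective (Subgroup.subtype_injective _)]⟩))) hJ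
    obtain ⟨c, hc, n, hn, e⟩ := Coprime.exists_mul_of_mem_sup
      (le_of_le_of_eq le_top (Subgroup.normalizer_eq_top C).symm)
      (show g ∈ C ⊔ normalizer (thompsonSubgroupOf p (S : Subgroup G) : Set G) by
        rw [centralizer_sup_normalizer_thompson S C hJC]; trivial)
    refine ⟨1, one_mem _, c, ?_, n, hn, by rw [one_mul, e]⟩
    exact Subgroup.centralizer_le (SetLike.coe_subset_coe.mpr
      (le_iSup (fun T : Sylow p G => omegaZ p (T : Subgroup G)) S)) hc

/-- Thompson factorizability passes to and from the quotient by `O_{p'}`. -/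
theorem thompsonFactorizable_quotient_iff :
    IsThompsonFactorizable p G ↔ IsThompsonFactorizable p (G ⧸ pPrimeCore p G) := by
  set O := pPrimeCore p G with hO
  set π := QuotientGroup.mk' O with hπ
  have hπs : Function.Surjective π := QuotientGroup.mk'_surjective O
  have hπO : ∀ o ∈ O, π o = 1 := fun o ho => (QuotientGroup.eq_one_iff o).mpr ho
  have hOcop := Core.card_pPrimeCore_coprime p G
  have hJmap : ∀ S : Sylow p G, (thompsonSubgroupOf p (S : Subgroup G)).map π =
      thompsonSubgroupOf p ((S : Subgroup G).map π) := fun S =>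
    Core.ThompsonComplement.thompsonSubgroupOf_map π (injOn_mk'_pPrimeCore S)
  have hZmap : ∀ S : Sylow p G, (omegaZ p (S : Subgroup G)).map π = omegaZ p ((S : Subgroup G).map π) := fun S =>
    omegaZ_map π (injOn_mk'_pPrimeCore S)
  constructor
  · intro hf T y
    obtain ⟨S, hS⟩ : ∃ S : Sylow p G, (S : Subgroup G).map π = (T : Subgroup (G ⧸ O)) := by
      obtain ⟨S⟩ : Nonempty (Sylow p G) := inferInstance
      obtain ⟨q, hq⟩ := MulAction.exists_smul_eq (G ⧸ O) (S.mapSurjective hπs) T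
      obtain ⟨g, rfl⟩ := hπs q
      refine ⟨g • S, ?_⟩
      rw [← hq, Sylow.coe_subgroup_smul, Sylow.coe_subgroup_smul, Sylow.coe_mapSurjective]
      ext z
      simp only [Subgroup.mem_map, Subgroup.mem_pointwise_smul_iff_inv_smul_mem]
      constructor
      · rintro ⟨w, hw, rfl⟩
        refine ⟨_, hw, ?_⟩
        simp [MulAut.smul_def]
      · rintro ⟨w, hw, e⟩
        refine ⟨MulAut.conj g • w, by simpa [mul_assoc] using hw, ?_⟩
        simp only [MulAut.smul_def] at e ⊢
        rw [MulAut.conj_apply, map_mul, map_mul, map_inv, e]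
        simp [mul_assoc]
    obtain ⟨g, rfl⟩ := hπs y
    obtain ⟨x, hx, c, hc, n, hn, rfl⟩ := hf S g
    refine ⟨1, one_mem _, π c, ?_, π n, ?_, ?_⟩
    · rw [← hS]
      show π c ∈ centralizer (omegaZ p ((S : Subgroup G).map π) : Set (G ⧸ O))
      rw [← hZmap, Subgroup.mem_centralizer_iff]
      rintro _ ⟨z, hz, rfl⟩
      rw [← map_mul, ← map_mul, Subgroup.mem_centralizer_iff.mp hc z hz]
    · rw [← hS, ← hJmap]
      exact (Subgroup.le_normalizer_map π) ⟨n, hn, rfl⟩
    · rw [map_mul, map_mul, hπO x hx]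
  · intro hf S g
    obtain ⟨x₁, hx₁, c₁, hc₁, n₁, hn₁, e⟩ := hf (S.mapSurjective hπs) (π g)
    rw [Core.pPrimeCore_quotient_pPrimeCore, Subgroup.mem_bot] at hx₁
    rw [hx₁, one_mul] at e
    rw [Sylow.coe_mapSurjective] at hc₁ hn₁
    change c₁ ∈ centralizer (omegaZ p ((S : Subgroup G).map π) : Set (G ⧸ O)) at hc₁
    rw [← hZmap] at hc₁
    rw [← hJmap] at hn₁
    obtain ⟨c₂, rfl⟩ := hπs c₁
    obtain ⟨n₂, rfl⟩ := hπs n₁
    set Z := omegaZ p (S : Subgroup G) with hZ
    set J := thompsonSubgroupOf p (S : Subgroup G) with hJ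
    have hZp : IsPGroup p Z := S.isPGroup'.to_le ((omegaZ_le _).trans inf_le_left)
    have hJp : IsPGroup p J := S.isPGroup'.to_le (Subgroup.map_subtype_le _)
    obtain ⟨k, hk, hkn⟩ := Core.ThompsonComplement.exists_mul_normalizes hJp hOcop (g := n₂) (fun t ht => by
      have h1 := (Subgroup.mem_normalizer_iff.mp hn₁ (π t)).mp (Subgroup.mem_map_of_mem π ht)
      rw [← map_inv, ← map_mul, ← map_mul] at h1
      have h2 : n₂ * t * n₂⁻¹ ∈ (J.map π).comap π := h1
      rwa [Subgroup.comap_map_eq, QuotientGroup.ker_mk'] at h2)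
    have hfix : ∀ t ∈ Z, π (c₂ * t * c₂⁻¹) = π t := fun t ht => by
      rw [map_mul, map_mul, map_inv, ← Subgroup.mem_centralizer_iff.mp hc₁ (π t) ⟨t, ht, rfl⟩,
        mul_inv_cancel_right]
    obtain ⟨l, hl, hlc⟩ := Core.ThompsonComplement.exists_mul_normalizes hZp hOcop (g := c₂) (fun t ht => by
      have h1 : t⁻¹ * (c₂ * t * c₂⁻¹) ∈ O := QuotientGroup.eq.mp (hfix t ht).symm
      have := Subgroup.mul_mem_sup ht h1
      rwa [mul_inv_cancel_left] at this)
    have hlcZ : l * c₂ ∈ centralizer (Z : Set G) := by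
      rw [Subgroup.mem_centralizer_iff]
      intro t ht
      have h1 := (Subgroup.mem_normalizer_iff.mp hlc t).mp ht
      have h2 : l * c₂ * t * (l * c₂)⁻¹ = t := by
        refine injOn_mk'_pPrimeCore S ((omegaZ_le _).trans inf_le_left h1) ((omegaZ_le _).trans inf_le_left ht) ?_
        show π _ = π _
        rw [map_mul, map_mul, map_inv, map_mul π l, hπO l hl, one_mul, ← map_inv, ← map_mul, ← map_mul]
        exact hfix t ht
      exact (mul_inv_eq_iff_eq_mul.mp h2).symm
    refine ⟨g * (l * c₂ * (k * n₂))⁻¹, ?_, l * c₂, hlcZ, k * n₂, hkn, by group⟩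
    rw [← QuotientGroup.eq_one_iff, ← QuotientGroup.mk'_apply, map_mul, map_inv, map_mul, map_mul π l, map_mul π k,
      ← hπ, hπO l hl, hπO k hk, one_mul, one_mul, ← e, mul_inv_cancel]

end Cfsg.Agent.PLocal
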