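/-
Groups of order `p` acting as transvections on an elementary abelian `p`-group, and pairs of them.
-/
import Cfsg.Agent.PLocal.ElemAb
import Cfsg.Agent.Dickson.Main
import Cfsg.Agent.Coprime.PxQ

set_option linter.unusedSectionVars false
set_option linter.style.haveILetI false

namespace Cfsg.Agent.PLocal

open Subgroup Cfsg
open scoped commutatorElement

variable {G : Type*} [Group G] [Finite G] {p : ℕ} [hp : Fact p.Prime]

/-- `H` acts faithfully on the elementary abelian `p`-group `V`. -/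
structure ActsFaithfully (p : ℕ) (V H : Subgroup G) : Prop where
  ea : IsElementaryAbelian p V
  norm : H ≤ normalizer (V : Set G)
  faith : H ⊓ centralizer (V : Set G) = ⊥

/-- `A` is a group of order `p` acting on `V` as a group of transvections. -/
structure IsTrans (p : ℕ) (V A : Subgroup G) : Prop where
  card : Nat.card A = p
  cardP : Nat.card (⁅V, A⁆ : Subgroup G) = p
  index : Nat.card (V ⊓ centralizer (A : Set G) : Subgroup G) * p = Nat.card V
  le : ⁅V, A⁆ ≤ V ⊓ centralizer (A : Set G)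

theorem exists_zpowers_eq_of_card {A : Subgroup G} (h : Nat.card A = p) :
    ∃ a : G, a ∈ A ∧ a ≠ 1 ∧ zpowers a = A ∧ a ^ p = 1 := by
  obtain ⟨a, ha, ha1⟩ := A.bot_or_exists_ne_one.resolve_left fun e => by
    rw [e, Subgroup.card_bot] at h; exact hp.out.ne_one h.symm
  have hap : a ^ p = 1 := by
    rw [← h]; exact congrArg Subtype.val (pow_card_eq_one' (G := A) (x := ⟨a, ha⟩))
  exact ⟨a, ha, ha1, Subgroup.eq_of_le_of_card_ge (zpowers_le.mpr ha)
    (by rw [h, Nat.card_zpowers, orderOf_eq_prime hap ha1]), hap⟩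

theorem eq_zpowers_of_card {A : Subgroup G} (h : Nat.card A = p) {a : G} (ha : a ∈ A) (ha1 : a ≠ 1) :
    zpowers a = A := by
  obtain ⟨b, hb, hb1, hbe, -⟩ := exists_zpowers_eq_of_card h
  refine Subgroup.eq_of_le_of_card_ge (zpowers_le.mpr ha) ?_
  have hap : a ^ p = 1 := by
    rw [← h]; exact congrArg Subtype.val (pow_card_eq_one' (G := A) (x := ⟨a, ha⟩))
  rw [h, Nat.card_zpowers, orderOf_eq_prime hap ha1]

theorem eq_bot_or_eq_of_le_card_prime {A B : Subgroup G} (h : Nat.card A = p) (hle : B ≤ A) :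
    B = ⊥ ∨ B = A := by
  rcases B.bot_or_exists_ne_one with e | ⟨b, hb, hb1⟩
  · exact Or.inl e
  · exact Or.inr (le_antisymm hle ((eq_zpowers_of_card h (hle hb) hb1).ge.trans (zpowers_le.mpr hb)))

namespace ActsFaithfully

variable {V H : Subgroup G} (hc : ActsFaithfully p V H)
include hc

theorem commV {x y : G} (hx : x ∈ V) (hy : y ∈ V) : x * y = y * x := comm_of_EA hc.ea hx hy

theorem conjV {h v : G} (hh : h ∈ H) (hv : v ∈ V) : h * v * h⁻¹ ∈ V :=
  (mem_normalizer_iff.mp (hc.norm hh) v).mp hv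

theorem conjV' {h v : G} (hh : h ∈ H) (hv : v ∈ V) : h⁻¹ * v * h ∈ V :=
  (mem_normalizer_iff''.mp (hc.norm hh) v).mp hv

/-- Elements of `H` acting trivially are trivial. -/
theorem eq_one {h : G} (hh : h ∈ H) (hfix : ∀ v ∈ V, h * v = v * h) : h = 1 := by
  rw [← Subgroup.mem_bot, ← hc.faith]
  exact ⟨hh, Subgroup.mem_centralizer_iff.mpr fun v hv => (hfix v hv).symm⟩

/-- Two elements of `H` agreeing on generators of `V` are equal. -/
theorem ext {h k : G} (hh : h ∈ H) (hk : k ∈ H) {U W : Subgroup G} (hV : V ≤ U ⊔ W)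
    (hU : ∀ u ∈ U, h * u * h⁻¹ = k * u * k⁻¹) (hW : ∀ w ∈ W, h * w * h⁻¹ = k * w * k⁻¹) : h = k := by
  refine inv_mul_eq_one.mp ?_ |>.symm
  refine hc.eq_one (mul_mem (inv_mem hk) hh) fun v hv => ?_
  have key : U ⊔ W ≤ centralizer ({k⁻¹ * h} : Set G) := by
    refine sup_le (fun u hu => ?_) (fun w hw => ?_) <;> rw [Subgroup.mem_centralizer_singleton_iff]
    · have := hU u hu
      calc u * (k⁻¹ * h) = k⁻¹ * (k * u * k⁻¹) * h := by group
        _ = k⁻¹ * (h * u * h⁻¹) * h := by rw [this]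
        _ = _ := by group
    · have := hW w hw
      calc w * (k⁻¹ * h) = k⁻¹ * (k * w * k⁻¹) * h := by group
        _ = k⁻¹ * (h * w * h⁻¹) * h := by rw [this]
        _ = _ := by group
  exact (Subgroup.mem_centralizer_singleton_iff.mp (key (hV hv))).symm

theorem commutator_le_V {A : Subgroup G} (hA : A ≤ H) : ⁅V, A⁆ ≤ V :=
  Coprime.commutator_le_of_le_normalizer (hA.trans hc.norm)

theorem disjoint {A : Subgroup G} (hA : A ≤ H) : ⁅V, A⁆ = ⊥ → A = ⊥ := fun h => le_bot_iff.mp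
  (hc.faith ▸ le_inf hA (Subgroup.le_centralizer_iff.mp (Subgroup.commutator_eq_bot_iff_le_centralizer.mp h)))

/-- An order `p` subgroup with `[V : C_V(A)] = p` is a transvection group. -/
theorem isTrans {A : Subgroup G} (hA : A ≤ H) (hcard : Nat.card A = p)
    (hidx : Nat.card (V ⊓ centralizer (A : Set G) : Subgroup G) * p = Nat.card V) : IsTrans p V A := by
  obtain ⟨a, ha, ha1, hz, hap⟩ := exists_zpowers_eq_of_card hcard
  have haV : ∀ v ∈ V, a * v * a⁻¹ * v⁻¹ ∈ V := fun v hv => mul_mem (hc.conjV (hA ha) hv) (inv_mem hv)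
  let f : V →* G := MonoidHom.mk' (fun v => a * (v : G) * a⁻¹ * (v : G)⁻¹) (fun v w => by
    have h1 := hc.commV (haV w w.2) (inv_mem v.2)
    have h2 : a * ((v : G) * w) * a⁻¹ * ((v : G) * w)⁻¹ =
        (a * (v : G) * a⁻¹) * ((a * (w : G) * a⁻¹ * (w : G)⁻¹) * (v : G)⁻¹) := by group
    show a * ((v * w : V) : G) * a⁻¹ * ((v * w : V) : G)⁻¹ = _
    rw [Subgroup.coe_mul, h2, h1]
    group)
  have hker : (f.ker).map V.subtype = V ⊓ centralizer (A : Set G) := by
    ext v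
    constructor
    · rintro ⟨w, hw, rfl⟩
      refine Subgroup.mem_inf.mpr ⟨w.2, ?_⟩
      rw [← hz, Subgroup.mem_centralizer_iff]
      have hw' : Commute a (w : G) := mul_inv_eq_iff_eq_mul.mp (mul_inv_eq_one.mp hw)
      rintro _ ⟨i, rfl⟩
      exact (hw'.zpow_left i).eq
    · rintro ⟨hv, hvc⟩
      refine ⟨⟨v, hv⟩, ?_, rfl⟩
      show a * v * a⁻¹ * v⁻¹ = 1
      rw [Subgroup.mem_centralizer_iff.mp hvc a ha, mul_inv_cancel_right, mul_inv_cancel]
  have hrange : Nat.card f.range = p := by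
    have h := Subgroup.card_mul_index f.ker
    rw [Subgroup.index_ker] at h
    rw [← hker, Subgroup.card_map_of_injective V.subtype_injective] at hidx
    exact Nat.eq_of_mul_eq_mul_left (Nat.card_pos (α := f.ker)) (h.trans hidx.symm)
  have hrV : f.range ≤ V := by
    rintro _ ⟨v, rfl⟩; exact haV v v.2
  -- `a` fixes the range
  have hRn : A ≤ normalizer (f.range : Set G) := by
    rw [← hz, zpowers_le]
    refine mem_normalizer_fintype ?_
    rintro _ ⟨v, rfl⟩
    exact ⟨⟨a * v * a⁻¹, hc.conjV (hA ha) v.2⟩, by show a * (a * (v : G) * a⁻¹) * a⁻¹ * (a * (v : G) * a⁻¹)⁻¹ = a * (a * (v : G) * a⁻¹ * (v : G)⁻¹) * a⁻¹; group⟩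
  have hRc : ⁅f.range, A⁆ = ⊥ := by
    have hlt := Coprime.commutator_lt_of_isPGroup (isPGroup_of_EA (isEA_mono hc.ea hrV))
      (IsPGroup.of_card (p := p) (n := 1) (by rw [hcard, pow_one])) hRn (fun e => by
        rw [e, Subgroup.card_bot] at hrange; exact hp.out.ne_one hrange.symm)
    exact (eq_bot_or_eq_of_le_card_prime hrange hlt.le).resolve_right hlt.ne
  have hPR : ⁅V, A⁆ = f.range := by
    refine le_antisymm ?_ ?_
    · rw [Subgroup.commutator_le]
      intro v hv x hx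
      rw [← hz] at hx
      obtain ⟨i, rfl⟩ := mem_powers_iff_mem_zpowers.mpr hx
      simp only
      induction i generalizing v with
      | zero => simp [one_mem]
      | succ i ih =>
        have e : ⁅v, a ^ (i + 1)⁆ = ⁅v, a ^ i⁆ * (a ^ i * (a * v * a⁻¹ * v⁻¹)⁻¹ * (a ^ i)⁻¹) := by
          rw [pow_succ]; simp only [commutatorElement_def]; group
        rw [e]
        refine mul_mem (ih v hv (pow_mem (mem_zpowers a) i)) ?_
        exact (mem_normalizer_iff.mp (hRn (pow_mem ha i)) _).mp (inv_mem ⟨⟨v, hv⟩, rfl⟩)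
    · rintro _ ⟨v, rfl⟩
      show a * (v : G) * a⁻¹ * (v : G)⁻¹ ∈ _
      rw [show a * (v : G) * a⁻¹ * (v : G)⁻¹ = ⁅(v : G), a⁆⁻¹ by simp only [commutatorElement_def]; group]
      exact inv_mem (commutator_mem_commutator v.2 ha)
  refine ⟨hcard, by rw [hPR, hrange], hidx, ?_⟩
  rw [hPR]
  exact le_inf hrV (Subgroup.commutator_eq_bot_iff_le_centralizer.mp hRc)

/-- A subgroup of `H` stabilizing a series `1 ≤ P ≤ U ≤ V` is a `p`-group. -/
theorem isPGroup_of_series {X : Set G} (hX : X ⊆ H) {P U : Subgroup G} (hPU : P ≤ U) (hUV : U ≤ V)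
    (h1 : ∀ g ∈ X, ∀ v ∈ V, g * v * g⁻¹ * v⁻¹ ∈ U) (h2 : ∀ g ∈ X, ∀ u ∈ U, g * u * g⁻¹ * u⁻¹ ∈ P)
    (h3 : ∀ g ∈ X, ∀ w ∈ P, g * w * g⁻¹ = w) : IsPGroup p (closure X) := by
  let M : Submonoid G :=
    { carrier := {g | g ∈ H ∧ (∀ v ∈ V, g * v * g⁻¹ * v⁻¹ ∈ U) ∧ (∀ u ∈ U, g * u * g⁻¹ * u⁻¹ ∈ P) ∧
        ∀ w ∈ P, g * w * g⁻¹ = w}
      one_mem' := ⟨one_mem H, fun v _ => by simp, fun v _ => by simp, fun v _ => by simp⟩
      mul_mem' := fun {g k} hg hk => by
        obtain ⟨gH, g1, g2, g3⟩ := hg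
        obtain ⟨kH, k1, k2, k3⟩ := hk
        have gU : ∀ u ∈ U, g * u * g⁻¹ ∈ U := fun u hu => by
          simpa using mul_mem (hPU (g2 u hu)) hu
        have gP : ∀ w ∈ P, g * w * g⁻¹ ∈ P := fun w hw => by rw [g3 w hw]; exact hw
        refine ⟨mul_mem gH kH, fun v hv => ?_, fun v hv => ?_, fun w hw => ?_⟩
        · rw [show g * k * v * (g * k)⁻¹ * v⁻¹ = (g * (k * v * k⁻¹ * v⁻¹) * g⁻¹) * (g * v * g⁻¹ * v⁻¹) by group]
          exact mul_mem (gU _ (k1 v hv)) (g1 v hv)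
        · rw [show g * k * v * (g * k)⁻¹ * v⁻¹ = (g * (k * v * k⁻¹ * v⁻¹) * g⁻¹) * (g * v * g⁻¹ * v⁻¹) by group]
          exact mul_mem (gP _ (k2 v hv)) (g2 v hv)
        · rw [show g * k * w * (g * k)⁻¹ = g * (k * w * k⁻¹) * g⁻¹ by group, k3 w hw, g3 w hw] }
  have hle : ∀ g ∈ closure X, g ∈ M := by
    intro g hg
    induction hg using Subgroup.closure_induction with
    | mem x hx => exact ⟨hX hx, h1 x hx, h2 x hx, h3 x hx⟩
    | one => exact M.one_mem
    | mul a b _ _ ha hb => exact M.mul_mem ha hb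
    | inv a _ ha =>
      obtain ⟨n, hn⟩ : ∃ n, a ^ n = a⁻¹ := ⟨orderOf a - 1, eq_inv_of_mul_eq_one_left (by
        rw [← pow_succ, Nat.sub_add_cancel (orderOf_pos a), pow_orderOf_eq_one])⟩
      rw [← hn]; exact pow_mem ha n
  intro g
  refine ⟨2, Subtype.ext ?_⟩
  rw [SubmonoidClass.coe_pow, OneMemClass.coe_one, pow_two, pow_mul]
  obtain ⟨gH, g1, g2, g3⟩ := hle g g.2
  set x : G := (g : G) with hx
  have hP : ∀ w ∈ P, x * w = w * x := fun w hw => mul_inv_eq_iff_eq_mul.mp (g3 w hw)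
  -- `x ^ p` centralizes `U`
  have hxU : ∀ u ∈ U, x ^ p * u * (x ^ p)⁻¹ = u := by
    intro u hu
    rw [conj_pow_eq (a := x) (v := u) (w := x * u * x⁻¹ * u⁻¹) (by group) (hP _ (g2 u hu)) p,
      hc.ea.2 _ (hUV (hPU (g2 u hu))), one_mul]
  have hxV : ∀ v ∈ V, x ^ p * v * (x ^ p)⁻¹ * v⁻¹ ∈ U := (M.pow_mem (hle g g.2) p).2.1
  refine hc.eq_one (pow_mem (pow_mem gH p) p) fun v hv => ?_
  have h := conj_pow_eq (a := x ^ p) (v := v) (w := x ^ p * v * (x ^ p)⁻¹ * v⁻¹) (by group)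
    (mul_inv_eq_iff_eq_mul.mp (hxU _ (hxV v hv))) p
  rw [hc.ea.2 _ (hUV (hxV v hv)), one_mul] at h
  exact mul_inv_eq_iff_eq_mul.mp h

theorem conj_mem_of_trans {A : Subgroup G} (hA : IsTrans p V A) {a v : G} (ha : a ∈ A) (hv : v ∈ V) :
    a * v * a⁻¹ * v⁻¹ ∈ ⁅V, A⁆ := by
  rw [show a * v * a⁻¹ * v⁻¹ = ⁅v, a⁆⁻¹ by simp only [commutatorElement_def]; group]
  exact inv_mem (commutator_mem_commutator hv ha)

theorem fix_of_trans {A : Subgroup G} (hA : IsTrans p V A) {a w : G} (ha : a ∈ A)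
    (hw : w ∈ V ⊓ centralizer (A : Set G)) : a * w * a⁻¹ = w := by
  rw [Subgroup.mem_centralizer_iff.mp hw.2 a ha, mul_inv_cancel_right]

/-- Two transvection groups with the same centre and axis coincide. -/
theorem trans_eq {A B : Subgroup G} (hAH : A ≤ H) (hBH : B ≤ H) (hA : IsTrans p V A) (hB : IsTrans p V B)
    (hP : ⁅V, B⁆ ≤ ⁅V, A⁆) (hC : V ⊓ centralizer (A : Set G) ≤ V ⊓ centralizer (B : Set G)) : B = A := by
  set CA := V ⊓ centralizer (A : Set G) with hCA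
  obtain ⟨v, hv, hvC⟩ : ∃ v ∈ V, v ∉ CA := by
    by_contra hcon
    push Not at hcon
    have h1 := Subgroup.card_le_of_le (show V ≤ CA from hcon)
    have h2 := hA.index
    have := hp.out.two_le
    have h3 : 0 < Nat.card CA := Nat.card_pos
    nlinarith
  obtain ⟨a, ha, ha1, hz, -⟩ := exists_zpowers_eq_of_card hA.card
  obtain ⟨b, hb, hb1, hzb, -⟩ := exists_zpowers_eq_of_card hB.card
  set π := a * v * a⁻¹ * v⁻¹ with hπ
  have hπP : π ∈ ⁅V, A⁆ := hc.conj_mem_of_trans hA ha hv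
  have hπ1 : π ≠ 1 := fun e => hvC (Subgroup.mem_inf.mpr ⟨hv, by
    rw [← hz, Subgroup.mem_centralizer_iff]
    have hc' : Commute a v := mul_inv_eq_iff_eq_mul.mp (mul_inv_eq_one.mp e)
    rintro _ ⟨i, rfl⟩
    exact (hc'.zpow_left i).eq⟩)
  obtain ⟨i, hi⟩ : ∃ i : ℕ, π ^ i = b * v * b⁻¹ * v⁻¹ := by
    have hmem : b * v * b⁻¹ * v⁻¹ ∈ zpowers π :=
      (eq_zpowers_of_card hA.cardP hπP hπ1).symm ▸ hP (hc.conj_mem_of_trans hB hb hv)
    obtain ⟨i, hi⟩ := mem_powers_iff_mem_zpowers.mpr hmem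
    exact ⟨i, hi⟩
  have hVgen : V ≤ zpowers v ⊔ CA := by
    have hle : CA ≤ zpowers v ⊔ CA := le_sup_right
    have hlt : CA < zpowers v ⊔ CA := lt_of_le_of_ne hle fun e => hvC (e ▸ mem_sup_left (mem_zpowers v))
    have hsV : zpowers v ⊔ CA ≤ V := sup_le (zpowers_le.mpr hv) inf_le_left
    refine (Subgroup.eq_of_le_of_card_ge hsV ?_).ge
    obtain ⟨m, hm⟩ := IsPGroup.iff_card.mp (isPGroup_of_EA (isEA_mono hc.ea (inf_le_left : CA ≤ V)))
    obtain ⟨k, hk⟩ := IsPGroup.iff_card.mp (isPGroup_of_EA (isEA_mono hc.ea hsV))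
    have hmk : Nat.card CA < Nat.card (zpowers v ⊔ CA : Subgroup G) := by
      by_contra h
      exact hlt.ne (Subgroup.eq_of_le_of_card_ge hlt.le (not_lt.mp h))
    rw [hm, hk, Nat.pow_lt_pow_iff_right hp.out.one_lt] at hmk
    rw [← hA.index, hk, hm, ← pow_succ]
    exact Nat.pow_le_pow_right hp.out.pos hmk
  have hbe : b = a ^ i := by
    refine hc.ext (hBH hb) (pow_mem (hAH ha) i) hVgen ?_ fun w hw => ?_
    · intro u hu
      obtain ⟨j, rfl⟩ := hu
      show b * v ^ j * b⁻¹ = a ^ i * v ^ j * (a ^ i)⁻¹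
      rw [← conj_zpow, ← conj_zpow]
      congr 1
      rw [conj_pow_eq (a := a) (v := v) (w := π) (by rw [hπ]; group)
        (Subgroup.mem_centralizer_iff.mp (hA.le hπP).2 a ha) i, hi]
      group
    · rw [hc.fix_of_trans hB hb (hC hw), hc.fix_of_trans hA (pow_mem ha i) hw]
  have hle : B ≤ A := hzb ▸ zpowers_le.mpr (hbe ▸ pow_mem ha i)
  exact Subgroup.eq_of_le_of_card_ge hle (by rw [hA.card, hB.card])

/-- A pair of transvection groups not generating a `p`-group. -/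
theorem pair_nondeg {A B : Subgroup G} (hAH : A ≤ H) (hBH : B ≤ H) (hA : IsTrans p V A) (hB : IsTrans p V B)
    (hL : ¬ IsPGroup p (A ⊔ B : Subgroup G)) : ¬ ⁅V, A⁆ ≤ V ⊓ centralizer (B : Set G) := by
  intro hle
  apply hL
  have hUV : ⁅V, A⁆ ⊔ ⁅V, B⁆ ≤ V := sup_le (hA.le.trans inf_le_left) (hB.le.trans inf_le_left)
  have key := hc.isPGroup_of_series (X := (A : Set G) ∪ (B : Set G)) (Set.union_subset hAH hBH)
    (P := ⁅V, A⁆) (U := ⁅V, A⁆ ⊔ ⁅V, B⁆) le_sup_left hUV ?_ ?_ ?_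
  · rwa [Subgroup.closure_union, Subgroup.closure_eq, Subgroup.closure_eq] at key
  · rintro g (hg | hg) v hv
    · exact mem_sup_left (hc.conj_mem_of_trans hA hg hv)
    · exact mem_sup_right (hc.conj_mem_of_trans hB hg hv)
  · rintro g (hg | hg) u hu
    · exact hc.conj_mem_of_trans hA hg (hUV hu)
    · have : ⁅V, A⁆ ⊔ ⁅V, B⁆ ≤ V ⊓ centralizer (B : Set G) := sup_le hle hB.le
      rw [hc.fix_of_trans hB hg (this hu), mul_inv_cancel]
      exact one_mem _
  · rintro g (hg | hg) w hw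
    · exact hc.fix_of_trans hA hg (hA.le hw)
    · exact hc.fix_of_trans hB hg (hle hw)

theorem card_sup_mul_inf_V {X Y : Subgroup G} (hX : X ≤ V) (hY : Y ≤ V) :
    Nat.card (X ⊔ Y : Subgroup G) * Nat.card (X ⊓ Y : Subgroup G) = Nat.card X * Nat.card Y :=
  card_sup_mul_card_inf fun x hx => Subgroup.centralizer_le_normalizer _
    (Subgroup.mem_centralizer_iff.mpr fun _ hy => hc.commV (hY hy) (hX hx))

/-- The decomposition defined by a nondegenerate pair. -/
theorem pair_decomp {A B : Subgroup G} (hA : IsTrans p V A) (hB : IsTrans p V B)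
    (hAB : ¬ ⁅V, A⁆ ≤ V ⊓ centralizer (B : Set G)) (hBA : ¬ ⁅V, B⁆ ≤ V ⊓ centralizer (A : Set G)) :
    Nat.card (⁅V, A⁆ ⊔ ⁅V, B⁆ : Subgroup G) = p ^ 2 ∧
      (⁅V, A⁆ ⊔ ⁅V, B⁆) ⊓ (V ⊓ centralizer ((A ⊔ B : Subgroup G) : Set G)) = ⊥ ∧
      V ≤ (⁅V, A⁆ ⊔ ⁅V, B⁆) ⊔ (V ⊓ centralizer ((A ⊔ B : Subgroup G) : Set G)) ∧
      ⁅V, A⁆ ⊓ ⁅V, B⁆ = ⊥ := by
  set P := ⁅V, A⁆ with hP
  set R := ⁅V, B⁆ with hR
  set CA := V ⊓ centralizer (A : Set G) with hCA
  set CB := V ⊓ centralizer (B : Set G) with hCB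
  have hPV : P ≤ V := hA.le.trans inf_le_left
  have hRV : R ≤ V := hB.le.trans inf_le_left
  have hPR : P ⊓ R = ⊥ := (eq_bot_or_eq_of_le_card_prime hA.cardP inf_le_left).resolve_right fun e =>
    hAB ((e.ge.trans inf_le_right).trans hB.le)
  have hUc : Nat.card (P ⊔ R : Subgroup G) = p ^ 2 := by
    have := hc.card_sup_mul_inf_V hPV hRV
    rwa [hPR, Subgroup.card_bot, mul_one, hA.cardP, hB.cardP, ← pow_two] at this
  have hW : V ⊓ centralizer ((A ⊔ B : Subgroup G) : Set G) = CA ⊓ CB := by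
    refine le_antisymm (le_inf (inf_le_inf_left V (Subgroup.centralizer_le (SetLike.coe_subset_coe.mpr le_sup_left)))
      (inf_le_inf_left V (Subgroup.centralizer_le (SetLike.coe_subset_coe.mpr le_sup_right)))) ?_
    refine le_inf (inf_le_left.trans inf_le_left) (le_centralizer_iff.mp (sup_le ?_ ?_))
    · exact le_centralizer_iff.mp (inf_le_left.trans inf_le_right)
    · exact le_centralizer_iff.mp (inf_le_right.trans inf_le_right)
  have hUW : (P ⊔ R) ⊓ (CA ⊓ CB) = ⊥ := by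
    rw [eq_bot_iff]
    intro x hx
    obtain ⟨hxU, hxA, hxB⟩ := hx
    obtain ⟨y, hy, z, hz, rfl⟩ := Coprime.exists_mul_of_mem_sup (fun z hz => Subgroup.centralizer_le_normalizer _
      (Subgroup.mem_centralizer_iff.mpr fun y hy => hc.commV (hPV hy) (hRV hz))) hxU
    have hz1 : z = 1 := by
      rcases eq_or_ne z 1 with h | h
      · exact h
      · exfalso
        have hzA : z ∈ CA := inv_mul_cancel_left y z ▸ mul_mem (inv_mem (hA.le hy)) hxA
        exact hBA ((eq_zpowers_of_card hB.cardP hz h).ge.trans (zpowers_le.mpr hzA))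
    subst hz1
    rw [mul_one] at hxB ⊢
    rw [Subgroup.mem_bot]
    by_contra h
    exact hAB ((eq_zpowers_of_card hA.cardP hy h).ge.trans (zpowers_le.mpr hxB))
  refine ⟨hUc, by rw [hW]; exact hUW, ?_, hPR⟩
  rw [hW]
  have hsV : (P ⊔ R) ⊔ (CA ⊓ CB) ≤ V := sup_le (sup_le hPV hRV) (inf_le_left.trans inf_le_left)
  refine (Subgroup.eq_of_le_of_card_ge hsV ?_).ge
  have e1 := hc.card_sup_mul_inf_V (sup_le hPV hRV) (inf_le_left.trans inf_le_left : CA ⊓ CB ≤ V)
  rw [hUW, Subgroup.card_bot, mul_one, hUc] at e1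
  rw [e1]
  have e2 := hc.card_sup_mul_inf_V (inf_le_left : CA ≤ V) (inf_le_left : CB ≤ V)
  have e3 : Nat.card (CA ⊔ CB : Subgroup G) ≤ Nat.card V := Subgroup.card_le_of_le (sup_le inf_le_left inf_le_left)
  have e4 := hA.index
  have e5 := hB.index
  have hV0 : 0 < Nat.card V := Nat.card_pos
  refine Nat.le_of_mul_le_mul_left ?_ hV0
  calc Nat.card V * Nat.card V = (Nat.card CA * p) * (Nat.card CB * p) := by rw [e4, e5]
    _ = p ^ 2 * (Nat.card CA * Nat.card CB) := by ring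
    _ = p ^ 2 * (Nat.card (CA ⊔ CB : Subgroup G) * Nat.card (CA ⊓ CB : Subgroup G)) := by rw [e2]
    _ ≤ p ^ 2 * (Nat.card V * Nat.card (CA ⊓ CB : Subgroup G)) :=
        Nat.mul_le_mul le_rfl (Nat.mul_le_mul e3 le_rfl)
    _ = _ := by ring

/-- A nondegenerate pair generates `SL(2, p)`. -/
theorem pair_sl2 {A B : Subgroup G} (hAH : A ≤ H) (hBH : B ≤ H) (hA : IsTrans p V A) (hB : IsTrans p V B)
    (hAB : ¬ ⁅V, A⁆ ≤ V ⊓ centralizer (B : Set G)) (hBA : ¬ ⁅V, B⁆ ≤ V ⊓ centralizer (A : Set G)) :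
    Nonempty ((A ⊔ B : Subgroup G) ≃* Matrix.SpecialLinearGroup (Fin 2) (ZMod p)) := by
  classical
  obtain ⟨hUc, hUW, hV, hPR⟩ := hc.pair_decomp hA hB hAB hBA
  set P := ⁅V, A⁆ with hP
  set R := ⁅V, B⁆ with hR
  set L := A ⊔ B with hL
  have hLH : L ≤ H := sup_le hAH hBH
  have hPV : P ≤ V := hA.le.trans inf_le_left
  have hRV : R ≤ V := hB.le.trans inf_le_left
  have hLU : ∀ g ∈ L, ∀ x ∈ P ⊔ R, g * x * g⁻¹ ∈ P ⊔ R := by
    have : L ≤ normalizer ((P ⊔ R : Subgroup G) : Set G) := by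
      refine sup_le (fun a ha => mem_normalizer_fintype fun x hx => ?_) (fun b hb => mem_normalizer_fintype fun x hx => ?_)
      · simpa using mul_mem (mem_sup_left (T := R) (hc.conj_mem_of_trans hA ha (sup_le hPV hRV hx))) hx
      · simpa using mul_mem (mem_sup_right (S := P) (hc.conj_mem_of_trans hB hb (sup_le hPV hRV hx))) hx
    exact fun g hg x hx => (mem_normalizer_iff.mp (this hg) x).mp hx
  -- bases
  obtain ⟨u2, hu2, hu21, hzu2, -⟩ := exists_zpowers_eq_of_card hB.cardP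
  obtain ⟨a0, ha0, ha01, hza0, -⟩ := exists_zpowers_eq_of_card hA.card
  set u1 := a0 * u2 * a0⁻¹ * u2⁻¹ with hu1def
  have hu1 : u1 ∈ P := hc.conj_mem_of_trans hA ha0 (hRV hu2)
  have hu11 : u1 ≠ 1 := by
    intro e
    refine hBA (hzu2.symm.trans_le (zpowers_le.mpr (Subgroup.mem_inf.mpr ⟨hRV hu2, ?_⟩)))
    rw [← hza0, Subgroup.mem_centralizer_iff]
    have h : Commute a0 u2 := mul_inv_eq_iff_eq_mul.mp (mul_inv_eq_one.mp e)
    rintro _ ⟨i, rfl⟩
    exact (h.zpow_left i).eq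
  obtain ⟨b0, hb0, hb01, hzb0, -⟩ := exists_zpowers_eq_of_card hB.card
  set π := b0 * u1 * b0⁻¹ * u1⁻¹ with hπ
  have hπR : π ∈ R := hc.conj_mem_of_trans hB hb0 (hPV hu1)
  have hπ1 : π ≠ 1 := by
    intro e
    refine hAB ((eq_zpowers_of_card hA.cardP hu1 hu11).ge.trans (zpowers_le.mpr (Subgroup.mem_inf.mpr ⟨hPV hu1, ?_⟩)))
    rw [← hzb0, Subgroup.mem_centralizer_iff]
    have h : Commute b0 u1 := mul_inv_eq_iff_eq_mul.mp (mul_inv_eq_one.mp e)
    rintro _ ⟨i, rfl⟩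
    exact (h.zpow_left i).eq
  obtain ⟨s, hs⟩ : ∃ s : ℕ, π ^ s = u2 := by
    obtain ⟨s, hs⟩ := mem_powers_iff_mem_zpowers.mpr ((eq_zpowers_of_card hB.cardP hπR hπ1).symm ▸ hu2)
    exact ⟨s, hs⟩
  set b1 := b0 ^ s with hb1def
  have hb1B : b1 ∈ B := pow_mem hb0 s
  have hb1u1 : b1 * u1 * b1⁻¹ = u2 * u1 := by
    rw [hb1def, conj_pow_eq (a := b0) (v := u1) (w := π) (by rw [hπ]; group)
      (Subgroup.mem_centralizer_iff.mp (hB.le hπR).2 b0 hb0) s, hs]
  have ha0u1 : a0 * u1 * a0⁻¹ = u1 := hc.fix_of_trans hA ha0 (hA.le hu1)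
  have hb1u2 : b1 * u2 * b1⁻¹ = u2 := hc.fix_of_trans hB hb1B (hB.le hu2)
  have ha0u2 : a0 * u2 * a0⁻¹ = u1 * u2 := by rw [hu1def]; group
  have hb11 : b1 ≠ 1 := fun e => hu21 (by simpa [e] using hb1u1.symm)
  have hgenL : closure ({a0, b1} : Set G) = L := by
    rw [Set.insert_eq, Subgroup.closure_union, ← zpowers_eq_closure, ← zpowers_eq_closure, hza0,
      eq_zpowers_of_card hB.card hb1B hb11]
  -- coordinates
  have hu1p : u1 ^ p = 1 := hc.ea.2 u1 (hPV hu1)
  have hu2p : u2 ^ p = 1 := hc.ea.2 u2 (hRV hu2)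
  let e : (Fin 2 → ZMod p) → (P ⊔ R : Subgroup G) := fun x =>
    ⟨u1 ^ (x 0).val * u2 ^ (x 1).val, mul_mem (mem_sup_left (pow_mem hu1 _)) (mem_sup_right (pow_mem hu2 _))⟩
  haveI : NeZero p := ⟨hp.out.ne_zero⟩
  have hpow : ∀ {u : G}, u ^ p = 1 → ∀ i j : ZMod p, u ^ (i + j).val = u ^ i.val * u ^ j.val := fun hu i j => by
    rw [← pow_add, ZMod.val_add, ← pow_eq_pow_mod _ hu]
  have he : ∀ x y, (e (x + y) : G) = e x * e y := fun x y => by
    show u1 ^ (x 0 + y 0).val * u2 ^ (x 1 + y 1).val = (u1 ^ (x 0).val * u2 ^ (x 1).val) * (u1 ^ (y 0).val * u2 ^ (y 1).val)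
    rw [hpow hu1p, hpow hu2p]
    have h := hc.commV (pow_mem (hRV hu2) (x 1).val) (pow_mem (hPV hu1) (y 0).val)
    calc u1 ^ (x 0).val * u1 ^ (y 0).val * (u2 ^ (x 1).val * u2 ^ (y 1).val)
        = u1 ^ (x 0).val * (u1 ^ (y 0).val * u2 ^ (x 1).val) * u2 ^ (y 1).val := by group
      _ = _ := by rw [← h]; group
  have hsurj : Function.Surjective e := by
    rintro ⟨x, hx⟩
    obtain ⟨y, hy, z, hz, rfl⟩ := Coprime.exists_mul_of_mem_sup (fun z hz => Subgroup.centralizer_le_normalizer _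
      (Subgroup.mem_centralizer_iff.mpr fun y hy => hc.commV (hPV hy) (hRV hz))) hx
    obtain ⟨i, rfl⟩ := mem_powers_iff_mem_zpowers.mpr ((eq_zpowers_of_card hA.cardP hu1 hu11).ge hy)
    obtain ⟨j, rfl⟩ := mem_powers_iff_mem_zpowers.mpr (hzu2.ge hz)
    refine ⟨![i, j], Subtype.ext ?_⟩
    show u1 ^ (i : ZMod p).val * u2 ^ (j : ZMod p).val = u1 ^ i * u2 ^ j
    rw [ZMod.val_natCast, ZMod.val_natCast, ← pow_eq_pow_mod _ hu1p, ← pow_eq_pow_mod _ hu2p]
  have hbij : Function.Bijective e := hsurj.bijective_of_nat_card_le (by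
    rw [hUc, Nat.card_fun, Nat.card_zmod, Nat.card_fin])
  let E : (Fin 2 → ZMod p) ≃ (P ⊔ R : Subgroup G) := Equiv.ofBijective e hbij
  let τ : L →* Equiv.Perm (Fin 2 → ZMod p) :=
    { toFun := fun g => E.trans ((Equiv.mk (fun x : (P ⊔ R : Subgroup G) => (⟨(g : G) * x * (g : G)⁻¹, hLU g g.2 x x.2⟩ : (P ⊔ R : Subgroup G)))
        (fun x => ⟨(g : G)⁻¹ * x * (g : G), by simpa using hLU _ (inv_mem g.2) x x.2⟩)
        (fun x => Subtype.ext (show (g : G)⁻¹ * ((g : G) * x * (g : G)⁻¹) * g = x by group))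
        (fun x => Subtype.ext (show (g : G) * ((g : G)⁻¹ * x * g) * (g : G)⁻¹ = x by group))).trans E.symm)
      map_one' := by ext x; simp
      map_mul' := fun g k => by ext x; simp [mul_assoc] }
  have hτ : ∀ (g : L) (x : Fin 2 → ZMod p), (e (τ g x) : G) = (g : G) * e x * (g : G)⁻¹ := fun g x => by
    show (E (E.symm _) : G) = _
    rw [E.apply_symm_apply]; rfl
  have hτi : Function.Injective τ := by
    rw [injective_iff_map_eq_one]
    intro g hg
    refine Subtype.ext (hc.eq_one (hLH g.2) fun v hv => ?_)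
    have key : (P ⊔ R) ⊔ (V ⊓ centralizer (L : Set G)) ≤ centralizer ({(g : G)} : Set G) := by
      refine sup_le (fun x hx => ?_) (fun x hx => ?_) <;> rw [Subgroup.mem_centralizer_singleton_iff]
      · obtain ⟨y, hy⟩ := hsurj ⟨x, hx⟩
        have h := hτ g y
        rw [hg, Equiv.Perm.one_apply, hy] at h
        exact (mul_inv_eq_iff_eq_mul.mp h.symm).symm
      · exact (Subgroup.mem_centralizer_iff.mp hx.2 g g.2).symm
    exact (Subgroup.mem_centralizer_singleton_iff.mp (key (hV hv))).symm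
  let σ : Matrix.SpecialLinearGroup (Fin 2) (ZMod p) →* Equiv.Perm (Fin 2 → ZMod p) :=
    { toFun := fun g => Equiv.mk (fun x => (g : Matrix (Fin 2) (Fin 2) (ZMod p)).mulVec x)
        (fun x => ((g⁻¹ : Matrix.SpecialLinearGroup (Fin 2) (ZMod p)) : Matrix (Fin 2) (Fin 2) (ZMod p)).mulVec x)
        (fun x => by
          simp only [Matrix.mulVec_mulVec]
          erw [← Matrix.SpecialLinearGroup.coe_mul, inv_mul_cancel, Matrix.SpecialLinearGroup.coe_one, Matrix.one_mulVec])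
        (fun x => by
          simp only [Matrix.mulVec_mulVec]
          erw [← Matrix.SpecialLinearGroup.coe_mul, mul_inv_cancel, Matrix.SpecialLinearGroup.coe_one, Matrix.one_mulVec])
      map_one' := by ext x; simp
      map_mul' := fun g k => Equiv.ext fun x => (Matrix.mulVec_mulVec x _ _).symm }
  have hσi : Function.Injective σ := by
    intro g k h
    refine Subtype.ext (Matrix.ext_iff_mulVec.mpr fun x => ?_)
    exact congrArg (fun f : Equiv.Perm (Fin 2 → ZMod p) => f x) h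
  have hee : ∀ x y, (e x : G) = e y → x = y := fun x y h => hbij.1 (Subtype.ext h)
  have hea : ∀ n : ZMod p, e ![n, 0] = (⟨u1 ^ n.val, mem_sup_left (pow_mem hu1 _)⟩ : (P ⊔ R : Subgroup G)) :=
    fun n => Subtype.ext (by show u1 ^ n.val * u2 ^ (0 : ZMod p).val = _; simp)
  have hτgen : ∀ (g : L) (x : Fin 2 → ZMod p) (M : Matrix.SpecialLinearGroup (Fin 2) (ZMod p)),
      (g : G) * u1 * (g : G)⁻¹ = e (σ M ![1, 0]) → (g : G) * u2 * (g : G)⁻¹ = e (σ M ![0, 1]) →
      τ g x = σ M x := by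
    intro g x M h1 h2
    apply hee
    rw [hτ]
    have hadd : ∀ n : ℕ, ∀ y, (e (n • y) : G) = (e y : G) ^ n := by
      intro n y
      induction n with
      | zero => rw [zero_smul, pow_zero]; show u1 ^ (0 : ZMod p).val * u2 ^ (0 : ZMod p).val = 1; simp
      | succ n ih => rw [succ_nsmul, he, ih, pow_succ]
    have hx : x = (x 0).val • ![1, 0] + (x 1).val • ![0, 1] := by
      ext i; fin_cases i <;> simp
    have e10 : (e ![1, 0] : G) = u1 := by
      show u1 ^ (1 : ZMod p).val * u2 ^ (0 : ZMod p).val = u1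
      rw [ZMod.val_one, ZMod.val_zero, pow_one, pow_zero, mul_one]
    have e01 : (e ![0, 1] : G) = u2 := by
      show u1 ^ (0 : ZMod p).val * u2 ^ (1 : ZMod p).val = u2
      rw [ZMod.val_one, ZMod.val_zero, pow_one, pow_zero, one_mul]
    conv_lhs => rw [hx, he, hadd, hadd, e10, e01]
    have hσadd : σ M x = (x 0).val • σ M ![1, 0] + (x 1).val • σ M ![0, 1] := by
      conv_lhs => rw [hx]
      show Matrix.mulVec (M.1) ((x 0).val • ![1, 0] + (x 1).val • ![0, 1]) = _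
      rw [Matrix.mulVec_add, Matrix.mulVec_smul, Matrix.mulVec_smul]
      rfl
    rw [hσadd, he, hadd, hadd, ← h1, ← h2, conj_pow, conj_pow]
    group
  have hA0L : a0 ∈ L := mem_sup_left ha0
  have hB1L : b1 ∈ L := mem_sup_right hb1B
  have h01 : ((0 : Fin 2)) ≠ 1 := by decide
  set X := Matrix.SpecialLinearGroup.transvection h01 (1 : ZMod p) with hXdef
  set Y := Matrix.SpecialLinearGroup.transvection h01.symm (1 : ZMod p) with hYdef
  have hτa : τ ⟨a0, hA0L⟩ = σ X := Equiv.ext fun x => hτgen _ x X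
    (by
      rw [show σ X ![1, 0] = ![1, 0] by
        ext i; fin_cases i <;> simp [σ, hXdef, Linear.transvection_val, Matrix.transvection, Matrix.mulVec, dotProduct]]
      show a0 * u1 * a0⁻¹ = u1 ^ (1 : ZMod p).val * u2 ^ (0 : ZMod p).val
      rw [ha0u1, ZMod.val_one, ZMod.val_zero, pow_one, pow_zero, mul_one])
    (by
      rw [show σ X ![0, 1] = ![1, 1] by
        ext i; fin_cases i <;> simp [σ, hXdef, Linear.transvection_val, Matrix.transvection, Matrix.mulVec, dotProduct]]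
      show a0 * u2 * a0⁻¹ = u1 ^ (1 : ZMod p).val * u2 ^ (1 : ZMod p).val
      rw [ha0u2, ZMod.val_one, pow_one, pow_one])
  have hτb : τ ⟨b1, hB1L⟩ = σ Y := Equiv.ext fun x => hτgen _ x Y
    (by
      rw [show σ Y ![1, 0] = ![1, 1] by
        ext i; fin_cases i <;> simp [σ, hYdef, Linear.transvection_val, Matrix.transvection, Matrix.mulVec, dotProduct]]
      show b1 * u1 * b1⁻¹ = u1 ^ (1 : ZMod p).val * u2 ^ (1 : ZMod p).val
      rw [hb1u1, ZMod.val_one, pow_one, pow_one, hc.commV (hRV hu2) (hPV hu1)])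
    (by
      rw [show σ Y ![0, 1] = ![0, 1] by
        ext i; fin_cases i <;> simp [σ, hYdef, Linear.transvection_val, Matrix.transvection, Matrix.mulVec, dotProduct]]
      show b1 * u2 * b1⁻¹ = u1 ^ (0 : ZMod p).val * u2 ^ (1 : ZMod p).val
      rw [hb1u2, ZMod.val_one, ZMod.val_zero, pow_one, pow_zero, one_mul])
  have hrange : τ.range = σ.range := by
    refine le_antisymm ?_ ?_
    · rintro _ ⟨⟨g, hg⟩, rfl⟩
      suffices h : L ≤ (σ.range.comap τ).map L.subtype by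
        obtain ⟨g', hg', e'⟩ := h hg
        rwa [show g' = ⟨g, hg⟩ from Subtype.ext e'] at hg'
      conv_lhs => rw [← hgenL]
      rw [Subgroup.closure_le]
      rintro x (rfl | rfl)
      · exact ⟨⟨_, hA0L⟩, ⟨X, hτa.symm⟩, rfl⟩
      · exact ⟨⟨_, hB1L⟩, ⟨Y, hτb.symm⟩, rfl⟩
    · rintro _ ⟨M, rfl⟩
      suffices h : τ.range.comap σ = ⊤ from (h ▸ mem_top M : M ∈ τ.range.comap σ)
      refine Linear.eq_top_of_transvection_mem fun i j hij c => ?_
      obtain ⟨n, rfl⟩ : ∃ n : ℕ, (n : ZMod p) = c := ⟨c.val, ZMod.natCast_zmod_val c⟩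
      have hn : Matrix.SpecialLinearGroup.transvection hij (n : ZMod p) =
          Matrix.SpecialLinearGroup.transvection hij (1 : ZMod p) ^ n := by
        induction n with
        | zero =>
          rw [pow_zero]
          apply Subtype.ext
          simp [Linear.transvection_val, Matrix.transvection]
        | succ n ih =>
          rw [pow_succ, ← ih]
          apply Subtype.ext
          rw [Matrix.SpecialLinearGroup.coe_mul, Linear.transvection_val, Linear.transvection_val,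
            Linear.transvection_val, Matrix.transvection_mul_transvection_same _ _ hij]
          push_cast; rfl
      rw [hn]
      refine pow_mem ?_ n
      rw [Subgroup.mem_comap]
      rcases Fin.exists_fin_two.mp ⟨i, rfl⟩ with rfl | rfl <;>
        rcases Fin.exists_fin_two.mp ⟨j, rfl⟩ with rfl | rfl
      · exact absurd rfl hij
      · exact ⟨⟨a0, hA0L⟩, hτa⟩
      · exact ⟨⟨b1, hB1L⟩, hτb⟩
      · exact absurd rfl hij
  exact ⟨(MonoidHom.ofInjective hτi).trans ((MulEquiv.subgroupCongr hrange).trans (MonoidHom.ofInjective hσi).symm)⟩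

end ActsFaithfully

end Cfsg.Agent.PLocal
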