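/-
The structure of groups generated by best offenders, with `C(O_{p'}) ≤ O_{p'}`.
-/
import Cfsg.Agent.PLocal.TransvectionPair
import Cfsg.Agent.Coprime.Generation
import Cfsg.Agent.Core.Cores
import Cfsg.Agent.Core.PiSeparable
import Cfsg.Agent.Dickson.PSolvable
import Cfsg.Agent.Linear.Card
import Cfsg.Prelude.Def_PLocal

set_option linter.unusedSectionVars false
set_option linter.style.haveILetI false

namespace Cfsg.Agent.PLocal

open Subgroup Cfsg
open scoped commutatorElement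

variable {G : Type*} [Group G] [Finite G] {p : ℕ} [hp : Fact p.Prime]

/-- `O_{p'}(H)` inside `G`. -/
def oQ (p : ℕ) (H : Subgroup G) : Subgroup G := (pPrimeCore p H).map H.subtype

/-- The standing hypothesis. -/
structure OffCtx (p : ℕ) (V H : Subgroup G) : Prop where
  act : ActsFaithfully p V H
  self : centralizer (pPrimeCore p H : Set H) ≤ pPrimeCore p H

/-- `[O_{p'}(H), A] A`. -/
def eOff (p : ℕ) (H A : Subgroup G) : Subgroup G := ⁅oQ p H, A⁆ ⊔ A

namespace OffCtx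

variable {V H : Subgroup G} (hc : OffCtx p V H)
include hc

theorem Q_le : oQ p H ≤ H := Subgroup.map_subtype_le _

theorem Q_cop : (Nat.card (oQ p H)).Coprime p := by
  rw [oQ, Subgroup.card_map_of_injective H.subtype_injective]
  exact Core.card_pPrimeCore_coprime p H

theorem Q_norm : H ≤ normalizer (oQ p H : Set G) := fun h hh => mem_normalizer_fintype fun x hx => by
  obtain ⟨y, hy, rfl⟩ := hx
  exact ⟨⟨h, hh⟩ * y * ⟨h, hh⟩⁻¹, (inferInstance : (pPrimeCore p H).Normal).conj_mem y hy _, rfl⟩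

theorem Q_self {h : G} (hh : h ∈ H) (hq : ∀ q ∈ oQ p H, q * h = h * q) : h ∈ oQ p H :=
  ⟨⟨h, hh⟩, hc.self (Subgroup.mem_centralizer_iff.mpr fun y hy => Subtype.ext (hq y ⟨y, hy, rfl⟩)), rfl⟩

theorem eq_one_of_Q {g : G} {K : Subgroup G} (hK : IsPGroup p K) (hg : g ∈ K) (hQ : g ∈ oQ p H) : g = 1 := by
  obtain ⟨k, hk⟩ := IsPGroup.iff_card.mp hK
  exact orderOf_eq_one_iff.mp (Nat.eq_one_of_dvd_coprimes (hc.Q_cop.pow_right k)
    (Subgroup.orderOf_dvd_natCard _ hQ) (hk ▸ Subgroup.orderOf_dvd_natCard _ hg))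

theorem offender_EA {A : Subgroup G} (hA : A ≤ H) (ho : IsBestOffenderOn p V A) : IsElementaryAbelian p A := by
  obtain ⟨-, h2, h3⟩ := ho
  refine ⟨?_, fun a ha => ?_⟩
  · rw [← le_centralizer_iff_isMulCommutative, ← commutator_eq_bot_iff_le_centralizer, ← le_bot_iff, ← hc.act.faith]
    exact le_inf (le_trans (Subgroup.commutator_le_self A) hA) h2
  · rw [← Subgroup.mem_bot, ← hc.act.faith]
    exact ⟨pow_mem (hA ha) p, h3 a ha⟩

/-- A hyperplane `B ∌ e` of `A` whose fixed points in `O_{p'}` are not all centralized by `e`. -/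
theorem exists_hyperplane {A : Subgroup G} (hA : A ≤ H) (hea : IsElementaryAbelian p A) {e : G} (he : e ∈ A)
    (he1 : e ≠ 1) :
    ∃ B : Subgroup G, B ≤ A ∧ Nat.card B * p = Nat.card A ∧ e ∉ B ∧
      ¬ oQ p H ⊓ centralizer (B : Set G) ≤ centralizer ({e} : Set G) := by
  set Q := oQ p H with hQ
  have hbot : ¬ Q ⊓ centralizer ((⊥ : Subgroup G) : Set G) ≤ centralizer ({e} : Set G) := by
    intro hle
    apply he1
    refine hc.eq_one_of_Q (isPGroup_of_EA hea) he (hc.Q_self (hA he) fun q hq => ?_)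
    exact Subgroup.mem_centralizer_singleton_iff.mp (hle ⟨hq, Subgroup.mem_centralizer_iff.mpr fun x hx => by
      rw [Subgroup.mem_bot.mp hx, one_mul, mul_one]⟩)
  obtain ⟨B, ⟨hBA, hB⟩, hmax⟩ := (Set.toFinite {B : Subgroup G | B ≤ A ∧
    ¬ Q ⊓ centralizer (B : Set G) ≤ centralizer ({e} : Set G)}).exists_maximalFor (fun B : Subgroup G => Nat.card B) _
    (⟨⊥, ⟨bot_le, hbot⟩⟩ : Set.Nonempty {B : Subgroup G | B ≤ A ∧
      ¬ Q ⊓ centralizer (B : Set G) ≤ centralizer ({e} : Set G)})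
  have heB : e ∉ B := fun h => hB fun q hq => Subgroup.mem_centralizer_singleton_iff.mpr
    (Subgroup.mem_centralizer_iff.mp hq.2 e h).symm
  refine ⟨B, hBA, ?_, heB, hB⟩
  haveI := hea.1
  -- a complement
  obtain ⟨E, ⟨hEA, hEB⟩, hEmax⟩ := (Set.toFinite {E : Subgroup G | E ≤ A ∧ B ⊓ E = ⊥}).exists_maximalFor
    (fun E : Subgroup G => Nat.card E) _ ⟨⊥, bot_le, inf_bot_eq B⟩
  have hBn : ∀ {X Y : Subgroup G}, X ≤ A → Y ≤ A → Y ≤ normalizer (X : Set G) := fun {X Y} hX hY =>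
    (hY.trans (le_centralizer_iff_isMulCommutative.mpr hea.1)).trans
      ((Subgroup.centralizer_le hX).trans (Subgroup.centralizer_le_normalizer _))
  have hsup : B ⊔ E = A := by
    refine le_antisymm (sup_le hBA hEA) fun a ha => ?_
    by_contra hna
    have haE : a ∉ E := fun h => hna (mem_sup_right h)
    have hlt : E < E ⊔ zpowers a := lt_of_le_of_ne le_sup_left fun e' => haE (e' ▸ mem_sup_right (mem_zpowers a))
    have hmem : B ⊓ (E ⊔ zpowers a) = ⊥ := by
      rw [eq_bot_iff]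
      rintro x ⟨hxB, hxE⟩
      obtain ⟨u, hu, v, hv, rfl⟩ := Coprime.exists_mul_of_mem_sup (hBn hEA (zpowers_le.mpr ha)) hxE
      rw [Subgroup.mem_bot]
      rcases eq_or_ne v 1 with h | h
      · subst h
        rw [mul_one] at hxB ⊢
        exact Subgroup.mem_bot.mp (hEB ▸ ⟨hxB, hu⟩)
      · exfalso
        have hap : a ^ p = 1 := hea.2 a ha
        have ha1 : a ≠ 1 := fun e' => hna (e' ▸ one_mem _)
        have hz := eq_zpowers_of_card (A := zpowers a) (by rw [Nat.card_zpowers, orderOf_eq_prime hap ha1]) hv h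
        have : v ∈ B ⊔ E := by
          simpa using mul_mem (mem_sup_right (S := B) (inv_mem hu)) (mem_sup_left (T := E) hxB)
        exact hna ((zpowers_le.mpr this) (hz.symm ▸ mem_zpowers a))
    have hh := hEmax (show E ⊔ zpowers a ∈ _ from ⟨sup_le hEA (zpowers_le.mpr ha), hmem⟩) (Subgroup.card_le_of_le hlt.le)
    exact hlt.ne (Subgroup.eq_of_le_of_card_ge hlt.le hh)
  have hcard : Nat.card A = Nat.card B * Nat.card E := by
    have h := card_sup_mul_card_inf (hBn hEA hBA)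
    rwa [hEB, Subgroup.card_bot, mul_one, hsup] at h
  obtain ⟨k, hk⟩ := IsPGroup.iff_card.mp (isPGroup_of_EA (isEA_mono hea hEA))
  have hk0 : k ≠ 0 := by
    rintro rfl
    rw [pow_zero] at hk
    rw [hk, mul_one] at hcard
    exact heB ((Subgroup.eq_of_le_of_card_ge hBA hcard.le).symm ▸ he)
  have hk1 : k = 1 := by
    by_contra hne
    haveI := (isEA_mono hea hEA).1
    have hnc : ¬ IsCyclic E := by
      intro hcyc
      obtain ⟨g, hg⟩ := (Subgroup.isCyclic_iff_exists_zpowers_eq_top E).1 hcyc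
      have hgp : g ^ p = 1 := hea.2 g (hEA (hg ▸ mem_zpowers g))
      have := Nat.le_of_dvd hp.out.pos (orderOf_dvd_of_pow_eq_one hgp)
      rw [← Nat.card_zpowers, hg, hk] at this
      have h2 : p ^ 2 ≤ p ^ k := Nat.pow_le_pow_right hp.out.pos (by omega)
      have h3 := lt_of_lt_of_le (lt_self_pow₀ hp.out.one_lt (by omega : 1 < 2)) h2
      omega
    set N := Q ⊓ centralizer (B : Set G) with hN
    have hEN : E ≤ normalizer (N : Set G) := fun x hx => mem_normalizer_fintype fun q hq => by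
      refine Subgroup.mem_inf.mpr ⟨(mem_normalizer_iff.mp (hc.Q_norm (hA (hEA hx))) q).mp hq.1, ?_⟩
      rw [Subgroup.mem_centralizer_iff]
      intro y hy
      have hyx : y * x = x * y := comm_of_EA hea (hBA hy) (hEA hx)
      have hqy := Subgroup.mem_centralizer_iff.mp hq.2 y hy
      calc y * (x * q * x⁻¹) = (y * x) * q * x⁻¹ := by group
        _ = x * (y * q) * x⁻¹ := by rw [hyx]; group
        _ = x * q * (y * x⁻¹) := by rw [hqy]; group
        _ = x * q * (x⁻¹ * y) := by rw [(show Commute y x from hyx).inv_right.eq]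
        _ = _ := by group
    have hgen := Coprime.eq_centralizerJoin hnc hEN (by
      rw [hk]; exact ((hc.Q_cop.coprime_dvd_left (Subgroup.card_dvd_of_le inf_le_left)).pow_right k).symm)
    apply hB
    rw [← hgen]
    refine iSup_le fun f => ?_
    obtain ⟨f, hfE, hf1⟩ := f
    by_contra hnot
    have hlt : B < B ⊔ zpowers f := lt_of_le_of_ne le_sup_left fun e' => hf1 (Subgroup.mem_bot.mp
      (hEB ▸ ⟨e' ▸ mem_sup_right (mem_zpowers f), hfE⟩))
    have hmem : B ⊔ zpowers f ∈ {B : Subgroup G | B ≤ A ∧ ¬ Q ⊓ centralizer (B : Set G) ≤ centralizer ({e} : Set G)} := by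
      refine ⟨sup_le hBA (zpowers_le.mpr (hEA hfE)), fun hle => hnot fun q hq => hle ⟨hq.1.1, ?_⟩⟩
      refine (le_centralizer_iff.mp (sup_le ?_ ?_) : zpowers q ≤ centralizer ((B ⊔ zpowers f : Subgroup G) : Set G)) (mem_zpowers q)
      · exact le_centralizer_iff.mp (zpowers_le.mpr hq.1.2)
      · rw [zpowers_le, Subgroup.mem_centralizer_iff]
        intro y hy
        obtain ⟨i, rfl⟩ := hy
        exact ((show Commute q f from Subgroup.mem_centralizer_singleton_iff.mp hq.2).zpow_left i).eq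
    exact hlt.ne (Subgroup.eq_of_le_of_card_ge hlt.le (hmax hmem (Subgroup.card_le_of_le hlt.le)))
  rw [hcard, hk, hk1, pow_one]

/-- A hyperplane as above is again a best offender of the same value. -/
theorem hyperplane_value {A B : Subgroup G} (hA : A ≤ H) (ho : IsBestOffenderOn p V A) (hBA : B ≤ A)
    (hcard : Nat.card B * p = Nat.card A) {e : G} (he : e ∈ A)
    (hne : ¬ oQ p H ⊓ centralizer (B : Set G) ≤ centralizer ({e} : Set G)) :
    Nat.card B * Nat.card (V ⊓ centralizer (B : Set G) : Subgroup G) =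
      Nat.card A * Nat.card (V ⊓ centralizer (A : Set G) : Subgroup G) := by
  refine le_antisymm (ho.1 B hBA) (le_of_not_gt fun hlt => hne ?_)
  set CB := V ⊓ centralizer (B : Set G) with hCB
  set CA := V ⊓ centralizer (A : Set G) with hCA
  have hle : CA ≤ CB := inf_le_inf_left V (Subgroup.centralizer_le hBA)
  have heq : CA = CB := by
    refine Subgroup.eq_of_le_of_card_ge hle ?_
    obtain ⟨i, hi⟩ := IsPGroup.iff_card.mp (isPGroup_of_EA (isEA_mono hc.act.ea (inf_le_left : CA ≤ V)))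
    obtain ⟨j, hj⟩ := IsPGroup.iff_card.mp (isPGroup_of_EA (isEA_mono hc.act.ea (inf_le_left : CB ≤ V)))
    rw [← hcard, mul_assoc] at hlt
    have h1 := Nat.lt_of_mul_lt_mul_left hlt
    rw [hi, hj, ← pow_succ', Nat.pow_lt_pow_iff_right hp.out.one_lt] at h1
    rw [hi, hj]
    exact Nat.pow_le_pow_right hp.out.pos (by omega)
  intro q hq
  obtain ⟨hqQ, hqB⟩ := Subgroup.mem_inf.mp hq
  have heH := hA he
  have hea := hc.offender_EA hA ho
  set y := q * e * q⁻¹ * e⁻¹ with hy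
  have hyQ : y ∈ oQ p H := by
    rw [hy, show q * e * q⁻¹ * e⁻¹ = q * (e * q⁻¹ * e⁻¹) by group]
    exact mul_mem hqQ ((mem_normalizer_iff.mp (hc.Q_norm heH) _).mp (inv_mem hqQ))
  have hqH := hc.Q_le hqQ
  have hyC : ∀ w ∈ CB, y * w = w * y := by
    intro w hw
    have hw1 : q⁻¹ * w * q ∈ CB := by
      refine Subgroup.mem_inf.mpr ⟨hc.act.conjV' hqH hw.1, ?_⟩
      rw [Subgroup.mem_centralizer_iff]
      intro b hb
      have h1 := Subgroup.mem_centralizer_iff.mp hqB b hb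
      have h2 := Subgroup.mem_centralizer_iff.mp hw.2 b hb
      calc b * (q⁻¹ * w * q) = q⁻¹ * (q * b) * q⁻¹ * w * q := by group
        _ = q⁻¹ * (b * q) * q⁻¹ * w * q := by rw [h1]
        _ = q⁻¹ * (b * w) * q := by group
        _ = q⁻¹ * (w * b) * q := by rw [h2]
        _ = q⁻¹ * w * (b * q) := by group
        _ = q⁻¹ * w * (q * b) := by rw [h1]
        _ = _ := by group
    have c1 : e⁻¹ * w = w * e⁻¹ := Subgroup.mem_centralizer_iff.mp (heq.ge hw).2 _ (inv_mem he)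
    have c2 : e * (q⁻¹ * w * q) = (q⁻¹ * w * q) * e := Subgroup.mem_centralizer_iff.mp (heq.ge hw1).2 _ he
    calc y * w = q * e * q⁻¹ * (e⁻¹ * w) := by rw [hy]; group
      _ = q * (e * (q⁻¹ * w * q)) * q⁻¹ * e⁻¹ := by rw [c1]; group
      _ = w * y := by rw [c2, hy]; group
  have hBy : ⁅B, zpowers y⁆ = ⊥ := by
    rw [Subgroup.commutator_eq_bot_iff_le_centralizer]
    intro b hb
    rw [Subgroup.mem_centralizer_iff]
    rintro _ ⟨i, rfl⟩
    have c1 : Commute b q := Subgroup.mem_centralizer_iff.mp hqB b hb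
    have c2 : Commute b e := comm_of_EA hea (hBA hb) he
    exact ((((c1.mul_right c2).mul_right c1.inv_right).mul_right c2.inv_right).zpow_right i).eq.symm
  have hV := Coprime.commutator_eq_bot_of_PxQ (isPGroup_of_EA (isEA_mono hea hBA))
    (hc.Q_cop.coprime_dvd_left (Subgroup.card_dvd_of_le (zpowers_le.mpr hyQ))) hBy _ V rfl
    (isPGroup_of_EA hc.act.ea) ((hBA.trans hA).trans hc.act.norm)
    (zpowers_le.mpr (hc.act.norm (hc.Q_le hyQ))) (by
      rw [Subgroup.commutator_eq_bot_iff_le_centralizer]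
      intro w hw
      rw [Subgroup.mem_centralizer_iff]
      rintro _ ⟨i, rfl⟩
      exact ((show Commute y w from hyC w hw).zpow_left i).eq)
  have hy1 : y = 1 := hc.act.eq_one (hc.Q_le hyQ) fun v hv =>
    Subgroup.mem_centralizer_iff.mp (Subgroup.commutator_eq_bot_iff_le_centralizer.mp hV hv) y (mem_zpowers y)
  rw [Subgroup.mem_centralizer_singleton_iff]
  exact mul_inv_eq_iff_eq_mul.mp (mul_inv_eq_one.mp hy1)

theorem value_ge {A : Subgroup G} (ho : IsBestOffenderOn p V A) :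
    Nat.card V ≤ Nat.card A * Nat.card (V ⊓ centralizer (A : Set G) : Subgroup G) := by
  have h := ho.1 ⊥ bot_le
  rwa [Subgroup.card_bot, one_mul, show V ⊓ centralizer ((⊥ : Subgroup G) : Set G) = V from
    inf_eq_left.mpr fun v _ => Subgroup.mem_centralizer_iff.mpr fun x hx => by
      rw [Subgroup.mem_bot.mp hx, one_mul, mul_one]] at h

/-- The value of a best offender, and generation by offenders of order `p`. -/
theorem offender_main : ∀ (n : ℕ) (A : Subgroup G), Nat.card A = n → A ≤ H → IsBestOffenderOn p V A → A ≠ ⊥ →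
    Nat.card A * Nat.card (V ⊓ centralizer (A : Set G) : Subgroup G) = Nat.card V ∧
      A ≤ ⨆ B : {B : Subgroup G // B ≤ A ∧ IsBestOffenderOn p V B ∧ Nat.card B = p}, (B : Subgroup G) := by
  intro n
  induction n using Nat.strong_induction_on with
  | _ n ih =>
  intro A hn hA ho hne
  have hea := hc.offender_EA hA ho
  obtain ⟨e, he, he1⟩ := A.bot_or_exists_ne_one.resolve_left hne
  obtain ⟨B₁, hB₁A, hB₁c, he₁, hB₁⟩ := hc.exists_hyperplane hA hea he he1
  by_cases hb : B₁ = ⊥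
  · rw [hb, Subgroup.card_bot, one_mul] at hB₁c
    refine ⟨le_antisymm ?_ (hc.value_ge ho), le_iSup
      (fun B : {B : Subgroup G // B ≤ A ∧ IsBestOffenderOn p V B ∧ Nat.card B = p} => (B : Subgroup G))
      ⟨A, le_rfl, ho, hB₁c.symm⟩⟩
    set C := V ⊓ centralizer (A : Set G) with hC
    have hlt : C < V := lt_of_le_of_ne inf_le_left fun e' => hne (le_bot_iff.mp (hc.act.faith ▸
      le_inf hA (le_centralizer_iff.mp (e'.ge.trans inf_le_right))))
    obtain ⟨i, hi⟩ := IsPGroup.iff_card.mp (isPGroup_of_EA (isEA_mono hc.act.ea (inf_le_left : C ≤ V)))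
    obtain ⟨j, hj⟩ := IsPGroup.iff_card.mp (isPGroup_of_EA hc.act.ea)
    have hij : i < j := by
      rw [← Nat.pow_lt_pow_iff_right hp.out.one_lt, ← hi, ← hj]
      by_contra h
      exact hlt.ne (Subgroup.eq_of_le_of_card_ge hlt.le (not_lt.mp h))
    rw [← hB₁c, hi, hj, ← pow_succ']
    exact Nat.pow_le_pow_right hp.out.pos hij
  · obtain ⟨e', he', he1'⟩ := B₁.bot_or_exists_ne_one.resolve_left hb
    obtain ⟨B₂, hB₂A, hB₂c, he₂, hB₂⟩ := hc.exists_hyperplane hA hea (hB₁A he') he1'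
    have v1 := hc.hyperplane_value hA ho hB₁A hB₁c he hB₁
    have v2 := hc.hyperplane_value hA ho hB₂A hB₂c (hB₁A he') hB₂
    have hoff : ∀ B : Subgroup G, B ≤ A → Nat.card B * Nat.card (V ⊓ centralizer (B : Set G) : Subgroup G) =
        Nat.card A * Nat.card (V ⊓ centralizer (A : Set G) : Subgroup G) → IsBestOffenderOn p V B :=
      fun B hB hv => ⟨fun C hC => (ho.1 C (hC.trans hB)).trans hv.ge,
        (commutator_mono hB hB).trans ho.2.1, fun a ha => ho.2.2 a (hB ha)⟩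
    have hlt : ∀ B : Subgroup G, Nat.card B * p = Nat.card A → Nat.card B < n := fun B hB => by
      rw [← hn, ← hB]; exact lt_mul_of_one_lt_right Nat.card_pos hp.out.one_lt
    obtain ⟨r1, g1⟩ := ih _ (hlt B₁ hB₁c) B₁ rfl (hB₁A.trans hA) (hoff B₁ hB₁A v1) hb
    have hb2 : B₂ ≠ ⊥ := by
      intro e''
      rw [e'', Subgroup.card_bot, one_mul, ← hB₁c] at hB₂c
      have := Nat.eq_of_mul_eq_mul_right hp.out.pos (hB₂c.symm.trans (one_mul p).symm)
      exact hb (Subgroup.card_eq_one.mp this)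
    obtain ⟨-, g2⟩ := ih _ (hlt B₂ hB₂c) B₂ rfl (hB₂A.trans hA) (hoff B₂ hB₂A v2) hb2
    refine ⟨v1 ▸ r1, ?_⟩
    have hsup : B₁ ⊔ B₂ = A := by
      have hlt' : B₂ < B₁ ⊔ B₂ := lt_of_le_of_ne le_sup_right fun e'' => he₂ (e''.symm ▸ mem_sup_left he')
      refine Subgroup.eq_of_le_of_card_ge (sup_le hB₁A hB₂A) ?_
      obtain ⟨i, hi⟩ := IsPGroup.iff_card.mp (isPGroup_of_EA (isEA_mono hea hB₂A))
      obtain ⟨j, hj⟩ := IsPGroup.iff_card.mp (isPGroup_of_EA (isEA_mono hea (sup_le hB₁A hB₂A)))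
      have hij : i < j := by
        rw [← Nat.pow_lt_pow_iff_right hp.out.one_lt, ← hi, ← hj]
        by_contra h
        exact hlt'.ne (Subgroup.eq_of_le_of_card_ge hlt'.le (not_lt.mp h))
      rw [← hB₂c, hi, hj, ← pow_succ]
      exact Nat.pow_le_pow_right hp.out.pos hij
    rw [← hsup]
    refine sup_le (g1.trans (iSup_le fun B => ?_)) (g2.trans (iSup_le fun B => ?_))
    · exact le_iSup (fun B : {B : Subgroup G // B ≤ B₁ ⊔ B₂ ∧ IsBestOffenderOn p V B ∧ Nat.card B = p} =>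
        (B : Subgroup G)) ⟨B.1, B.2.1.trans le_sup_left, B.2.2⟩
    · exact le_iSup (fun B : {B : Subgroup G // B ≤ B₁ ⊔ B₂ ∧ IsBestOffenderOn p V B ∧ Nat.card B = p} =>
        (B : Subgroup G)) ⟨B.1, B.2.1.trans le_sup_right, B.2.2⟩

theorem trans_of_offender {A : Subgroup G} (hA : A ≤ H) (ho : IsBestOffenderOn p V A) (hcard : Nat.card A = p) :
    IsTrans p V A := by
  refine hc.act.isTrans hA hcard ?_
  have h := (hc.offender_main _ A rfl hA ho (fun e => by
    rw [e, Subgroup.card_bot] at hcard; exact hp.out.ne_one hcard.symm)).1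
  rwa [hcard, mul_comm] at h

/-- Minimal offenders have order `p`. -/
theorem minimal_card {A : Subgroup G} (hA : A ≤ H) (ho : IsBestOffenderOn p V A) (hAV : ⁅V, A⁆ ≠ ⊥)
    (hmin : ∀ B : Subgroup G, B ≤ A → IsBestOffenderOn p V B → ⁅V, B⁆ ≠ ⊥ → B = A) : Nat.card A = p := by
  have hne : A ≠ ⊥ := fun e => hAV (by rw [e, Subgroup.commutator_bot_right])
  by_contra hcp
  apply hne
  refine le_bot_iff.mp ((hc.offender_main _ A rfl hA ho hne).2.trans (iSup_le ?_))
  rintro ⟨B, hBA, hBo, hBc⟩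
  exfalso
  refine hcp (hmin B hBA hBo (fun e => ?_) ▸ hBc)
  rw [hc.act.disjoint (hBA.trans hA) e, Subgroup.card_bot] at hBc
  exact hp.out.ne_one hBc.symm

theorem minimal_of_card {A B : Subgroup G} (hcard : Nat.card A = p) (hBA : B ≤ A) (hB : ⁅V, B⁆ ≠ ⊥) : B = A :=
  (eq_bot_or_eq_of_le_card_prime hcard hBA).resolve_left fun e => hB (by rw [e, Subgroup.commutator_bot_right])

/-! ### The subgroup `E` of a transvection group -/

theorem conj_trans {A : Subgroup G} (hA : IsTrans p V A) {g : G} (hg : g ∈ H) :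
    IsTrans p V (A.map (MulAut.conj g).toMonoidHom) := by
  set φ := (MulAut.conj g).toMonoidHom with hφ
  have hφi : Function.Injective φ := (MulAut.conj g).injective
  have hVφ : V.map φ = V := Subgroup.mem_normalizer_iff_map_conj_eq.mp (hc.act.norm hg)
  have hP : ⁅V, A.map φ⁆ = (⁅V, A⁆).map φ := by rw [map_commutator, hVφ]
  have hC : V ⊓ centralizer ((A.map φ : Subgroup G) : Set G) = (V ⊓ centralizer (A : Set G)).map φ := by
    rw [Subgroup.map_inf _ _ _ hφi, hVφ]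
    congr 1
    ext x
    obtain ⟨y, rfl⟩ : ∃ y, φ y = x := (MulAut.conj g).surjective x
    rw [Subgroup.mem_map_iff_mem hφi, Subgroup.mem_centralizer_iff, Subgroup.mem_centralizer_iff]
    constructor
    · intro h w hw
      apply hφi
      rw [map_mul, map_mul]
      exact h _ ⟨w, hw, rfl⟩
    · rintro h _ ⟨w, hw, rfl⟩
      rw [← map_mul, ← map_mul, h w hw]
  refine ⟨?_, ?_, ?_, ?_⟩
  · rw [Subgroup.card_map_of_injective hφi, hA.card]
  · rw [hP, Subgroup.card_map_of_injective hφi, hA.cardP]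
  · rw [hC, Subgroup.card_map_of_injective hφi, hA.index]
  · rw [hP, hC]; exact Subgroup.map_mono hA.le

theorem conj_le {A : Subgroup G} (hA : A ≤ H) {g : G} (hg : g ∈ H) : A.map (MulAut.conj g).toMonoidHom ≤ H := by
  rintro _ ⟨a, ha, rfl⟩
  exact mul_mem (mul_mem hg (hA ha)) (inv_mem hg)

theorem conj_sup_not_pGroup {A : Subgroup G} (hA : A ≤ H) {y z : G} (hy : y ∈ oQ p H) (hz : z ∈ oQ p H)
    (hne : A.map (MulAut.conj y).toMonoidHom ≠ A.map (MulAut.conj z).toMonoidHom) :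
    ¬ IsPGroup p (A.map (MulAut.conj y).toMonoidHom ⊔ A.map (MulAut.conj z).toMonoidHom : Subgroup G) := by
  intro hL
  apply hne
  have key : ∀ a ∈ A, y * a * y⁻¹ = z * a * z⁻¹ := by
    intro a ha
    refine mul_inv_eq_one.mp (hc.eq_one_of_Q hL (mul_mem (mem_sup_left ⟨a, ha, rfl⟩)
      (inv_mem (mem_sup_right ⟨a, ha, rfl⟩))) ?_)
    have e : y * a * y⁻¹ * (z * a * z⁻¹)⁻¹ = y * (a * (y⁻¹ * z) * a⁻¹) * z⁻¹ := by group
    show y * a * y⁻¹ * (z * a * z⁻¹)⁻¹ ∈ _
    rw [e]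
    exact mul_mem (mul_mem hy ((mem_normalizer_iff.mp (hc.Q_norm (hA ha)) _).mp (mul_mem (inv_mem hy) hz))) (inv_mem hz)
  ext w
  constructor
  · rintro ⟨a, ha, rfl⟩; exact ⟨a, ha, (key a ha).symm⟩
  · rintro ⟨a, ha, rfl⟩; exact ⟨a, ha, key a ha⟩

theorem map_conj_one (A : Subgroup G) : A.map (MulAut.conj (1 : G)).toMonoidHom = A := by
  ext w; simp

theorem conj_le_eOff {A : Subgroup G} {x : G} (hx : x ∈ oQ p H) :
    A.map (MulAut.conj x).toMonoidHom ≤ eOff p H A := by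
  rintro _ ⟨a, ha, rfl⟩
  show x * a * x⁻¹ ∈ _
  rw [show x * a * x⁻¹ = ⁅x, a⁆ * a by simp only [commutatorElement_def]; group]
  exact mul_mem (mem_sup_left (commutator_mem_commutator hx ha)) (mem_sup_right ha)

theorem eOff_le {A : Subgroup G} {L : Subgroup G}
    (hL : ∀ x ∈ oQ p H, A.map (MulAut.conj x).toMonoidHom ≤ L) : eOff p H A ≤ L := by
  have hAL : A ≤ L := (map_conj_one hc A) ▸ hL 1 (one_mem _)
  refine sup_le ?_ hAL
  rw [commutator_le]
  intro x hx a ha
  exact mul_mem (hL x hx ⟨a, ha, rfl⟩) (inv_mem (hAL ha))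

theorem eOff_le_H {A : Subgroup G} (hA : A ≤ H) : eOff p H A ≤ H :=
  hc.eOff_le fun _ hx => hc.conj_le hA (hc.Q_le hx)

theorem commutator_le_Q {A : Subgroup G} (hA : A ≤ H) : ⁅oQ p H, A⁆ ≤ oQ p H :=
  Coprime.commutator_le_of_le_normalizer (hA.trans hc.Q_norm)

theorem le_normalizer_eOff_Q {A : Subgroup G} : oQ p H ≤ normalizer (eOff p H A : Set G) := fun y hy => by
  refine mem_normalizer_fintype fun w hw => ?_
  suffices h : eOff p H A ≤ (eOff p H A).comap (MulAut.conj y).toMonoidHom from h hw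
  refine hc.eOff_le fun x hx => ?_
  rw [← Subgroup.map_le_iff_le_comap, Subgroup.map_map]
  rintro _ ⟨a, ha, rfl⟩
  refine hc.conj_le_eOff (mul_mem hy hx) ⟨a, ha, ?_⟩
  simp [mul_assoc]

/-- A conjugate inside `A ⊔ A^x` whose axis passes through a given point of the plane. -/
theorem exists_conj_fix {A : Subgroup G} (hA : A ≤ H) (hT : IsTrans p V A) {x : G} (hx : x ∈ oQ p H)
    (hAB : ¬ ⁅V, A⁆ ≤ V ⊓ centralizer ((A.map (MulAut.conj x).toMonoidHom : Subgroup G) : Set G))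
    {y z : G} (hy : y ∈ ⁅V, A⁆) (hz : z ∈ ⁅V, A.map (MulAut.conj x).toMonoidHom⁆) :
    ∃ q' ∈ oQ p H, A.map (MulAut.conj q').toMonoidHom ≤ A ⊔ A.map (MulAut.conj x).toMonoidHom ∧
      y * z ∈ V ⊓ centralizer ((A.map (MulAut.conj q').toMonoidHom : Subgroup G) : Set G) := by
  set B := A.map (MulAut.conj x).toMonoidHom with hB
  have hBH : B ≤ H := hc.conj_le hA (hc.Q_le hx)
  have hTB : IsTrans p V B := hc.conj_trans hT (hc.Q_le hx)
  have hPV : ⁅V, A⁆ ≤ V := hT.le.trans inf_le_left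
  have hRV : ⁅V, B⁆ ≤ V := hTB.le.trans inf_le_left
  rcases eq_or_ne y 1 with hy1 | hy1
  · exact ⟨x, hx, le_sup_right, by rw [hy1, one_mul]; exact hTB.le hz⟩
  obtain ⟨b, hb, hb1, hzb, -⟩ := exists_zpowers_eq_of_card hTB.card
  set π := b * y * b⁻¹ * y⁻¹ with hπ
  have hπR : π ∈ ⁅V, B⁆ := hc.act.conj_mem_of_trans hTB hb (hPV hy)
  have hπ1 : π ≠ 1 := fun e => hAB ((eq_zpowers_of_card hT.cardP hy hy1).ge.trans (zpowers_le.mpr
    (Subgroup.mem_inf.mpr ⟨hPV hy, by
      rw [← hzb, Subgroup.mem_centralizer_iff]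
      have h : Commute b y := mul_inv_eq_iff_eq_mul.mp (mul_inv_eq_one.mp e)
      rintro _ ⟨i, rfl⟩
      exact (h.zpow_left i).eq⟩)))
  obtain ⟨k, hk⟩ := mem_powers_iff_mem_zpowers.mpr ((eq_zpowers_of_card hTB.cardP hπR hπ1).ge hz)
  set g := b ^ k with hg
  have hgB : g ∈ B := pow_mem hb k
  have hgy : g * y * g⁻¹ = y * z := by
    rw [hg, conj_pow_eq (a := b) (v := y) (w := π) (by rw [hπ]; group)
      (Subgroup.mem_centralizer_iff.mp (hTB.le hπR).2 b hb) k, show π ^ k = z from hk,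
      hc.act.commV (hRV hz) (hPV hy)]
  have hgQA : g ∈ oQ p H ⊔ A := by
    have hle : B ≤ oQ p H ⊔ A := by
      rintro _ ⟨a, ha, rfl⟩
      exact mul_mem (mul_mem (mem_sup_left hx) (mem_sup_right ha)) (inv_mem (mem_sup_left hx))
    exact hle hgB
  obtain ⟨q', hq', a, ha, e⟩ := Coprime.exists_mul_of_mem_sup (hA.trans hc.Q_norm) hgQA
  have hmap : A.map (MulAut.conj q').toMonoidHom = A.map (MulAut.conj g).toMonoidHom := by
    rw [← e, map_mul]
    conv_lhs => rw [← Subgroup.mem_normalizer_iff_map_conj_eq.mp (Subgroup.le_normalizer ha)]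
    rw [Subgroup.map_map]
    rfl
  refine ⟨q', hq', ?_, ?_⟩
  · rw [hmap]
    rintro _ ⟨a', ha', rfl⟩
    exact mul_mem (mul_mem (mem_sup_right hgB) (mem_sup_left ha')) (inv_mem (mem_sup_right hgB))
  · rw [hmap, ← hgy]
    refine Subgroup.mem_inf.mpr ⟨hc.act.conjV (hBH hgB) (hPV hy), ?_⟩
    rw [Subgroup.mem_centralizer_iff]
    rintro _ ⟨a', ha', rfl⟩
    have h := Subgroup.mem_centralizer_iff.mp (hT.le hy).2 a' ha'
    show g * a' * g⁻¹ * (g * y * g⁻¹) = g * y * g⁻¹ * (g * a' * g⁻¹)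
    calc g * a' * g⁻¹ * (g * y * g⁻¹) = g * (a' * y) * g⁻¹ := by group
      _ = g * (y * a') * g⁻¹ := by rw [h]
      _ = _ := by group

/-- The basic facts about `E = [O_{p'}, A] A`. -/
theorem eOff_facts_of {A : Subgroup G} (hA : A ≤ H) (hT : IsTrans p V A) {x : G} (hx : x ∈ oQ p H)
    (hxA : x ∉ centralizer (A : Set G)) : ¬ ⁅V, A⁆ ≤ V ⊓ centralizer ((A.map (MulAut.conj x).toMonoidHom : Subgroup G) : Set G) ∧
      ¬ ⁅V, A.map (MulAut.conj x).toMonoidHom⁆ ≤ V ⊓ centralizer (A : Set G) ∧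
      eOff p H A = A ⊔ A.map (MulAut.conj x).toMonoidHom := by
  set B := A.map (MulAut.conj x).toMonoidHom with hB
  have hBH : B ≤ H := hc.conj_le hA (hc.Q_le hx)
  have hTB : IsTrans p V B := hc.conj_trans hT (hc.Q_le hx)
  have hne : B ≠ A := fun e => hxA (by
    rw [Subgroup.mem_centralizer_iff]
    intro a ha
    have h1 : x * a * x⁻¹ * a⁻¹ ∈ A := mul_mem (e.le ⟨a, ha, rfl⟩) (inv_mem ha)
    have h2 := hc.eq_one_of_Q (IsPGroup.of_card (p := p) (n := 1) (by rw [hT.card, pow_one])) h1 (by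
      rw [show x * a * x⁻¹ * a⁻¹ = x * (a * x⁻¹ * a⁻¹) by group]
      exact mul_mem hx ((mem_normalizer_iff.mp (hc.Q_norm (hA ha)) _).mp (inv_mem hx)))
    exact (mul_inv_eq_iff_eq_mul.mp (mul_inv_eq_one.mp h2)).symm)
  have hnp : ¬ IsPGroup p (A ⊔ B : Subgroup G) := by
    have := hc.conj_sup_not_pGroup hA (one_mem (oQ p H)) hx (by rw [map_conj_one hc]; exact hne.symm)
    rwa [map_conj_one hc] at this
  have hAB := hc.act.pair_nondeg hA hBH hT hTB hnp
  have hBA := hc.act.pair_nondeg hBH hA hTB hT (by rwa [sup_comm])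
  refine ⟨hAB, hBA, le_antisymm ?_ (sup_le le_sup_right (hc.conj_le_eOff hx))⟩
  refine hc.eOff_le fun q hq => ?_
  obtain ⟨-, -, hV, -⟩ := hc.act.pair_decomp hT hTB hAB hBA
  set Cq := A.map (MulAut.conj q).toMonoidHom with hCq
  have hTC : IsTrans p V Cq := hc.conj_trans hT (hc.Q_le hq)
  obtain ⟨w, hw, hw1, hwz, -⟩ := exists_zpowers_eq_of_card hTC.cardP
  have hnV : ∀ {X Y : Subgroup G}, X ≤ V → Y ≤ V → Y ≤ normalizer (X : Set G) := fun {X Y} hX hY =>
    (hY.trans (le_centralizer_iff_isMulCommutative.mpr hc.act.ea.1)).trans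
      ((Subgroup.centralizer_le hX).trans (Subgroup.centralizer_le_normalizer _))
  have hPV : ⁅V, A⁆ ≤ V := hT.le.trans inf_le_left
  have hRV : ⁅V, B⁆ ≤ V := hTB.le.trans inf_le_left
  obtain ⟨u, hu, w0, hw0, rfl⟩ := Coprime.exists_mul_of_mem_sup (hnV (sup_le hPV hRV) inf_le_left)
    (hV ((hTC.le.trans inf_le_left) hw))
  obtain ⟨y, hy, z, hz, rfl⟩ := Coprime.exists_mul_of_mem_sup (hnV hPV hRV) hu
  obtain ⟨q', hq', ht, hyz⟩ := hc.exists_conj_fix hA hT hx hAB hy hz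
  by_contra hnot
  have hne' : Cq ≠ A.map (MulAut.conj q').toMonoidHom := fun e => hnot (e ▸ ht)
  have hnd := hc.act.pair_nondeg (hc.conj_le hA (hc.Q_le hq)) (hc.conj_le hA (hc.Q_le hq')) hTC
    (hc.conj_trans hT (hc.Q_le hq')) (hc.conj_sup_not_pGroup hA hq hq' hne')
  apply hnd
  rw [← hwz, zpowers_le]
  exact mul_mem hyz (Subgroup.mem_inf.mpr ⟨hw0.1, Subgroup.centralizer_le (SetLike.coe_subset_coe.mpr ht) hw0.2⟩)

theorem exists_not_centralizer {A : Subgroup G} (hA : A ≤ H) (hT : IsTrans p V A) :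
    ∃ x ∈ oQ p H, x ∉ centralizer (A : Set G) := by
  obtain ⟨x, hx, hxA⟩ : ∃ x ∈ oQ p H, x ∉ centralizer (A : Set G) := by
    by_contra hcon
    push Not at hcon
    obtain ⟨a, ha, ha1, -, -⟩ := exists_zpowers_eq_of_card hT.card
    exact ha1 (hc.eq_one_of_Q (IsPGroup.of_card (p := p) (n := 1) (by rw [hT.card, pow_one])) ha
      (hc.Q_self (hA ha) fun q hq => (Subgroup.mem_centralizer_iff.mp (hcon q hq) a ha).symm))
  exact ⟨x, hx, hxA⟩

theorem eOff_facts {A : Subgroup G} (hA : A ≤ H) (hT : IsTrans p V A) :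
    ∃ x ∈ oQ p H, ¬ ⁅V, A⁆ ≤ V ⊓ centralizer ((A.map (MulAut.conj x).toMonoidHom : Subgroup G) : Set G) ∧
      ¬ ⁅V, A.map (MulAut.conj x).toMonoidHom⁆ ≤ V ⊓ centralizer (A : Set G) ∧
      eOff p H A = A ⊔ A.map (MulAut.conj x).toMonoidHom :=
  let ⟨x, hx, hxA⟩ := hc.exists_not_centralizer hA hT
  ⟨x, hx, hc.eOff_facts_of hA hT hx hxA⟩

/-- The decomposition `V = [V,E] × C_V(E)`. -/
theorem eOff_decomp {A : Subgroup G} (hA : A ≤ H) (hT : IsTrans p V A) :
    Nat.card (⁅V, eOff p H A⁆ : Subgroup G) = p ^ 2 ∧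
      ⁅V, eOff p H A⁆ ⊓ (V ⊓ centralizer (eOff p H A : Set G)) = ⊥ ∧
      V ≤ ⁅V, eOff p H A⁆ ⊔ (V ⊓ centralizer (eOff p H A : Set G)) ∧
      Nonempty (eOff p H A ≃* Matrix.SpecialLinearGroup (Fin 2) (ZMod p)) := by
  obtain ⟨x, hx, hAB, hBA, hE⟩ := hc.eOff_facts hA hT
  set B := A.map (MulAut.conj x).toMonoidHom with hB
  have hBH : B ≤ H := hc.conj_le hA (hc.Q_le hx)
  have hTB : IsTrans p V B := hc.conj_trans hT (hc.Q_le hx)
  obtain ⟨h1, h2, h3, -⟩ := hc.act.pair_decomp hT hTB hAB hBA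
  set U := ⁅V, A⁆ ⊔ ⁅V, B⁆ with hU
  have hUeq : ⁅V, A ⊔ B⁆ = U := by
    refine le_antisymm ?_ (sup_le (commutator_mono le_rfl le_sup_left) (commutator_mono le_rfl le_sup_right))
    have hUV : U ≤ V := sup_le (hT.le.trans inf_le_left) (hTB.le.trans inf_le_left)
    rw [commutator_le]
    intro v hv g hg
    let M : Submonoid G :=
      { carrier := {g | g ∈ H ∧ ∀ v ∈ V, g * v * g⁻¹ * v⁻¹ ∈ U}
        one_mem' := ⟨one_mem H, fun v _ => by simp⟩
        mul_mem' := fun {g k} hg hk => ⟨mul_mem hg.1 hk.1, fun v hv => by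
          have hu := hk.2 v hv
          have : g * (k * v * k⁻¹ * v⁻¹) * g⁻¹ ∈ U := by
            have h' := mul_mem (hg.2 _ (hUV hu)) hu
            rwa [inv_mul_cancel_right] at h'
          rw [show g * k * v * (g * k)⁻¹ * v⁻¹ = (g * (k * v * k⁻¹ * v⁻¹) * g⁻¹) * (g * v * g⁻¹ * v⁻¹) by group]
          exact mul_mem this (hg.2 v hv)⟩ }
    have hgM : g ∈ M := by
      rw [sup_eq_closure] at hg
      induction hg using Subgroup.closure_induction with
      | mem y hy =>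
        rcases hy with hy | hy
        · exact ⟨hA hy, fun v hv => mem_sup_left (hc.act.conj_mem_of_trans hT hy hv)⟩
        · exact ⟨hBH hy, fun v hv => mem_sup_right (hc.act.conj_mem_of_trans hTB hy hv)⟩
      | one => exact M.one_mem
      | mul a b _ _ ha hb => exact M.mul_mem ha hb
      | inv a _ ha =>
        obtain ⟨n, hn⟩ : ∃ n, a ^ n = a⁻¹ := ⟨orderOf a - 1, eq_inv_of_mul_eq_one_left (by
          rw [← pow_succ, Nat.sub_add_cancel (orderOf_pos a), pow_orderOf_eq_one])⟩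
        rw [← hn]; exact pow_mem ha n
    rw [show ⁅v, g⁆ = (g * v * g⁻¹ * v⁻¹)⁻¹ by simp only [commutatorElement_def]; group]
    exact inv_mem (hgM.2 v hv)
  rw [hE, hUeq]
  exact ⟨h1, h2, h3, hc.act.pair_sl2 hA hBH hT hTB hAB hBA⟩

/-- `[O_{p'}, A]` has index `p` in `E`. -/
theorem card_eOff {A : Subgroup G} (hA : A ≤ H) (hT : IsTrans p V A) :
    Nat.card (⁅oQ p H, A⁆ : Subgroup G) * p = Nat.card (eOff p H A) ∧
      eOff p H A ≤ normalizer ((⁅oQ p H, A⁆ : Subgroup G) : Set G) := by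
  have hn : A ≤ normalizer ((⁅oQ p H, A⁆ : Subgroup G) : Set G) :=
    le_sup_right.trans (sup_le_normalizer_commutator' (oQ p H) A)
  refine ⟨?_, sup_le Subgroup.le_normalizer hn⟩
  have h := card_sup_mul_card_inf (A := A) (B := ⁅oQ p H, A⁆) hn
  rw [sup_comm, show (A ⊓ ⁅oQ p H, A⁆ : Subgroup G) = ⊥ from eq_bot_iff.mpr fun g hg => Subgroup.mem_bot.mpr
    (hc.eq_one_of_Q (IsPGroup.of_card (p := p) (n := 1) (by rw [hT.card, pow_one])) hg.1
      (hc.commutator_le_Q hA hg.2)), Subgroup.card_bot, mul_one, hT.card] at h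
  rw [mul_comm]; exact h.symm
where
  sup_le_normalizer_commutator' (A B : Subgroup G) : A ⊔ B ≤ normalizer ((⁅A, B⁆ : Subgroup G) : Set G) := by
    refine sup_le (fun e he => mem_normalizer_fintype fun z hz => ?_) (fun e he => mem_normalizer_fintype fun z hz => ?_)
    · suffices h : ⁅A, B⁆ ≤ (⁅A, B⁆).comap (MulAut.conj e).toMonoidHom from h hz
      rw [commutator_le]
      intro x hx y hy
      show e * ⁅x, y⁆ * e⁻¹ ∈ ⁅A, B⁆
      rw [show e * ⁅x, y⁆ * e⁻¹ = ⁅e * x, y⁆ * ⁅e, y⁆⁻¹ by simp only [commutatorElement_def]; group]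
      exact mul_mem (commutator_mem_commutator (mul_mem he hx) hy) (inv_mem (commutator_mem_commutator he hy))
    · suffices h : ⁅A, B⁆ ≤ (⁅A, B⁆).comap (MulAut.conj e).toMonoidHom from h hz
      rw [commutator_le]
      intro x hx y hy
      show e * ⁅x, y⁆ * e⁻¹ ∈ ⁅A, B⁆
      rw [show e * ⁅x, y⁆ * e⁻¹ = ⁅x, e⁆⁻¹ * ⁅x, e * y⁆ by simp only [commutatorElement_def]; group]
      exact mul_mem (inv_mem (commutator_mem_commutator hx he)) (commutator_mem_commutator hx (mul_mem he hy))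

/-- Only `p = 2, 3` occur. -/
theorem prime_eq {A : Subgroup G} (hA : A ≤ H) (hT : IsTrans p V A) : p = 2 ∨ p = 3 := by
  by_contra hne
  push Not at hne
  have h5 : 5 ≤ p := hp.out.five_le_of_ne_two_of_ne_three hne.1 hne.2
  obtain ⟨e⟩ := (hc.eOff_decomp hA hT).2.2.2
  obtain ⟨hcard, hn⟩ := hc.card_eOff hA hT
  haveI : ((⁅oQ p H, A⁆).subgroupOf (eOff p H A)).Normal := Subgroup.normal_subgroupOf_of_le_normalizer hn
  set N := (⁅oQ p H, A⁆).subgroupOf (eOff p H A) with hN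
  have hNc : Nat.card N = Nat.card (⁅oQ p H, A⁆ : Subgroup G) :=
    Nat.card_congr (Subgroup.subgroupOfEquivOfLe (le_sup_left : ⁅oQ p H, A⁆ ≤ eOff p H A)).toEquiv
  refine Dickson.not_isPSolvable_sl2 h5 (Core.isPSolvable_congr e (Core.isPSolvable_of_normal N ?_ ?_))
  · rw [Core.isPSolvable_iff, ← compl_compl ({p} : Set ℕ)]
    refine Core.isPiSeparable_compl (Core.isPiSeparable_of_isPiNat (Core.isPiNat_compl_singleton_iff_coprime hp.out |>.mpr (by
      rw [hNc]; exact hc.Q_cop.coprime_dvd_left (Subgroup.card_dvd_of_le (hc.commutator_le_Q hA)))))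
  · have hq : IsPGroup p (eOff p H A ⧸ N) := by
      refine IsPGroup.of_card (n := 1) ?_
      have h := Subgroup.card_eq_card_quotient_mul_card_subgroup N
      rw [← hcard, hNc, mul_comm] at h
      rw [pow_one]
      exact (Nat.eq_of_mul_eq_mul_right Nat.card_pos h).symm
    haveI := hq.isNilpotent
    exact Core.isPSolvable_of_isSolvable


/-! ### The plane `[V, E]` and the `p'`-part of `E` -/

theorem plane_le {A : Subgroup G} (hA : A ≤ H) : ⁅V, eOff p H A⁆ ≤ V :=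
  hc.act.commutator_le_V (hc.eOff_le_H hA)

theorem qA_le {A : Subgroup G} : ⁅oQ p H, A⁆ ≤ eOff p H A := le_sup_left

theorem card_qA {A : Subgroup G} (hA : A ≤ H) (hT : IsTrans p V A) :
    Nat.card (⁅oQ p H, A⁆ : Subgroup G) = p ^ 2 - 1 := by
  haveI : NeZero p := ⟨hp.out.ne_zero⟩
  obtain ⟨e⟩ := (hc.eOff_decomp hA hT).2.2.2
  have h := (hc.card_eOff hA hT).1
  rw [Nat.card_congr e.toEquiv, Linear.card_SL_two, ZMod.card, mul_comm p] at h
  exact Nat.eq_of_mul_eq_mul_right hp.out.pos h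

/-- An element of `E` of order prime to `p` lies in `[O_{p'}, A]`. -/
theorem mem_qA_of_pow {A : Subgroup G} (hA : A ≤ H) (hT : IsTrans p V A) {g : G} (hg : g ∈ eOff p H A)
    {n : ℕ} (hn : n.Coprime p) (hgn : g ^ n = 1) : g ∈ ⁅oQ p H, A⁆ := by
  obtain ⟨hcard, hN⟩ := hc.card_eOff hA hT
  haveI : ((⁅oQ p H, A⁆).subgroupOf (eOff p H A)).Normal := Subgroup.normal_subgroupOf_of_le_normalizer hN
  set N := (⁅oQ p H, A⁆).subgroupOf (eOff p H A) with hNdef
  have hidx : N.index = p := by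
    refine Nat.eq_of_mul_eq_mul_left (Nat.card_pos (α := N)) ?_
    rw [Subgroup.card_mul_index, Nat.card_congr (Subgroup.subgroupOfEquivOfLe hc.qA_le).toEquiv, hcard]
  have h1 := Subgroup.pow_index_mem N ⟨g, hg⟩
  rw [hidx] at h1
  have h1' : g ^ p ∈ ⁅oQ p H, A⁆ := h1
  have hord : (orderOf g).Coprime p := hn.coprime_dvd_left (orderOf_dvd_of_pow_eq_one hgn)
  obtain ⟨m, hm⟩ := exists_pow_eq_self_of_coprime hord.symm
  rw [← hm]
  exact pow_mem h1' m

theorem qA_pGroup {A : Subgroup G} (hA : A ≤ H) (hT : IsTrans p V A) :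
    (p = 2 ∧ IsPGroup 3 (⁅oQ p H, A⁆ : Subgroup G)) ∨ (p = 3 ∧ IsPGroup 2 (⁅oQ p H, A⁆ : Subgroup G) ∧
      ∃ x ∈ ⁅oQ p H, A⁆, ∃ y ∈ ⁅oQ p H, A⁆, x * y ≠ y * x) := by
  have hcard := hc.card_qA hA hT
  obtain ⟨e⟩ := (hc.eOff_decomp hA hT).2.2.2
  rcases hc.prime_eq hA hT with h | h <;> subst h
  · exact Or.inl ⟨rfl, IsPGroup.of_card (n := 1) (by rw [hcard]; norm_num)⟩
  · refine Or.inr ⟨rfl, IsPGroup.of_card (n := 3) (by rw [hcard]; norm_num), ?_⟩
    obtain ⟨K, hK, x, hx, y, hy, hxy⟩ := Dickson.exists_nonabelian_two_subgroup (p := 3) (by norm_num)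
    have key : ∀ z ∈ K, ((e.symm z : eOff 3 H A) : G) ∈ ⁅oQ 3 H, A⁆ := by
      intro z hz
      obtain ⟨k, hk⟩ := hK ⟨z, hz⟩
      refine hc.mem_qA_of_pow hA hT (e.symm z).2 (n := 2 ^ k) (Nat.Coprime.pow_left k (by decide)) ?_
      have hzk : z ^ 2 ^ k = 1 := congrArg Subtype.val hk
      rw [← SubmonoidClass.coe_pow, ← map_pow, hzk, map_one, OneMemClass.coe_one]
    refine ⟨_, key x hx, _, key y hy, fun h => hxy (e.symm.injective (Subtype.ext ?_))⟩
    rw [map_mul, map_mul]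
    exact h

theorem centralizes_of_card {A Y : Subgroup G} (hA : A ≤ normalizer (Y : Set G)) (hY : Nat.card Y = p)
    (hcard : Nat.card A = p) : Y ≤ centralizer (A : Set G) := by
  rw [← Subgroup.commutator_eq_bot_iff_le_centralizer]
  have hlt := Coprime.commutator_lt_of_isPGroup (IsPGroup.of_card (p := p) (n := 1) (by rw [hY, pow_one]))
    (IsPGroup.of_card (p := p) (n := 1) (by rw [hcard, pow_one])) hA (fun e => by
      rw [e, Subgroup.card_bot] at hY; exact hp.out.ne_one hY.symm)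
  exact (eq_bot_or_eq_of_le_card_prime hY hlt.le).resolve_right hlt.ne

theorem plane_cases {A : Subgroup G} (hA : A ≤ H) (hT : IsTrans p V A) {X : Subgroup G}
    (hX : X ≤ ⁅V, eOff p H A⁆) : X = ⊥ ∨ Nat.card X = p ∨ X = ⁅V, eOff p H A⁆ := by
  have h := (hc.eOff_decomp hA hT).1
  obtain ⟨k, hk, e⟩ := (Nat.dvd_prime_pow hp.out).mp (h ▸ Subgroup.card_dvd_of_le hX)
  interval_cases k
  · exact Or.inl (Subgroup.card_eq_one.mp (by rw [e, pow_zero]))
  · exact Or.inr (Or.inl (by rw [e, pow_one]))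
  · exact Or.inr (Or.inr (Subgroup.eq_of_le_of_card_ge hX (by rw [e, h])))

/-- Elements of `E` fixing the plane are trivial. -/
theorem eq_one_of_fix_plane {A : Subgroup G} (hA : A ≤ H) (hT : IsTrans p V A) {g : G} (hg : g ∈ eOff p H A)
    (hfix : ∀ u ∈ ⁅V, eOff p H A⁆, g * u = u * g) : g = 1 := by
  refine hc.act.eq_one (hc.eOff_le_H hA hg) fun v hv => ?_
  have hle : ⁅V, eOff p H A⁆ ⊔ (V ⊓ centralizer (eOff p H A : Set G)) ≤ centralizer ({g} : Set G) := by
    refine sup_le (fun u hu => ?_) (fun w hw => ?_) <;> rw [Subgroup.mem_centralizer_singleton_iff]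
    · exact (hfix u hu).symm
    · exact (Subgroup.mem_centralizer_iff.mp hw.2 g hg).symm
  exact (Subgroup.mem_centralizer_singleton_iff.mp (hle ((hc.eOff_decomp hA hT).2.2.1 hv))).symm

/-- A plane is not centralized by a conjugate of `A` inside `E`. -/
theorem inf_axis {A t : Subgroup G} (hA : A ≤ H) (hT : IsTrans p V A) (ht : t ≤ eOff p H A) (hTt : IsTrans p V t) :
    ⁅V, eOff p H A⁆ ⊓ centralizer (t : Set G) = ⁅V, t⁆ := by
  refine (Eq.symm ?_)
  have hle : ⁅V, t⁆ ≤ ⁅V, eOff p H A⁆ ⊓ centralizer (t : Set G) :=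
    le_inf (commutator_mono le_rfl ht) (hTt.le.trans inf_le_right)
  refine Subgroup.eq_of_le_of_card_ge hle ?_
  rcases hc.plane_cases hA hT (inf_le_left : ⁅V, eOff p H A⁆ ⊓ centralizer (t : Set G) ≤ _) with h | h | h
  · rw [h, Subgroup.card_bot]; exact Nat.card_pos
  · rw [h, hTt.cardP]
  · obtain ⟨a, ha, ha1, -, -⟩ := exists_zpowers_eq_of_card hTt.card
    exact absurd (hc.eq_one_of_fix_plane hA hT (ht ha) fun u hu =>
      Subgroup.mem_centralizer_iff.mp ((h.ge.trans inf_le_right) hu) a ha) ha1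

/-- `E` leaves no line of its plane invariant. -/
theorem no_line_E {A Y : Subgroup G} (hA : A ≤ H) (hT : IsTrans p V A) (hY : Y ≤ ⁅V, eOff p H A⁆)
    (hcard : Nat.card Y = p) : ¬ eOff p H A ≤ normalizer (Y : Set G) := by
  intro hn
  obtain ⟨x, hx, hAB, hBA, hE⟩ := hc.eOff_facts hA hT
  set B := A.map (MulAut.conj x).toMonoidHom with hB
  have hTB : IsTrans p V B := hc.conj_trans hT (hc.Q_le hx)
  have hBE : B ≤ eOff p H A := hc.conj_le_eOff hx
  have hAE : A ≤ eOff p H A := le_sup_right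
  have hYA : Y ≤ ⁅V, A⁆ := (le_inf hY (hc.centralizes_of_card (hAE.trans hn) hcard hT.card)).trans
    (hc.inf_axis hA hT hAE hT).le
  have hYB : Y ≤ ⁅V, B⁆ := (le_inf hY (hc.centralizes_of_card (hBE.trans hn) hcard hTB.card)).trans
    (hc.inf_axis hA hT hBE hTB).le
  have h := (hc.act.pair_decomp hT hTB hAB hBA).2.2.2
  rw [le_bot_iff.mp ((le_inf hYA hYB).trans h.le), Subgroup.card_bot] at hcard
  exact hp.out.ne_one hcard.symm

theorem E_norm_plane {A : Subgroup G} (hA : A ≤ H) :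
    eOff p H A ≤ normalizer ((⁅V, eOff p H A⁆ : Subgroup G) : Set G) :=
  le_sup_right.trans (card_eOff.sup_le_normalizer_commutator' V (eOff p H A))

/-- `[O_{p'}, A]` has no fixed points outside `C_V(E)`. -/
theorem centralizer_qA {A : Subgroup G} (hA : A ≤ H) (hT : IsTrans p V A) :
    V ⊓ centralizer ((⁅oQ p H, A⁆ : Subgroup G) : Set G) ≤ V ⊓ centralizer (eOff p H A : Set G) := by
  set U := ⁅V, eOff p H A⁆ with hU
  set W := V ⊓ centralizer (eOff p H A : Set G) with hW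
  obtain ⟨-, hUW, hV, -⟩ := hc.eOff_decomp hA hT
  have hE := (hc.card_eOff hA hT).2
  have hCn : eOff p H A ≤ normalizer (U ⊓ centralizer ((⁅oQ p H, A⁆ : Subgroup G) : Set G) : Set G) := fun e he => by
    refine mem_normalizer_fintype fun u hu => ?_
    refine ⟨(mem_normalizer_iff.mp (hc.E_norm_plane hA he) u).mp hu.1, ?_⟩
    show _ ∈ centralizer _
    rw [Subgroup.mem_centralizer_iff]
    intro q hq
    have h1 := Subgroup.mem_centralizer_iff.mp hu.2 (e⁻¹ * q * e) ((mem_normalizer_iff''.mp (hE he) q).mp hq)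
    calc q * (e * u * e⁻¹) = e * ((e⁻¹ * q * e) * u) * e⁻¹ := by group
      _ = _ := by rw [h1]; group
  have hbot : U ⊓ centralizer ((⁅oQ p H, A⁆ : Subgroup G) : Set G) = ⊥ := by
    rcases hc.plane_cases hA hT (inf_le_left : U ⊓ centralizer ((⁅oQ p H, A⁆ : Subgroup G) : Set G) ≤ U) with h | h | h
    · exact h
    · exact absurd hCn (hc.no_line_E hA hT inf_le_left h)
    · exfalso
      have hq : ⁅oQ p H, A⁆ = ⊥ := (Subgroup.eq_bot_iff_forall _).mpr fun q hq => hc.eq_one_of_fix_plane hA hT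
        (hc.qA_le hq) fun u hu => Subgroup.mem_centralizer_iff.mp ((h.ge.trans inf_le_right) hu) q hq
      have hc' := hc.card_qA hA hT
      rw [hq, Subgroup.card_bot] at hc'
      have := hp.out.two_le
      have : 4 ≤ p ^ 2 := by nlinarith
      omega
  intro v hv
  obtain ⟨u, hu, w, hw, rfl⟩ := Coprime.exists_mul_of_mem_sup (N := U) (A := W) (fun w hw => Subgroup.centralizer_le_normalizer _
    (Subgroup.mem_centralizer_iff.mpr fun u hu => hc.act.commV (hc.plane_le hA hu) hw.1)) (hV hv.1)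
  have huc : u ∈ U ⊓ centralizer ((⁅oQ p H, A⁆ : Subgroup G) : Set G) := by
    refine ⟨hu, ?_⟩
    have h := mul_mem (show u * w ∈ centralizer ((⁅oQ p H, A⁆ : Subgroup G) : Set G) from hv.2) (inv_mem (Subgroup.centralizer_le (SetLike.coe_subset_coe.mpr hc.qA_le) hw.2))
    rwa [mul_inv_cancel_right] at h
  rw [hbot, Subgroup.mem_bot] at huc
  rwa [huc, one_mul]

/-- `[O_{p'}, A]` leaves no line of the plane invariant. -/
theorem no_line_qA {A X : Subgroup G} (hA : A ≤ H) (hT : IsTrans p V A) (hX : X ≤ ⁅V, eOff p H A⁆)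
    (hcard : Nat.card X = p) : ¬ ⁅oQ p H, A⁆ ≤ normalizer (X : Set G) := by
  intro hn
  have hWfix : ∀ Z : Subgroup G, Z ≤ ⁅V, eOff p H A⁆ → Z ≤ centralizer ((⁅oQ p H, A⁆ : Subgroup G) : Set G) → Z = ⊥ :=
    fun Z hZ hZc => le_bot_iff.mp ((hc.eOff_decomp hA hT).2.1 ▸ le_inf hZ
      ((le_inf (hZ.trans (hc.plane_le hA)) hZc).trans (hc.centralizer_qA hA hT)))
  obtain ⟨x, hx, hx1, hzx, hxp⟩ := exists_zpowers_eq_of_card hcard
  rcases hc.prime_eq hA hT with h | h
  · subst h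
    have hfix : X ≤ centralizer ((⁅oQ 2 H, A⁆ : Subgroup G) : Set G) := by
      rw [← hzx, zpowers_le, Subgroup.mem_centralizer_iff]
      intro q hq
      have hmem := (mem_normalizer_iff.mp (hn hq) x).mp hx
      rw [← hzx] at hmem
      obtain ⟨i, hi⟩ := mem_powers_iff_mem_zpowers.mpr hmem
      have hi2 : x ^ (i % 2) = q * x * q⁻¹ := by rw [← pow_eq_pow_mod _ hxp]; exact hi
      rcases Nat.mod_two_eq_zero_or_one i with e | e <;> rw [e] at hi2
      · exfalso; apply hx1; rw [pow_zero] at hi2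
        exact conj_eq_one_iff.mp hi2.symm
      · rw [pow_one] at hi2
        exact (eq_mul_inv_iff_mul_eq.mp hi2).symm
    have := hWfix X hX hfix
    rw [this, Subgroup.card_bot] at hcard; omega
  · subst h
    obtain ⟨-, -, x1, hx1', y1, hy1, hne⟩ := (hc.qA_pGroup hA hT).resolve_left fun h => by omega
    set U := ⁅V, eOff 3 H A⁆ with hU
    set D := ⁅⁅oQ 3 H, A⁆, ⁅oQ 3 H, A⁆⁆ with hD
    have hDx : ∀ q ∈ ⁅oQ 3 H, A⁆, q * x * q⁻¹ = x ∨ q * x * q⁻¹ = x⁻¹ := by
      intro q hq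
      have hmem := (mem_normalizer_iff.mp (hn hq) x).mp hx
      rw [← hzx] at hmem
      obtain ⟨i, hi⟩ := mem_powers_iff_mem_zpowers.mpr hmem
      have hi3 : x ^ (i % 3) = q * x * q⁻¹ := by rw [← pow_eq_pow_mod _ hxp]; exact hi
      have : i % 3 = 0 ∨ i % 3 = 1 ∨ i % 3 = 2 := by omega
      rcases this with e | e | e <;> rw [e] at hi3
      · exfalso; apply hx1; rw [pow_zero] at hi3; exact conj_eq_one_iff.mp hi3.symm
      · exact Or.inl (by rw [← hi3, pow_one])
      · refine Or.inr ?_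
        rw [← hi3]
        exact eq_inv_of_mul_eq_one_left (by rw [← pow_succ, hxp])
    have hxD : D ≤ centralizer ({x} : Set G) := by
      rw [hD, commutator_le]
      intro q hq r hr
      rw [Subgroup.mem_centralizer_singleton_iff]
      have h1 : ∀ s ∈ ⁅oQ 3 H, A⁆, ∃ y, (y = x ∨ y = x⁻¹) ∧ s * x * s⁻¹ = y ∧ s⁻¹ * x * s = y ∧
          s * x⁻¹ * s⁻¹ = y⁻¹ ∧ s⁻¹ * x⁻¹ * s = y⁻¹ := by
        intro s hs
        rcases hDx s hs with a | a
        · have a' : s⁻¹ * x * s = x := by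
            calc s⁻¹ * x * s = s⁻¹ * (s * x * s⁻¹) * s := by rw [a]
              _ = x := by group
          exact ⟨x, Or.inl rfl, a, a', (show s * x⁻¹ * s⁻¹ = (s * x * s⁻¹)⁻¹ by group).trans (by rw [a]),
            (show s⁻¹ * x⁻¹ * s = (s⁻¹ * x * s)⁻¹ by group).trans (by rw [a'])⟩
        · have b : s * x⁻¹ * s⁻¹ = x := by
            rw [show s * x⁻¹ * s⁻¹ = (s * x * s⁻¹)⁻¹ by group, a, inv_inv]
          have a' : s⁻¹ * x * s = x⁻¹ := by
            calc s⁻¹ * x * s = s⁻¹ * (s * x⁻¹ * s⁻¹) * s := by rw [b]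
              _ = x⁻¹ := by group
          exact ⟨x⁻¹, Or.inr rfl, a, a', by rw [b, inv_inv],
            (show s⁻¹ * x⁻¹ * s = (s⁻¹ * x * s)⁻¹ by group).trans (by rw [a'])⟩
      obtain ⟨y, hy, q1, q2, q3, q4⟩ := h1 q hq
      obtain ⟨z, hz, r1, r2, r3, r4⟩ := h1 r hr
      have key : ⁅q, r⁆ * x * ⁅q, r⁆⁻¹ = x := by
        rw [show ⁅q, r⁆ * x * ⁅q, r⁆⁻¹ = q * (r * (q⁻¹ * (r⁻¹ * x * r) * q) * r⁻¹) * q⁻¹ by
          simp only [commutatorElement_def]; group]
        rcases hy with rfl | rfl <;> rcases hz with rfl | rfl <;>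
          simp only [q1, q2, q3, q4, r1, r2, r3, r4, inv_inv]
      exact mul_inv_eq_iff_eq_mul.mp key
    have hDn : eOff 3 H A ≤ normalizer (U ⊓ centralizer (D : Set G) : Set G) := fun e he => by
      have hDe : e ∈ normalizer (D : Set G) := by
        refine mem_normalizer_fintype fun d hd => ?_
        suffices h : D ≤ D.comap (MulAut.conj e).toMonoidHom from h hd
        rw [hD, commutator_le]
        intro q hq r hr
        rw [Subgroup.mem_comap, map_commutatorElement]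
        exact commutator_mem_commutator ((mem_normalizer_iff.mp ((hc.card_eOff hA hT).2 he) q).mp hq)
          ((mem_normalizer_iff.mp ((hc.card_eOff hA hT).2 he) r).mp hr)
      refine mem_normalizer_fintype fun u hu => ?_
      refine ⟨(mem_normalizer_iff.mp (hc.E_norm_plane hA he) u).mp hu.1, ?_⟩
      show _ ∈ centralizer _
      rw [Subgroup.mem_centralizer_iff]
      intro d hd
      have h1 := Subgroup.mem_centralizer_iff.mp hu.2 (e⁻¹ * d * e) ((mem_normalizer_iff''.mp hDe d).mp hd)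
      calc d * (e * u * e⁻¹) = e * ((e⁻¹ * d * e) * u) * e⁻¹ := by group
        _ = _ := by rw [h1]; group
    have hxU : x ∈ U ⊓ centralizer (D : Set G) :=
      ⟨hX hx, Subgroup.mem_centralizer_iff.mpr fun d hd => Subgroup.mem_centralizer_singleton_iff.mp (hxD hd)⟩
    rcases hc.plane_cases hA hT (inf_le_left : U ⊓ centralizer (D : Set G) ≤ U) with h | h | h
    · rw [h] at hxU; exact hx1 (Subgroup.mem_bot.mp hxU)
    · exact hc.no_line_E hA hT inf_le_left h hDn
    · apply hne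
      have hd : ⁅x1, y1⁆ ∈ D := commutator_mem_commutator hx1' hy1
      have h1 := hc.eq_one_of_fix_plane hA hT (hc.qA_le (commutatorElement_def x1 y1 ▸ mul_mem (mul_mem
        (mul_mem hx1' hy1) (inv_mem hx1')) (inv_mem hy1))) fun u hu =>
          Subgroup.mem_centralizer_iff.mp ((h.ge.trans inf_le_right) hu) _ hd
      exact commutatorElement_eq_one_iff_mul_comm.mp h1

/-! ### Two planes -/

theorem norm_commutator {X Y : Subgroup G} {g : G} (hX : g ∈ normalizer (X : Set G))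
    (hY : g ∈ normalizer (Y : Set G)) : g ∈ normalizer ((⁅X, Y⁆ : Subgroup G) : Set G) :=
  Subgroup.mem_normalizer_iff_map_conj_eq.mpr (by
    show Subgroup.map (MulAut.conj g).toMonoidHom ⁅X, Y⁆ = _
    rw [map_commutator]
    congr 1
    · exact Subgroup.mem_normalizer_iff_map_conj_eq.mp hX
    · exact Subgroup.mem_normalizer_iff_map_conj_eq.mp hY)

theorem Q_norm_plane {A : Subgroup G} (hA : A ≤ H) :
    oQ p H ≤ normalizer ((⁅V, eOff p H A⁆ : Subgroup G) : Set G) := fun q hq =>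
  hc.norm_commutator (hc.act.norm (hc.Q_le hq)) (hc.le_normalizer_eOff_Q hq)

variable {A B : Subgroup G}

theorem eq_or_orth (hA : A ≤ H) (hT : IsTrans p V A) (hB : B ≤ H) (hTB : IsTrans p V B) :
    ⁅V, eOff p H A⁆ = ⁅V, eOff p H B⁆ ∨ ⁅V, eOff p H A⁆ ⊓ ⁅V, eOff p H B⁆ = ⊥ := by
  set UA := ⁅V, eOff p H A⁆ with hUA
  set UB := ⁅V, eOff p H B⁆ with hUB
  rcases hc.plane_cases hA hT (inf_le_left : UA ⊓ UB ≤ UA) with h | h | h
  · exact Or.inr h
  · refine absurd (fun q hq => ?_) (hc.no_line_qA hA hT inf_le_left h)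
    have hqQ := hc.commutator_le_Q hA hq
    exact mem_normalizer_fintype fun u hu => ⟨(mem_normalizer_iff.mp (hc.Q_norm_plane hA hqQ) u).mp hu.1,
      (mem_normalizer_iff.mp (hc.Q_norm_plane hB hqQ) u).mp hu.2⟩
  · refine Or.inl (Subgroup.eq_of_le_of_card_ge (h.ge.trans inf_le_right) ?_)
    rw [(hc.eOff_decomp hA hT).1, (hc.eOff_decomp hB hTB).1]

theorem le_W_of_invariant (hA : A ≤ H) (hT : IsTrans p V A) {Z : Subgroup G} (hZ : Z ≤ V)
    (hn : ⁅oQ p H, A⁆ ≤ normalizer (Z : Set G)) (hbot : ⁅V, eOff p H A⁆ ⊓ Z = ⊥) :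
    Z ≤ V ⊓ centralizer (eOff p H A : Set G) := by
  refine (le_inf hZ ?_).trans (hc.centralizer_qA hA hT)
  rw [← Subgroup.commutator_eq_bot_iff_le_centralizer, ← le_bot_iff, ← hbot]
  exact le_inf (commutator_mono hZ hc.qA_le) (Coprime.commutator_le_of_le_normalizer hn)

theorem orth_le (hA : A ≤ H) (hT : IsTrans p V A) (hB : B ≤ H)
    (h : ⁅V, eOff p H A⁆ ⊓ ⁅V, eOff p H B⁆ = ⊥) :
    ⁅V, eOff p H B⁆ ≤ V ⊓ centralizer (eOff p H A : Set G) :=
  hc.le_W_of_invariant hA hT (hc.plane_le hB) ((hc.commutator_le_Q hA).trans (hc.Q_norm_plane hB)) h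

theorem W_le (hA : A ≤ H) (hT : IsTrans p V A) (hB : B ≤ H) (hTB : IsTrans p V B)
    (h : ⁅V, eOff p H A⁆ = ⁅V, eOff p H B⁆) :
    V ⊓ centralizer (eOff p H B : Set G) ≤ V ⊓ centralizer (eOff p H A : Set G) := by
  refine hc.le_W_of_invariant hA hT inf_le_left (fun q hq => mem_normalizer_fintype fun w hw => ?_)
    (by rw [h]; exact (hc.eOff_decomp hB hTB).2.1)
  have hqQ := hc.commutator_le_Q hA hq
  refine ⟨hc.act.conjV (hc.Q_le hqQ) hw.1, ?_⟩
  show _ ∈ centralizer _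
  rw [Subgroup.mem_centralizer_iff]
  intro e he
  have h1 := Subgroup.mem_centralizer_iff.mp hw.2 (q⁻¹ * e * q)
    ((mem_normalizer_iff''.mp (hc.le_normalizer_eOff_Q hqQ) e).mp he)
  calc e * (q * w * q⁻¹) = q * ((q⁻¹ * e * q) * w) * q⁻¹ := by group
    _ = _ := by rw [h1]; group

theorem eOff_eq (hA : A ≤ H) (hT : IsTrans p V A) (hB : B ≤ H) (hTB : IsTrans p V B)
    (h : ⁅V, eOff p H A⁆ = ⁅V, eOff p H B⁆) : eOff p H B = eOff p H A := by
  set U := ⁅V, eOff p H A⁆ with hU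
  set W := V ⊓ centralizer (eOff p H A : Set G) with hW
  have hWeq : V ⊓ centralizer (eOff p H B : Set G) = W :=
    le_antisymm (hc.W_le hA hT hB hTB h) (hc.W_le hB hTB hA hT h.symm)
  have hBE : B ≤ eOff p H B := le_sup_right
  have hPU : ⁅V, B⁆ ≤ U := h ▸ commutator_mono le_rfl hBE
  obtain ⟨x, hx, hAB, hBA, hE⟩ := hc.eOff_facts hA hT
  obtain ⟨u, hu, hu1, hzu, -⟩ := exists_zpowers_eq_of_card hTB.cardP
  set A' := A.map (MulAut.conj x).toMonoidHom with hA'
  have hTA' : IsTrans p V A' := hc.conj_trans hT (hc.Q_le hx)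
  have hPV : ⁅V, A⁆ ≤ V := hT.le.trans inf_le_left
  have hRV : ⁅V, A'⁆ ≤ V := hTA'.le.trans inf_le_left
  have hUsup : U = ⁅V, A⁆ ⊔ ⁅V, A'⁆ := by
    refine (Subgroup.eq_of_le_of_card_ge (sup_le (commutator_mono le_rfl le_sup_right)
      (commutator_mono le_rfl (hc.conj_le_eOff hx))) ?_).symm
    show Nat.card (⁅V, eOff p H A⁆ : Subgroup G) ≤ _
    rw [(hc.eOff_decomp hA hT).1, (hc.act.pair_decomp hT hTA' hAB hBA).1]
  obtain ⟨y, hy, z, hz, hyz⟩ := Coprime.exists_mul_of_mem_sup (fun z hz => Subgroup.centralizer_le_normalizer _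
    (Subgroup.mem_centralizer_iff.mpr fun y hy => hc.act.commV (hPV hy) (hRV hz))) (hUsup ▸ hPU hu)
  obtain ⟨q, hq, htE, hfix⟩ := hc.exists_conj_fix hA hT hx hAB hy hz
  rw [← hE] at htE
  rw [hyz] at hfix
  set t := A.map (MulAut.conj q).toMonoidHom with ht
  have hTt : IsTrans p V t := hc.conj_trans hT (hc.Q_le hq)
  have hP : ⁅V, B⁆ ≤ ⁅V, t⁆ := by
    rw [← hzu, zpowers_le, ← hc.inf_axis hA hT htE hTt]
    exact ⟨hPU hu, hfix.2⟩
  have hCB : V ⊓ centralizer (t : Set G) ≤ V ⊓ centralizer (B : Set G) := by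
    intro v hv
    have hVd := (hc.eOff_decomp hA hT).2.2.1
    obtain ⟨u', hu', w, hw, rfl⟩ := Coprime.exists_mul_of_mem_sup (N := U) (A := W) (fun w hw => Subgroup.centralizer_le_normalizer _
      (Subgroup.mem_centralizer_iff.mpr fun u hu => hc.act.commV (hc.plane_le hA hu) hw.1)) (hVd hv.1)
    have hwt : w ∈ centralizer (t : Set G) := Subgroup.centralizer_le (SetLike.coe_subset_coe.mpr htE) hw.2
    have hu't : u' ∈ ⁅V, t⁆ := by
      rw [← hc.inf_axis hA hT htE hTt]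
      have h' := mul_mem (show u' * w ∈ centralizer (t : Set G) from hv.2) (inv_mem hwt)
      rw [mul_inv_cancel_right] at h'
      exact ⟨hu', h'⟩
    have hPeq : ⁅V, B⁆ = ⁅V, t⁆ := Subgroup.eq_of_le_of_card_ge hP (by rw [hTB.cardP, hTt.cardP])
    have hwB : w ∈ V ⊓ centralizer (B : Set G) :=
      inf_le_inf_left V (Subgroup.centralizer_le (SetLike.coe_subset_coe.mpr hBE)) (hWeq.ge hw)
    exact mul_mem (hTB.le (hPeq.ge hu't)) hwB
  have hBt : B = t := hc.act.trans_eq (hc.conj_le hA (hc.Q_le hq)) hB hTt hTB hP hCB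
  have hle : eOff p H B ≤ eOff p H A := by
    refine hc.eOff_le fun x hx => ?_
    rintro _ ⟨b, hb, rfl⟩
    exact (mem_normalizer_iff.mp (hc.le_normalizer_eOff_Q hx) b).mp (htE (hBt ▸ hb))
  refine Subgroup.eq_of_le_of_card_ge hle ?_
  obtain ⟨e1⟩ := (hc.eOff_decomp hA hT).2.2.2
  obtain ⟨e2⟩ := (hc.eOff_decomp hB hTB).2.2.2
  rw [Nat.card_congr e1.toEquiv, Nat.card_congr e2.toEquiv]

theorem eOff_conj (hA : A ≤ H) {g : G} (hg : g ∈ H) :
    eOff p H (A.map (MulAut.conj g).toMonoidHom) = (eOff p H A).map (MulAut.conj g).toMonoidHom := by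
  rw [eOff, eOff, Subgroup.map_sup, map_commutator]
  congr 2
  exact (Subgroup.mem_normalizer_iff_map_conj_eq.mp (hc.Q_norm hg)).symm

/-- Transvection groups of `H` normalize every `E`. -/
theorem trans_le_normalizer (hA : A ≤ H) (hT : IsTrans p V A) (hB : B ≤ H) (hTB : IsTrans p V B) :
    B ≤ normalizer (eOff p H A : Set G) := by
  rcases hc.eq_or_orth hB hTB hA hT with h | h
  · exact le_sup_right.trans ((hc.eOff_eq hA hT hB hTB h.symm).le.trans Subgroup.le_normalizer)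
  · intro g hg
    have hgH := hB hg
    rw [Subgroup.mem_normalizer_iff_map_conj_eq]
    show (eOff p H A).map (MulAut.conj g).toMonoidHom = _
    rw [← hc.eOff_conj hA hgH]
    refine hc.eOff_eq hA hT (hc.conj_le hA hgH) (hc.conj_trans hT hgH) ?_
    have hVg : V.map (MulAut.conj g).toMonoidHom = V := Subgroup.mem_normalizer_iff_map_conj_eq.mp (hc.act.norm hgH)
    rw [hc.eOff_conj hA hgH]
    conv_rhs => rw [← hVg, ← map_commutator]
    refine (Subgroup.mem_normalizer_iff_map_conj_eq.mp (Subgroup.centralizer_le_normalizer _ ?_)).symm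
    rw [Subgroup.mem_centralizer_iff]
    intro u hu
    exact (Subgroup.mem_centralizer_iff.mp (hc.orth_le hB hTB hA h hu).2 g (mem_sup_right hg)).symm

theorem trans_le_or_centralizer (hA : A ≤ H) (hT : IsTrans p V A) (hB : B ≤ H) (hTB : IsTrans p V B) :
    B ≤ eOff p H A ∨ B ≤ centralizer ((⁅V, eOff p H A⁆ : Subgroup G) : Set G) := by
  rcases hc.eq_or_orth hB hTB hA hT with h | h
  · exact Or.inl (le_sup_right.trans (hc.eOff_eq hA hT hB hTB h.symm).le)
  · exact Or.inr (le_centralizer_iff.mp ((hc.orth_le hB hTB hA h).trans (inf_le_right.trans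
      (Subgroup.centralizer_le (SetLike.coe_subset_coe.mpr le_sup_right)))))


end OffCtx

end Cfsg.Agent.PLocal
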