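/-
`H` is the direct product of the subgroups `E`, and `V` of `C_V(H)` and the planes.
-/
import Cfsg.Agent.PLocal.OffenderStructure

set_option linter.unusedSectionVars false
set_option linter.style.haveILetI false

namespace Cfsg.Agent.PLocal

open Subgroup Cfsg
open scoped commutatorElement

variable {G : Type*} [Group G] [Finite G] {p : ℕ} [hp : Fact p.Prime]

theorem offCtx_of {V H : Subgroup G} (hV : IsElementaryAbelian p V) (hHV : H ≤ normalizer (V : Set G))
    (hf : H ⊓ centralizer (V : Set G) = ⊥)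
    (hS1 : centralizer (pPrimeCore p H : Set H) ≤ pPrimeCore p H) : OffCtx p V H := ⟨⟨hV, hHV, hf⟩, hS1⟩

namespace OffCtx

variable {V H : Subgroup G} (hc : OffCtx p V H)
include hc

/-- The minimal non-trivially acting best offenders are transvection groups. -/
theorem trans_of_min {A : Subgroup G} (hA : A ≤ H) (ho : IsBestOffenderOn p V A) (hAV : ⁅V, A⁆ ≠ ⊥)
    (hmin : ∀ B : Subgroup G, B ≤ A → IsBestOffenderOn p V B → ⁅V, B⁆ ≠ ⊥ → B = A) : IsTrans p V A :=
  hc.trans_of_offender hA ho (hc.minimal_card hA ho hAV hmin)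

/-- Offenders of order `p` are minimal and act non-trivially. -/
theorem min_of_card {A : Subgroup G} (hA : A ≤ H) (hcard : Nat.card A = p) :
    ⁅V, A⁆ ≠ ⊥ ∧ ∀ B : Subgroup G, B ≤ A → IsBestOffenderOn p V B → ⁅V, B⁆ ≠ ⊥ → B = A := by
  refine ⟨fun e => ?_, fun B hBA _ hB => hc.minimal_of_card hcard hBA hB⟩
  rw [hc.act.disjoint hA e, Subgroup.card_bot] at hcard
  exact hp.out.ne_one hcard.symm

/-- `H` is generated by offenders of order `p`. -/
theorem le_of_gen (hS3 : H = ⨆ A : {A : Subgroup G // A ≤ H ∧ IsBestOffenderOn p V A}, (A : Subgroup G))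
    {K : Subgroup G}
    (hK : ∀ B : Subgroup G, B ≤ H → IsBestOffenderOn p V B → Nat.card B = p → IsTrans p V B → B ≤ K) :
    H ≤ K := by
  refine hS3.le.trans (iSup_le ?_)
  rintro ⟨A, hAH, hAo⟩
  show A ≤ K
  by_cases hA : A = ⊥
  · rw [hA]; exact bot_le
  refine ((hc.offender_main _ A rfl hAH hAo hA).2).trans (iSup_le ?_)
  rintro ⟨B, hBA, hBo, hBc⟩
  exact hK B (hBA.trans hAH) hBo hBc (hc.trans_of_offender (hBA.trans hAH) hBo hBc)

/-- A nontrivial offender is the product of an independent family of offenders of order `p`. -/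
theorem exists_indep {A : Subgroup G} (hA : A ≤ H) (ho : IsBestOffenderOn p V A) (hne : A ≠ ⊥) :
    ∃ (k : ℕ) (B : Fin k → Subgroup G), (∀ i, B i ≤ A ∧ IsBestOffenderOn p V (B i) ∧ Nat.card (B i) = p) ∧
      iSupIndep B ∧ ⨆ i, B i = A := by
  classical
  have hgen : A ≤ ⨆ B : {B : Subgroup G // B ≤ A ∧ IsBestOffenderOn p V B ∧ Nat.card B = p}, (B : Subgroup G) :=
    (hc.offender_main _ A rfl hA ho hne).2
  haveI : Fintype {B : Subgroup G // B ≤ A ∧ IsBestOffenderOn p V B ∧ Nat.card B = p} := Fintype.ofFinite _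
  obtain ⟨s, hs, hmin⟩ := (Set.toFinite {s : Finset {B : Subgroup G // B ≤ A ∧ IsBestOffenderOn p V B ∧ Nat.card B = p} |
    A ≤ ⨆ B ∈ s, (B : Subgroup G)}).exists_minimalFor Finset.card _
    ⟨Finset.univ, by simpa using hgen⟩
  let B : Fin s.card → Subgroup G := fun i => ((s.equivFin.symm i).1 : Subgroup G)
  have hB : ∀ i, B i ≤ A ∧ IsBestOffenderOn p V (B i) ∧ Nat.card (B i) = p := fun i => (s.equivFin.symm i).1.2
  refine ⟨s.card, B, hB, ?_, le_antisymm (iSup_le fun i => (hB i).1) (le_trans hs (iSup₂_le fun b hb => ?_))⟩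
  · intro i
    rw [disjoint_iff]
    refine (eq_bot_or_eq_of_le_card_prime (hB i).2.2 inf_le_left).resolve_right fun e => ?_
    have hi : B i ≤ ⨆ (j) (_ : j ≠ i), B j := e.ge.trans inf_le_right
    set b := (s.equivFin.symm i).1 with hb
    have hbs : b ∈ s := (s.equivFin.symm i).2
    have hle : A ≤ ⨆ B ∈ s.erase b, (B : Subgroup G) := by
      have hle' : (⨆ (j) (_ : j ≠ i), B j) ≤ ⨆ B ∈ s.erase b, (B : Subgroup G) := by
        refine iSup₂_le fun j hj => ?_
        refine le_iSup₂_of_le (s.equivFin.symm j).1 (Finset.mem_erase.mpr ⟨fun e' => hj ?_, (s.equivFin.symm j).2⟩) le_rfl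
        exact s.equivFin.symm.injective (Subtype.ext e')
      refine le_trans hs (iSup₂_le fun c hcs => ?_)
      by_cases hcb : c = b
      · subst hcb; exact hi.trans hle'
      · exact le_iSup₂_of_le c (Finset.mem_erase.mpr ⟨hcb, hcs⟩) le_rfl
    have hlt : (s.erase b).card < s.card := Finset.card_erase_lt_of_mem hbs
    exact absurd (hmin hle hlt.le) (not_le.mpr hlt)
  · refine le_iSup_of_le (s.equivFin ⟨b, hb⟩) ?_
    simp [B]

section factor

variable {A : Subgroup G} (hS3 : H = ⨆ A : {A : Subgroup G // A ≤ H ∧ IsBestOffenderOn p V A}, (A : Subgroup G))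
  (hA : A ≤ H) (hT : IsTrans p V A)
include hS3 hA hT

theorem H_normalizes : H ≤ normalizer (eOff p H A : Set G) :=
  hc.le_of_gen hS3 fun _ hB _ _ hTB => hc.trans_le_normalizer hA hT hB hTB

theorem eOff_sup_centralizer :
    eOff p H A ⊔ (H ⊓ centralizer ((⁅V, eOff p H A⁆ : Subgroup G) : Set G)) = H := by
  refine le_antisymm (sup_le (hc.eOff_le_H hA) inf_le_left) (hc.le_of_gen hS3 fun B hB _ _ hTB => ?_)
  rcases hc.trans_le_or_centralizer hA hT hB hTB with h | h
  · exact h.trans le_sup_left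
  · exact (le_inf hB h).trans le_sup_right

theorem eOff_inf_centralizer :
    eOff p H A ⊓ (H ⊓ centralizer ((⁅V, eOff p H A⁆ : Subgroup G) : Set G)) = ⊥ :=
  (Subgroup.eq_bot_iff_forall _).mpr fun _ hg => hc.eq_one_of_fix_plane hA hT hg.1 fun u hu =>
    (Subgroup.mem_centralizer_iff.mp hg.2.2 u hu).symm

theorem eOff_comm_centralizer :
    ⁅eOff p H A, H ⊓ centralizer ((⁅V, eOff p H A⁆ : Subgroup G) : Set G)⁆ = ⊥ := by
  rw [← le_bot_iff, ← hc.eOff_inf_centralizer hS3 hA hT, commutator_le]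
  intro e he c hcm
  have heH := hc.eOff_le_H hA he
  have hcH : c ∈ H := hcm.1
  refine ⟨?_, (show ⁅e, c⁆ ∈ H from mul_mem (mul_mem (mul_mem heH hcH) (inv_mem heH)) (inv_mem hcH)), ?_⟩
  · rw [show ⁅e, c⁆ = e * (c * e⁻¹ * c⁻¹) by simp only [commutatorElement_def]; group]
    exact mul_mem he ((mem_normalizer_iff.mp (hc.H_normalizes hS3 hA hT hcm.1) _).mp (inv_mem he))
  · show _ ∈ centralizer _
    rw [Subgroup.mem_centralizer_iff]
    intro u hu
    have hcu : ∀ w ∈ ⁅V, eOff p H A⁆, c * w = w * c := fun w hw =>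
      (Subgroup.mem_centralizer_iff.mp hcm.2 w hw).symm
    have h1 := (mem_normalizer_iff''.mp (hc.E_norm_plane hA he) u).mp hu
    have h2 := hcu _ h1
    have h3 := hcu u hu
    simp only [commutatorElement_def]
    calc u * (e * c * e⁻¹ * c⁻¹) = e * ((e⁻¹ * u * e) * c) * e⁻¹ * c⁻¹ := by group
      _ = e * c * e⁻¹ * (u * c⁻¹) := by rw [← h2]; group
      _ = e * c * e⁻¹ * (c⁻¹ * u) := by rw [(show Commute c u from h3).inv_left.eq]
      _ = _ := by group

theorem commutator_centralizer_le :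
    ⁅V, H ⊓ centralizer ((⁅V, eOff p H A⁆ : Subgroup G) : Set G)⁆ ≤ V ⊓ centralizer (eOff p H A : Set G) := by
  set U := ⁅V, eOff p H A⁆ with hU
  set W := V ⊓ centralizer (eOff p H A : Set G) with hW
  rw [commutator_le]
  intro v hv c hcm
  obtain ⟨u, hu, w, hw, rfl⟩ := Coprime.exists_mul_of_mem_sup (N := U) (A := W) (fun w hw =>
    Subgroup.centralizer_le_normalizer _ (Subgroup.mem_centralizer_iff.mpr fun u hu =>
      hc.act.commV (hc.plane_le hA hu) hw.1)) ((hc.eOff_decomp hA hT).2.2.1 hv)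
  have hu' : ∀ x ∈ U, c * x = x * c := fun x hx => (Subgroup.mem_centralizer_iff.mp hcm.2 x hx).symm
  have hcw : c * w⁻¹ * c⁻¹ ∈ W := by
    refine ⟨hc.act.conjV hcm.1 (inv_mem hw.1), ?_⟩
    show _ ∈ centralizer _
    rw [Subgroup.mem_centralizer_iff]
    intro e he
    have h1 : Commute e c := commutatorElement_eq_one_iff_mul_comm.mp (Subgroup.mem_bot.mp
      (hc.eOff_comm_centralizer hS3 hA hT ▸ commutator_mem_commutator he hcm))
    have h2 : Commute e w⁻¹ := Subgroup.mem_centralizer_iff.mp (inv_mem (show w ∈ centralizer (eOff p H A : Set G) from hw.2)) e he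
    exact (h1.mul_right h2).mul_right h1.inv_right
  have hcu : c * u⁻¹ * c⁻¹ = u⁻¹ := by rw [hu' _ (inv_mem hu), mul_inv_cancel_right]
  rw [show ⁅u * w, c⁆ = u * (w * (c * w⁻¹ * c⁻¹)) * (c * u⁻¹ * c⁻¹) by
    simp only [commutatorElement_def]; group, hcu]
  have hmem : w * (c * w⁻¹ * c⁻¹) ∈ W := mul_mem hw hcw
  rwa [hc.act.commV (hc.plane_le hA hu) hmem.1, mul_inv_cancel_right]

end factor

/-- The index type of the factors. -/
abbrev Factor (p : ℕ) (V H : Subgroup G) : Type _ :=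
  {E : Subgroup G // ∃ A : Subgroup G, A ≤ H ∧ IsBestOffenderOn p V A ∧ ⁅V, A⁆ ≠ ⊥ ∧
    (∀ B : Subgroup G, B ≤ A → IsBestOffenderOn p V B → ⁅V, B⁆ ≠ ⊥ → B = A) ∧
    E = ⁅(pPrimeCore p H).map H.subtype, A⁆ ⊔ A}

theorem factor_spec (E : Factor p V H) : ∃ A : Subgroup G, A ≤ H ∧ IsTrans p V A ∧ (E : Subgroup G) = eOff p H A := by
  obtain ⟨E, A, hA, ho, hne, hmin, rfl⟩ := E
  exact ⟨A, hA, hc.trans_of_min hA ho hne hmin, rfl⟩

theorem factor_orth {E F : Factor p V H} (h : E ≠ F) :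
    ⁅V, (F : Subgroup G)⁆ ≤ V ⊓ centralizer ((E : Subgroup G) : Set G) := by
  obtain ⟨A, hA, hTA, eA⟩ := hc.factor_spec E
  obtain ⟨B, hB, hTB, eB⟩ := hc.factor_spec F
  rw [eA, eB]
  refine hc.orth_le hA hTA hB ((hc.eq_or_orth hA hTA hB hTB).resolve_left fun e => h ?_)
  exact Subtype.ext (eA.trans ((hc.eOff_eq hA hTA hB hTB e).symm.trans eB.symm))

theorem factor_iSupIndep (hS3 : H = ⨆ A : {A : Subgroup G // A ≤ H ∧ IsBestOffenderOn p V A}, (A : Subgroup G)) :
    iSupIndep (fun E : Factor p V H => (E : Subgroup G)) := by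
  intro E
  rw [disjoint_iff, ← le_bot_iff]
  obtain ⟨A, hA, hTA, eA⟩ := hc.factor_spec E
  refine le_trans ?_ (hc.eOff_inf_centralizer hS3 hA hTA).le
  refine inf_le_inf eA.le (iSup₂_le fun F hF => ?_)
  obtain ⟨B, hB, hTB, eB⟩ := hc.factor_spec F
  show (F : Subgroup G) ≤ _
  rw [eB]
  refine le_inf (hc.eOff_le_H hB) (le_centralizer_iff.mp ?_)
  rw [← eA, ← eB]
  exact (hc.factor_orth hF).trans inf_le_right

theorem factor_iSup (hS3 : H = ⨆ A : {A : Subgroup G // A ≤ H ∧ IsBestOffenderOn p V A}, (A : Subgroup G)) :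
    (⨆ E : Factor p V H, (E : Subgroup G)) = H := by
  refine le_antisymm (iSup_le fun E => ?_) (hc.le_of_gen hS3 fun B hB hBo hBc _ => ?_)
  · obtain ⟨A, hA, -, eA⟩ := hc.factor_spec E
    rw [eA]; exact hc.eOff_le_H hA
  · obtain ⟨h1, h2⟩ := hc.min_of_card hB hBc
    exact le_iSup_of_le (⟨_, B, hB, hBo, h1, h2, rfl⟩ : Factor p V H) le_sup_right

theorem centralizer_H_le (E : Factor p V H) :
    V ⊓ centralizer (H : Set G) ≤ V ⊓ centralizer ((E : Subgroup G) : Set G) := by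
  obtain ⟨A, hA, -, eA⟩ := hc.factor_spec E
  rw [eA]
  exact inf_le_inf_left V (Subgroup.centralizer_le (SetLike.coe_subset_coe.mpr (hc.eOff_le_H hA)))

theorem plane_inf (E : Factor p V H) :
    ⁅V, (E : Subgroup G)⁆ ⊓ (V ⊓ centralizer ((E : Subgroup G) : Set G)) = ⊥ := by
  obtain ⟨A, hA, hTA, eA⟩ := hc.factor_spec E
  rw [eA]; exact (hc.eOff_decomp hA hTA).2.1

theorem plane_le_V (E : Factor p V H) : ⁅V, (E : Subgroup G)⁆ ≤ V := by
  obtain ⟨A, hA, -, eA⟩ := hc.factor_spec E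
  rw [eA]; exact hc.plane_le hA

theorem normV {X Y : Subgroup G} (hX : X ≤ V) (hY : Y ≤ V) : Y ≤ normalizer (X : Set G) := fun _ hy =>
  Subgroup.centralizer_le_normalizer _
    (Subgroup.mem_centralizer_iff.mpr fun _ hx => hc.act.commV (hX hx) (hY hy))

theorem inf_iSup_planes (s : Finset (Factor p V H)) :
    (V ⊓ centralizer (H : Set G)) ⊓ (⨆ E ∈ s, ⁅V, (E : Subgroup G)⁆) = ⊥ := by
  classical
  induction s using Finset.induction_on with
  | empty => simp
  | @insert E s hEs ih =>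
    rw [eq_bot_iff, Finset.iSup_insert]
    intro x hx
    obtain ⟨u, hu, r, hr, rfl⟩ := Coprime.exists_mul_of_mem_sup
      (N := ⁅V, (E : Subgroup G)⁆) (A := ⨆ F ∈ s, ⁅V, (F : Subgroup G)⁆)
      (hc.normV (hc.plane_le_V E) (iSup₂_le fun F _ => hc.plane_le_V F)) hx.2
    have hrW : r ∈ V ⊓ centralizer ((E : Subgroup G) : Set G) :=
      (iSup₂_le fun F hF => hc.factor_orth (by rintro rfl; exact hEs hF)) hr
    have hu1 : u = 1 := Subgroup.mem_bot.mp (hc.plane_inf E ▸ ⟨hu, by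
      have h := mul_mem (hc.centralizer_H_le E hx.1) (inv_mem hrW)
      rwa [mul_inv_cancel_right] at h⟩)
    rw [hu1, one_mul] at hx ⊢
    exact ih ▸ ⟨hx.1, hr⟩

theorem exists_decomp (s : Finset (Factor p V H)) : ∀ v ∈ V, ∃ u ∈ ⨆ E ∈ s, ⁅V, (E : Subgroup G)⁆,
    u⁻¹ * v ∈ V ∧ ∀ E ∈ s, u⁻¹ * v ∈ V ⊓ centralizer ((E : Subgroup G) : Set G) := by
  classical
  induction s using Finset.induction_on with
  | empty => intro v hv; exact ⟨1, one_mem _, by simpa using hv, fun E hE => absurd hE (Finset.notMem_empty E)⟩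
  | @insert E s hEs ih =>
    intro v hv
    obtain ⟨u, hu, huv, hfix⟩ := ih v hv
    obtain ⟨A, hA, hTA, eA⟩ := hc.factor_spec E
    have hVd : V ≤ ⁅V, (E : Subgroup G)⁆ ⊔ (V ⊓ centralizer ((E : Subgroup G) : Set G)) := by
      rw [eA]; exact (hc.eOff_decomp hA hTA).2.2.1
    obtain ⟨w, hw, w', hw', e⟩ := Coprime.exists_mul_of_mem_sup
      (N := ⁅V, (E : Subgroup G)⁆) (A := V ⊓ centralizer ((E : Subgroup G) : Set G))
      (hc.normV (hc.plane_le_V E) inf_le_left) (hVd huv)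
    have e' : (u * w)⁻¹ * v = w' := by
      rw [mul_inv_rev, mul_assoc, ← e]; group
    refine ⟨u * w, ?_, e' ▸ hw'.1, fun F hF => ?_⟩
    · rw [Finset.iSup_insert]
      exact mul_mem (mem_sup_right hu) (mem_sup_left hw)
    · rw [e']
      rcases Finset.mem_insert.mp hF with rfl | hF'
      · exact hw'
      · have hne : F ≠ E := by rintro rfl; exact hEs hF'
        have h := mul_mem (inv_mem (hc.factor_orth hne hw)) (hfix F hF')
        rwa [← e, inv_mul_cancel_left] at h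

theorem planes_iSup (hS3 : H = ⨆ A : {A : Subgroup G // A ≤ H ∧ IsBestOffenderOn p V A}, (A : Subgroup G)) :
    (V ⊓ centralizer (H : Set G)) ⊔ (⨆ E : Factor p V H, ⁅V, (E : Subgroup G)⁆) = V := by
  classical
  haveI : Fintype (Factor p V H) := Fintype.ofFinite _
  refine le_antisymm (sup_le inf_le_left (iSup_le hc.plane_le_V)) fun v hv => ?_
  obtain ⟨u, hu, huv, hfix⟩ := hc.exists_decomp Finset.univ v hv
  have hC : u⁻¹ * v ∈ centralizer (H : Set G) := by
    have hle : H ≤ centralizer ({u⁻¹ * v} : Set G) := by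
      refine (hc.factor_iSup hS3).ge.trans (iSup_le fun E g hg => ?_)
      rw [Subgroup.mem_centralizer_singleton_iff]
      exact Subgroup.mem_centralizer_iff.mp (hfix E (Finset.mem_univ E)).2 g hg
    exact Subgroup.mem_centralizer_iff.mpr fun g hg => Subgroup.mem_centralizer_singleton_iff.mp (hle hg)
  rw [show v = u * (u⁻¹ * v) by group]
  exact mul_mem (mem_sup_right ((iSup₂_le fun E _ => le_iSup (fun E : Factor p V H => ⁅V, (E : Subgroup G)⁆) E) hu))
    (mem_sup_left ⟨huv, hC⟩)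

theorem planes_iSupIndep :
    iSupIndep (fun o : Option (Factor p V H) =>
      o.elim (V ⊓ centralizer (H : Set G)) (fun E => ⁅V, (E : Subgroup G)⁆)) := by
  classical
  haveI : Fintype (Factor p V H) := Fintype.ofFinite _
  intro o
  rw [disjoint_iff, ← le_bot_iff]
  rcases o with _ | E
  · refine le_trans ?_ (hc.inf_iSup_planes Finset.univ).le
    refine inf_le_inf le_rfl (iSup₂_le fun j hj => ?_)
    rcases j with _ | F
    · exact absurd rfl hj
    · exact le_iSup₂_of_le F (Finset.mem_univ F) le_rfl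
  · refine le_trans ?_ (hc.plane_inf E).le
    refine inf_le_inf le_rfl (iSup₂_le fun j hj => ?_)
    rcases j with _ | F
    · exact hc.centralizer_H_le E
    · exact hc.factor_orth fun e => hj (by rw [e])

end OffCtx

end Cfsg.Agent.PLocal
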