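/-
The group induced by the Thompson subgroup on a normal elementary abelian `p`-subgroup.
-/
import Cfsg.Agent.PLocal.OffenderDirect
import Cfsg.Agent.PLocal.Factorizable
import Mathlib.GroupTheory.SemidirectProduct

set_option linter.unusedSectionVars false
set_option linter.style.haveILetI false

namespace Cfsg.Agent.PLocal

open Subgroup Cfsg
open scoped commutatorElement

universe u

variable {G : Type u} [Group G] [Finite G] {p : ℕ} [hp : Fact p.Prime]

section ambient

variable (V : Subgroup G) [V.Normal]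

/-- The action of `G / C(V)` on `V`. -/
noncomputable def conjQuot : G ⧸ centralizer (V : Set G) →* MulAut V :=
  QuotientGroup.lift _ MulAut.conjNormal fun c hc => MonoidHom.mem_ker.mpr <| by
    ext v
    show c * (v : G) * c⁻¹ = v
    rw [← Subgroup.mem_centralizer_iff.mp hc v v.2, mul_inv_cancel_right]

/-- `V ⋊ G / C(V)`. -/
abbrev Amb : Type u := V ⋊[conjQuot V] (G ⧸ centralizer (V : Set G))

instance : Finite (Amb V) := Finite.of_equiv _ SemidirectProduct.equivProd.symm

/-- `V` inside the ambient group. -/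
noncomputable abbrev ambV : Subgroup (Amb V) := (SemidirectProduct.inl : V →* Amb V).range

/-- The map `G → V ⋊ G / C(V)`. -/
noncomputable def ambMap : G →* Amb V :=
  SemidirectProduct.inr.comp (QuotientGroup.mk' (centralizer (V : Set G)))

theorem ambMap_ker : (ambMap V).ker = centralizer (V : Set G) := by
  rw [ambMap, ← MonoidHom.comap_ker,
    (MonoidHom.ker_eq_bot_iff _).mpr SemidirectProduct.inr_injective, MonoidHom.comap_bot, QuotientGroup.ker_mk']

theorem ambMap_conj (g : G) (v : V) :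
    ambMap V g * SemidirectProduct.inl v * (ambMap V g)⁻¹ =
      SemidirectProduct.inl (MulAut.conjNormal g v) := by
  rw [ambMap, MonoidHom.comp_apply, ← map_inv]
  exact (SemidirectProduct.inl_aut _ v).symm

theorem ambMap_commute_iff (g : G) (v : V) :
    ambMap V g * SemidirectProduct.inl v = SemidirectProduct.inl v * ambMap V g ↔ g * (v : G) = v * g := by
  rw [← mul_inv_eq_iff_eq_mul, ambMap_conj, SemidirectProduct.inl_inj, Subtype.ext_iff,
    MulAut.conjNormal_apply, mul_inv_eq_iff_eq_mul]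

theorem ambV_inf_centralizer (B : Subgroup G) :
    ambV V ⊓ centralizer ((B.map (ambMap V) : Subgroup (Amb V)) : Set (Amb V)) =
      ((V ⊓ centralizer (B : Set G)).subgroupOf V).map SemidirectProduct.inl := by
  ext x
  constructor
  · rintro ⟨⟨v, rfl⟩, hv⟩
    refine ⟨v, ⟨v.2, Subgroup.mem_centralizer_iff.mpr fun b hb => ?_⟩, rfl⟩
    exact (ambMap_commute_iff V b v).mp (Subgroup.mem_centralizer_iff.mp hv _ ⟨b, hb, rfl⟩)
  · rintro ⟨v, hv, rfl⟩
    refine ⟨⟨v, rfl⟩, Subgroup.mem_centralizer_iff.mpr ?_⟩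
    rintro _ ⟨b, hb, rfl⟩
    exact (ambMap_commute_iff V b v).mpr (Subgroup.mem_centralizer_iff.mp hv.2 b hb)

theorem card_ambV_inf (B : Subgroup G) :
    Nat.card (ambV V ⊓ centralizer ((B.map (ambMap V) : Subgroup (Amb V)) : Set (Amb V)) : Subgroup (Amb V)) =
      Nat.card (V ⊓ centralizer (B : Set G) : Subgroup G) := by
  rw [ambV_inf_centralizer, Subgroup.card_map_of_injective SemidirectProduct.inl_injective,
    Nat.card_congr (Subgroup.subgroupOfEquivOfLe inf_le_left).toEquiv]

theorem card_ambV : Nat.card (ambV V) = Nat.card V :=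
  (Nat.card_congr (MonoidHom.ofInjective (SemidirectProduct.inl_injective (φ := conjQuot V))).toEquiv).symm

theorem card_map_amb (A : Subgroup G) :
    Nat.card (A.map (ambMap V)) * Nat.card (A ⊓ centralizer (V : Set G) : Subgroup G) = Nat.card A := by
  rw [← Subgroup.relIndex_ker, ambMap_ker, inf_comm, mul_comm,
    ← Nat.card_congr (Subgroup.subgroupOfEquivOfLe (inf_le_right : centralizer (V : Set G) ⊓ A ≤ A)).toEquiv,
    Subgroup.inf_subgroupOf_right]
  exact Subgroup.card_mul_index _

theorem range_le_normalizer : (ambMap V).range ≤ normalizer (ambV V : Set (Amb V)) := by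
  rintro _ ⟨g, rfl⟩
  refine mem_normalizer_fintype ?_
  rintro _ ⟨v, rfl⟩
  exact ⟨_, (ambMap_conj V g v).symm⟩

theorem range_inf_centralizer : (ambMap V).range ⊓ centralizer (ambV V : Set (Amb V)) = ⊥ := by
  rw [Subgroup.eq_bot_iff_forall]
  rintro _ ⟨⟨g, rfl⟩, hg⟩
  rw [← MonoidHom.mem_ker, ambMap_ker, Subgroup.mem_centralizer_iff]
  intro v hv
  exact ((ambMap_commute_iff V g ⟨v, hv⟩).mp (Subgroup.mem_centralizer_iff.mp hg _ ⟨⟨v, hv⟩, rfl⟩).symm).symm

theorem ambV_EA (hV : IsElementaryAbelian p V) : IsElementaryAbelian p (ambV V) := by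
  refine ⟨?_, ?_⟩
  · refine ⟨⟨fun a b => ?_⟩⟩
    obtain ⟨a, v, rfl⟩ := a
    obtain ⟨b, w, rfl⟩ := b
    refine Subtype.ext ?_
    show SemidirectProduct.inl v * SemidirectProduct.inl w = SemidirectProduct.inl w * SemidirectProduct.inl v
    rw [← map_mul, ← map_mul, hV.1.is_comm.comm]
  · rintro _ ⟨v, rfl⟩
    rw [← map_pow, show v ^ p = 1 from Subtype.ext (hV.2 v v.2), map_one]

theorem offender_map {A : Subgroup G} (ho : IsBestOffenderOn p V A) :
    IsBestOffenderOn p (ambV V) (A.map (ambMap V)) := by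
  obtain ⟨h1, h2, h3⟩ := ho
  refine ⟨fun B' hB' => ?_, ?_, ?_⟩
  · set B := A ⊓ B'.comap (ambMap V) with hB
    have hBm : B.map (ambMap V) = B' := by
      refine le_antisymm ((Subgroup.map_mono inf_le_right).trans (Subgroup.map_comap_le _ _)) fun x hx => ?_
      obtain ⟨a, ha, rfl⟩ := hB' hx
      exact ⟨a, ⟨ha, hx⟩, rfl⟩
    have hBC : B ⊓ centralizer (V : Set G) = A ⊓ centralizer (V : Set G) := by
      refine le_antisymm (inf_le_inf_right _ inf_le_left) (le_inf (le_inf inf_le_left fun a ha => ?_) inf_le_right)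
      show ambMap V a ∈ B'
      rw [MonoidHom.mem_ker.mp (show a ∈ (ambMap V).ker by rw [ambMap_ker]; exact ha.2)]
      exact one_mem _
    have h := h1 B inf_le_left
    rw [← card_map_amb V B, ← card_map_amb V A, hBC, hBm, ← card_ambV_inf V A, ← card_ambV_inf V B, hBm,
      mul_right_comm (Nat.card B'), mul_right_comm (Nat.card (A.map (ambMap V)))] at h
    exact Nat.le_of_mul_le_mul_right h Nat.card_pos
  · rw [← map_commutator, (Subgroup.map_eq_bot_iff _).mpr (h2.trans (ambMap_ker V).ge)]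
    exact bot_le
  · rintro _ ⟨a, ha, rfl⟩
    rw [← map_pow, MonoidHom.mem_ker.mp (show a ^ p ∈ (ambMap V).ker by rw [ambMap_ker]; exact h3 a ha)]
    exact one_mem _

/-- The image of the Thompson subgroup. -/
noncomputable abbrev ambJ (p : ℕ) : Subgroup (Amb V) := (thompsonSubgroup p G).map (ambMap V)

theorem offCtx_amb (hsep : IsPSolvable p G) (hV : IsElementaryAbelian p V)
    (hO : pCore p (G ⧸ centralizer (V : Set G)) = ⊥) : OffCtx p (ambV V) (ambJ V p) := by
  refine offCtx_of (ambV_EA V hV) ((MonoidHom.range_eq_map (ambMap V) ▸ Subgroup.map_mono le_top :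
      ambJ V p ≤ (ambMap V).range).trans (range_le_normalizer V))
    (le_bot_iff.mp ((range_inf_centralizer V) ▸ inf_le_inf_right _
      (MonoidHom.range_eq_map (ambMap V) ▸ Subgroup.map_mono le_top))) ?_
  set Jb := (thompsonSubgroup p G).map (QuotientGroup.mk' (centralizer (V : Set G))) with hJb
  haveI : Jb.Normal := Subgroup.Normal.map inferInstance _ (QuotientGroup.mk'_surjective _)
  have e : Jb ≃* ambJ V p := (Subgroup.equivMapOfInjective Jb SemidirectProduct.inr
    (SemidirectProduct.inr_injective (φ := conjQuot V))).trans (MulEquiv.subgroupCongr (by rw [hJb, Subgroup.map_map]; rfl))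
  have hsol : IsPSolvable p (ambJ V p) :=
    Core.isPSolvable_congr e (Core.isPSolvable_subgroup (Core.isPSolvable_quotient hsep _) _)
  have hcore : pCore p (ambJ V p) = ⊥ := (Core.pCore_eq_bot_congr e).mp (Core.pCore_eq_bot_of_normal Jb hO)
  have h := Core.centralizer_piCore_le (Core.isPiSeparable_compl (Core.isPiSeparable_of_isPSolvable hsol))
    (by rw [compl_compl, ← Core.pCore_eq_piCore, hcore])
  rwa [← Core.pPrimeCore_eq_piCore] at h

theorem ambJ_gen (hV : IsElementaryAbelian p V) :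
    ambJ V p = ⨆ A : {A : Subgroup (Amb V) // A ≤ ambJ V p ∧ IsBestOffenderOn p (ambV V) A}, (A : Subgroup (Amb V)) := by
  refine le_antisymm ?_ (iSup_le fun A => A.2.1)
  rw [ambJ, thompsonSubgroup, Subgroup.map_le_iff_le_comap]
  refine sSup_le fun A hA => ?_
  rw [← Subgroup.map_le_iff_le_comap]
  exact le_iSup (fun A : {A : Subgroup (Amb V) // A ≤ ambJ V p ∧ IsBestOffenderOn p (ambV V) A} =>
    (A : Subgroup (Amb V))) ⟨A.map (ambMap V),
      Subgroup.map_mono (le_thompsonSubgroup hA), offender_map V (isBestOffenderOn_of_maxEA hV hA)⟩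

end ambient

/-- `J(G)` induces a normal `SL(2, p)` on `V` if it acts non-trivially. -/
theorem exists_normal_sl2 (V : Subgroup G) [V.Normal] (hsep : IsPSolvable p G) (hV : IsElementaryAbelian p V)
    (hO : pCore p (G ⧸ centralizer (V : Set G)) = ⊥) (hJ : ¬ thompsonSubgroup p G ≤ centralizer (V : Set G)) :
    (p = 2 ∨ p = 3) ∧ ∃ E : Subgroup G, centralizer (V : Set G) ≤ E ∧
      E ≤ thompsonSubgroup p G ⊔ centralizer (V : Set G) ∧
      thompsonSubgroup p G ⊔ centralizer (V : Set G) ≤ normalizer (E : Set G) ∧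
      ∃ _ : ((centralizer (V : Set G)).subgroupOf E).Normal,
        Nonempty ((E ⧸ (centralizer (V : Set G)).subgroupOf E) ≃* Matrix.SpecialLinearGroup (Fin 2) (ZMod p)) := by
  have hc := offCtx_amb V hsep hV hO
  have hgen := ambJ_gen V hV
  have hH1 : ambJ V p ≠ ⊥ := fun e => hJ ((ambMap_ker V).le.trans' ((Subgroup.map_eq_bot_iff _).mp e))
  obtain ⟨A, hA, hTA⟩ : ∃ A, A ≤ ambJ V p ∧ IsTrans p (ambV V) A := by
    by_contra hcon
    push Not at hcon
    exact hH1 (le_bot_iff.mp (hc.le_of_gen hgen fun B hB _ _ hTB => absurd hTB (hcon B hB)))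
  refine ⟨hc.prime_eq hA hTA, (eOff p (ambJ V p) A).comap (ambMap V), ?_, ?_, ?_, ?_⟩
  · exact (ambMap_ker V).ge.trans (MonoidHom.ker_le_comap _ _)
  · refine (Subgroup.comap_mono (hc.eOff_le_H hA)).trans ?_
    rw [ambJ, Subgroup.comap_map_eq, ambMap_ker]
  · intro g hg
    have hgH : ambMap V g ∈ ambJ V p := by
      have h : thompsonSubgroup p G ⊔ centralizer (V : Set G) = (ambJ V p).comap (ambMap V) := by
        rw [ambJ, Subgroup.comap_map_eq, ambMap_ker]
      exact (h ▸ hg : g ∈ (ambJ V p).comap (ambMap V))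
    refine mem_normalizer_fintype fun x hx => ?_
    show ambMap V (g * x * g⁻¹) ∈ eOff p (ambJ V p) A
    rw [map_mul, map_mul, map_inv]
    exact (mem_normalizer_iff.mp (hc.H_normalizes hgen hA hTA hgH) _).mp hx
  · set E := (eOff p (ambJ V p) A).comap (ambMap V) with hE
    set f : E →* eOff p (ambJ V p) A := ((ambMap V).comp E.subtype).codRestrict _ fun x => x.2 with hf
    have hfs : Function.Surjective f := by
      rintro ⟨y, hy⟩
      obtain ⟨g, -, rfl⟩ := hc.eOff_le_H hA hy
      exact ⟨⟨g, hy⟩, rfl⟩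
    have hk : (centralizer (V : Set G)).subgroupOf E = f.ker := by
      ext x
      show (x : G) ∈ centralizer (V : Set G) ↔ f x = 1
      rw [hf, Subtype.ext_iff]
      exact (SetLike.ext_iff.mp (ambMap_ker V) (x : G)).symm
    haveI hn : ((centralizer (V : Set G)).subgroupOf E).Normal := by rw [hk]; infer_instance
    obtain ⟨e⟩ := (hc.eOff_decomp hA hTA).2.2.2
    exact ⟨hn, ⟨((QuotientGroup.quotientMulEquivOfEq hk).trans
      (QuotientGroup.quotientKerEquivOfSurjective f hfs)).trans e⟩⟩

/-- `J(G)` moves `Ω₁(Z(J(C(V))))` inside `V`. -/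
theorem commutator_omega_thompson_le (V : Subgroup G) [V.Normal] (hsep : IsPSolvable p G)
    (hV : IsElementaryAbelian p V) (hO : pCore p (G ⧸ centralizer (V : Set G)) = ⊥) :
    ⁅omegaOne p (centerThompsonOf p (centralizer (V : Set G))), thompsonSubgroup p G⁆ ≤ V := by
  set C := centralizer (V : Set G) with hC
  set X := omegaOne p (centerThompsonOf p C) with hX
  have hXle : X ≤ centerThompsonOf p C := (Subgroup.closure_le _).mpr fun _ hx => hx.1
  have hc := offCtx_amb V hsep hV hO
  set f := QuotientGroup.mk' V with hf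
  rw [← QuotientGroup.ker_mk' V, ← hf, ← Subgroup.map_eq_bot_iff, map_commutator,
    Subgroup.commutator_eq_bot_iff_le_centralizer, le_centralizer_iff, Subgroup.map_le_iff_le_comap, thompsonSubgroup]
  refine sSup_le fun A hA => ?_
  rw [← Subgroup.map_le_iff_le_comap, le_centralizer_iff, ← Subgroup.commutator_eq_bot_iff_le_centralizer,
    ← map_commutator, Subgroup.map_eq_bot_iff, hf, QuotientGroup.ker_mk']
  have hoff := isBestOffenderOn_of_maxEA hV hA
  set CA := V ⊓ centralizer (A : Set G) with hCA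
  have hval : Nat.card (A.map (ambMap V)) * Nat.card CA ≤ Nat.card V := by
    rcases eq_or_ne (A.map (ambMap V)) ⊥ with e | e
    · rw [e, Subgroup.card_bot, one_mul]; exact Subgroup.card_le_of_le inf_le_left
    · have h := (hc.offender_main _ _ rfl (Subgroup.map_mono (le_thompsonSubgroup hA)) (offender_map V hoff) e).1
      rw [card_ambV_inf, card_ambV] at h
      exact h.le
  set A₀ := A ⊓ C with hA₀
  have hA₀V : A₀ ≤ centralizer (V : Set G) := inf_le_right
  have hEA : IsElementaryAbelian p (A₀ ⊔ V) := isEA_sup (isEA_mono hA.1 inf_le_left) hV hA₀V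
  have hAV : A ⊓ V = CA := by
    refine le_antisymm (le_inf inf_le_right (inf_le_left.trans (le_centralizer_iff_isMulCommutative.mpr hA.1.1)))
      (le_inf ?_ inf_le_left)
    have h1 : IsElementaryAbelian p (A ⊔ CA) :=
      isEA_sup hA.1 (isEA_mono hV inf_le_left) (le_centralizer_iff.mp inf_le_right)
    exact le_sup_right.trans (Subgroup.eq_of_le_of_card_ge le_sup_left (hA.2 _ h1)).ge
  have hinf : A₀ ⊓ V = CA := by
    rw [← hAV, hA₀]
    refine le_antisymm (inf_le_inf_right _ inf_le_left) (le_inf (le_inf inf_le_left (inf_le_right.trans ?_)) inf_le_right)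
    exact le_centralizer_iff_isMulCommutative.mpr hV.1
  have hcard := card_sup_mul_card_inf (hA₀V.trans (Subgroup.centralizer_le_normalizer _))
  rw [hinf] at hcard
  have hbig : Nat.card A ≤ Nat.card (A₀ ⊔ V : Subgroup G) := by
    refine Nat.le_of_mul_le_mul_right ?_ (Nat.card_pos (α := CA))
    rw [hcard, ← card_map_amb V A, ← hA₀, mul_comm (Nat.card (A.map (ambMap V))), mul_assoc]
    exact Nat.mul_le_mul_left _ hval
  have hmax : (A₀ ⊔ V) ∈ maxElementaryAbelianSubgroups p G := ⟨hEA, fun E hE => (hA.2 E hE).trans hbig⟩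
  have hsupC : A₀ ⊔ V ≤ C := sup_le inf_le_right (le_centralizer_iff_isMulCommutative.mpr hV.1)
  have hJC : A₀ ⊔ V ≤ thompsonSubgroupOf p C := le_thompsonSubgroupOf' ⟨hsupC, hmax.1, fun E _ hE => hmax.2 E hE⟩
  have hX1 : X ≤ A₀ ⊔ V := (Subgroup.closure_le _).mpr fun x hx => by
    have h1 : IsElementaryAbelian p ((A₀ ⊔ V) ⊔ zpowers x) := isEA_sup hEA (isEA_zpowers hx.2)
      (le_centralizer_iff.mp ((zpowers_le.mpr hx.1.2).trans (Subgroup.centralizer_le (SetLike.coe_subset_coe.mpr hJC))))
    exact (Subgroup.eq_of_le_of_card_ge le_sup_left (hmax.2 _ h1)).ge (mem_sup_right (mem_zpowers x))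
  refine (commutator_mono hX1 le_rfl).trans ?_
  rw [commutator_le]
  intro x hx a ha
  obtain ⟨b, hb, v, hv, rfl⟩ := Coprime.exists_mul_of_mem_sup (N := A₀) (A := V)
    ((le_centralizer_iff.mp hA₀V).trans (Subgroup.centralizer_le_normalizer _)) hx
  have hba : b * a = a * b := comm_of_EA hA.1 hb.1 ha
  rw [show ⁅b * v, a⁆ = b * (v * (a * v⁻¹ * a⁻¹)) * b⁻¹ * (b * a * b⁻¹ * a⁻¹) by
    simp only [commutatorElement_def]; group, show b * a * b⁻¹ * a⁻¹ = 1 by rw [hba]; group, mul_one]
  exact Subgroup.Normal.conj_mem inferInstance _ (mul_mem hv (Subgroup.Normal.conj_mem inferInstance _ (inv_mem hv) a)) b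

end Cfsg.Agent.PLocal
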