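/-
Subnormal subgroups with `[V, E₁, E₂] = 1`.
-/
import Cfsg.Agent.PLocal.ElemAb
import Cfsg.Agent.Core.Subnormal
import Cfsg.Agent.Core.Cores

set_option linter.unusedSectionVars false
set_option linter.style.haveILetI false

namespace Cfsg.Agent.PLocal

open Subgroup Cfsg
open scoped commutatorElement

variable {G : Type*} [Group G]

/-- `A` and `B` normalize `[A, B]`. -/
theorem sup_le_normalizer_commutator [Finite G] (A B : Subgroup G) :
    A ⊔ B ≤ normalizer ((⁅A, B⁆ : Subgroup G) : Set G) := by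
  refine sup_le (fun e he => mem_normalizer_fintype fun z hz => ?_) (fun e he => mem_normalizer_fintype fun z hz => ?_)
  · suffices h : ⁅A, B⁆ ≤ (⁅A, B⁆).comap (MulAut.conj e).toMonoidHom from h hz
    rw [commutator_le]
    intro x hx y hy
    show e * ⁅x, y⁆ * e⁻¹ ∈ ⁅A, B⁆
    rw [show e * ⁅x, y⁆ * e⁻¹ = ⁅e * x, y⁆ * ⁅e, y⁆⁻¹ by simp only [commutatorElement_def]; group]
    exact mul_mem (commutator_mem_commutator (mul_mem he hx) hy) (inv_mem (commutator_mem_commutator he hy))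
  · suffices h : ⁅A, B⁆ ≤ (⁅A, B⁆).comap (MulAut.conj e).toMonoidHom from h hz
    rw [commutator_le]
    intro x hx y hy
    show e * ⁅x, y⁆ * e⁻¹ ∈ ⁅A, B⁆
    rw [show e * ⁅x, y⁆ * e⁻¹ = ⁅x, e⁆⁻¹ * ⁅x, e * y⁆ by simp only [commutatorElement_def]; group]
    exact mul_mem (inv_mem (commutator_mem_commutator hx he)) (commutator_mem_commutator hx (mul_mem he hy))

theorem commutator_le_pCore_of_chain [Finite G] {p : ℕ} [Fact p.Prime] (V H : Subgroup G)
    (hV : IsElementaryAbelian p V) (hHV : H ≤ normalizer (V : Set G))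
    (hf : H ⊓ centralizer (V : Set G) = ⊥) (E₁ E₂ : Subgroup G) (h₁ : E₁ ≤ H) (h₂ : E₂ ≤ H)
    (hs₁ : (E₁.subgroupOf H).IsSubnormal) (hs₂ : (E₂.subgroupOf H).IsSubnormal) (hc : ⁅⁅V, E₁⁆, E₂⁆ = ⊥) :
    ⁅E₁, E₂⁆ ≤ (pCore p H).map H.subtype := by
  set U := ⁅V, E₁⁆ with hU
  set D := ⁅E₁, E₂⁆ with hD
  have hUV : U ≤ V := by
    rw [hU, commutator_le]
    intro v hv e he
    rw [commutatorElement_def, mul_assoc v, mul_assoc v]
    exact mul_mem hv ((mem_normalizer_iff.mp (hHV (h₁ he)) _).mp (inv_mem hv))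
  have hL : E₁ ⊔ E₂ ≤ H := sup_le h₁ h₂
  have hLV : E₁ ⊔ E₂ ≤ normalizer (V : Set G) := hL.trans hHV
  have hE₁U : E₁ ≤ normalizer (U : Set G) := fun e he => by
    refine mem_normalizer_fintype fun z hz => ?_
    suffices h : U ≤ U.comap (MulAut.conj e).toMonoidHom from h hz
    conv_lhs => rw [hU]
    rw [commutator_le]
    intro v hv x hx
    show e * ⁅v, x⁆ * e⁻¹ ∈ U
    rw [show e * ⁅v, x⁆ * e⁻¹ = ⁅v, e⁆⁻¹ * ⁅v, e * x⁆ by simp only [commutatorElement_def]; group]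
    exact mul_mem (inv_mem (commutator_mem_commutator hv he)) (commutator_mem_commutator hv (mul_mem he hx))
  have hE₂U : ∀ y ∈ E₂, ∀ u ∈ U, y * u = u * y := fun y hy u hu =>
    (Subgroup.mem_centralizer_iff.mp (Subgroup.commutator_eq_bot_iff_le_centralizer.mp hc hu) y hy)
  -- on `V / U` only `E₂` acts, on `U` only `E₁`
  have hDU : D ≤ centralizer (U : Set G) := by
    rw [hD, commutator_le]
    intro x hx y hy
    rw [Subgroup.mem_centralizer_iff]
    intro u hu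
    have hu1 : x⁻¹ * u * x ∈ U := (mem_normalizer_iff''.mp (hE₁U hx) u).mp hu
    have c1 := hE₂U y hy _ hu1
    have c2 := hE₂U y⁻¹ (inv_mem hy) u hu
    rw [commutatorElement_def]
    calc u * (x * y * x⁻¹ * y⁻¹) = x * ((x⁻¹ * u * x) * y) * x⁻¹ * y⁻¹ := by group
      _ = x * (y * (x⁻¹ * u * x)) * x⁻¹ * y⁻¹ := by rw [c1]
      _ = x * y * x⁻¹ * (u * y⁻¹) := by group
      _ = x * y * x⁻¹ * (y⁻¹ * u) := by rw [c2]
      _ = _ := by group
  have hsep : ∀ d ∈ D, ∀ v ∈ V, d * v * d⁻¹ * v⁻¹ ∈ U := by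
    intro d hd
    -- the elements moving `V` only inside `U`
    let M : Subgroup G :=
      { carrier := {d | d ∈ normalizer (V : Set G) ∧ d ∈ normalizer (U : Set G) ∧ ∀ v ∈ V, d * v * d⁻¹ * v⁻¹ ∈ U}
        one_mem' := ⟨one_mem _, one_mem _, fun v _ => by simp⟩
        mul_mem' := fun {a b} ha hb => ⟨mul_mem ha.1 hb.1, mul_mem ha.2.1 hb.2.1, fun v hv => by
          rw [show a * b * v * (a * b)⁻¹ * v⁻¹ = (a * (b * v * b⁻¹ * v⁻¹) * a⁻¹) * (a * v * a⁻¹ * v⁻¹) by group]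
          exact mul_mem ((mem_normalizer_iff.mp ha.2.1 _).mp (hb.2.2 v hv)) (ha.2.2 v hv)⟩
        inv_mem' := fun {a} ha => ⟨inv_mem ha.1, inv_mem ha.2.1, fun v hv => by
          have h1 : a⁻¹ * v * a ∈ V := (mem_normalizer_iff''.mp ha.1 v).mp hv
          have h2 := ha.2.2 _ h1
          rw [show a⁻¹ * v * a⁻¹⁻¹ * v⁻¹ = (a * (a⁻¹ * v * a) * a⁻¹ * (a⁻¹ * v * a)⁻¹)⁻¹ by group]
          exact inv_mem h2⟩ }
    have hE₁M : E₁ ≤ M := fun e he => ⟨hHV (h₁ he), hE₁U he, fun v hv => by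
      rw [show e * v * e⁻¹ * v⁻¹ = ⁅v, e⁆⁻¹ by simp only [commutatorElement_def]; group]
      exact inv_mem (commutator_mem_commutator hv he)⟩
    have hE₂N : E₂ ≤ normalizer (U : Set G) := fun y hy => mem_normalizer_fintype fun u hu => by
      rw [hE₂U y hy u hu, mul_inv_cancel_right]; exact hu
    suffices hDM : D ≤ M from (hDM hd).2.2
    rw [hD, commutator_le]
    intro x hx y hy
    have hyx : y * x⁻¹ * y⁻¹ ∈ M := by
      refine ⟨hHV (mul_mem (mul_mem (h₂ hy) (inv_mem (h₁ hx))) (inv_mem (h₂ hy))),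
        mul_mem (mul_mem (hE₂N hy) (inv_mem (hE₁U hx))) (inv_mem (hE₂N hy)), fun v hv => ?_⟩
      have hv' : y⁻¹ * v * y ∈ V := (mem_normalizer_iff''.mp (hHV (h₂ hy)) v).mp hv
      have h := (hE₁M (inv_mem hx)).2.2 _ hv'
      rw [show y * x⁻¹ * y⁻¹ * v * (y * x⁻¹ * y⁻¹)⁻¹ * v⁻¹ =
        y * (x⁻¹ * (y⁻¹ * v * y) * x⁻¹⁻¹ * (y⁻¹ * v * y)⁻¹) * y⁻¹ by group]
      exact (mem_normalizer_iff.mp (hE₂N hy) _).mp h
    rw [show ⁅x, y⁆ = x * (y * x⁻¹ * y⁻¹) by simp only [commutatorElement_def]; group]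
    exact mul_mem (hE₁M hx) hyx
  have hDH : D ≤ H := by
    rw [hD, commutator_le]
    intro x hx y hy
    rw [commutatorElement_def]
    exact mul_mem (mul_mem (mul_mem (h₁ hx) (h₂ hy)) (inv_mem (h₁ hx))) (inv_mem (h₂ hy))
  have hDp : IsPGroup p D := by
    intro d
    refine ⟨1, Subtype.ext ?_⟩
    rw [pow_one, SubmonoidClass.coe_pow, OneMemClass.coe_one]
    have : (d : G) ^ p ∈ H ⊓ centralizer (V : Set G) := by
      refine Subgroup.mem_inf.mpr ⟨pow_mem (hDH d.2) p, ?_⟩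
      rw [Subgroup.mem_centralizer_iff]
      intro v hv
      have hw := hsep d d.2 v hv
      have h := conj_pow_eq (a := (d : G)) (v := v) (w := (d : G) * v * (d : G)⁻¹ * v⁻¹) (by group)
        (Subgroup.mem_centralizer_iff.mp (hDU d.2) _ hw).symm p
      rw [hV.2 _ (hUV hw), one_mul] at h
      exact (mul_inv_eq_iff_eq_mul.mp h).symm
    rwa [hf, Subgroup.mem_bot] at this
  have heq : (⁅E₁.subgroupOf H, E₂.subgroupOf H⁆).map H.subtype = D := by
    rw [map_commutator, Subgroup.map_subgroupOf_eq_of_le h₁, Subgroup.map_subgroupOf_eq_of_le h₂]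
  have hle : ⁅E₁.subgroupOf H, E₂.subgroupOf H⁆ ≤ E₁.subgroupOf H ⊔ E₂.subgroupOf H :=
    (commutator_le).mpr fun x hx y hy => by
      rw [commutatorElement_def]
      exact mul_mem (mul_mem (mul_mem (mem_sup_left hx) (mem_sup_right hy)) (inv_mem (mem_sup_left hx)))
        (inv_mem (mem_sup_right hy))
  have hsn : (⁅E₁.subgroupOf H, E₂.subgroupOf H⁆).IsSubnormal :=
    IsSubnormal.step _ _ hle (Core.isSubnormal_sup hs₁ hs₂)
      (normal_subgroupOf_of_le_normalizer (sup_le_normalizer_commutator _ _))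
  have hp : IsPGroup p (⁅E₁.subgroupOf H, E₂.subgroupOf H⁆ : Subgroup H) := by
    have : IsPGroup p ((⁅E₁.subgroupOf H, E₂.subgroupOf H⁆).map H.subtype) := by rw [heq]; exact hDp
    exact this.of_equiv (Subgroup.equivMapOfInjective _ _ H.subtype_injective).symm
  rw [← heq]
  exact Subgroup.map_mono (Core.le_pCore_of_isSubnormal hsn hp)

end Cfsg.Agent.PLocal
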