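/-
An abelian 2-group offender acting faithfully, with `C(O_{2'}) ≤ O_{2'}`, is elementary.
-/
import Cfsg.Agent.PLocal.OffenderQuotient
import Cfsg.Agent.Linear.Card

set_option linter.unusedSectionVars false
set_option linter.style.haveILetI false

namespace Cfsg.Agent.PLocal

open Subgroup Cfsg
open scoped commutatorElement

variable {G : Type*} [Group G] [Finite G]

theorem conj_fix_mem {V B : Subgroup G} {x v : G} (hx : x ∈ normalizer (V : Set G))
    (hxB : ∀ b ∈ B, b * x = x * b) (hv : v ∈ V ⊓ centralizer (B : Set G)) :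
    x * v * x⁻¹ ∈ V ⊓ centralizer (B : Set G) := by
  refine mem_inf.mpr ⟨(mem_normalizer_iff.mp hx v).mp hv.1, mem_centralizer_iff.mpr fun b hb => ?_⟩
  have h1 : Commute b x := hxB b hb
  have h2 : Commute b v := mem_centralizer_iff.mp hv.2 b hb
  exact ((h1.mul_right h2).mul_right h1.inv_right).eq

/-- If a maximal `B` has `C_R(B)` not centralized by `e`, then `A/B` is cyclic. -/
theorem exists_gen_over {A B R : Subgroup G} (hA : IsMulCommutative A) (hBA : B ≤ A)
    (hAR : A ≤ normalizer (R : Set G)) (hRB : R ≤ centralizer (B : Set G))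
    (hcop : (Nat.card A).Coprime (Nat.card R)) {e : G} (he : e ∈ A)
    (hne : ¬ R ≤ centralizer ({e} : Set G))
    (hmax : ∀ x ∈ A, x ∉ B → R ⊓ centralizer ({x} : Set G) ≤ centralizer ({e} : Set G)) :
    ∃ g ∈ A, A ≤ B ⊔ zpowers g := by
  haveI := hA
  have hcomm : ∀ a ∈ A, ∀ b ∈ A, a * b = b * a := fun a ha b hb =>
    congrArg Subtype.val (mul_comm' (⟨a, ha⟩ : A) ⟨b, hb⟩)
  set P := centralizer (B : Set G) with hP
  have hAP : A ≤ P := fun a ha => mem_centralizer_iff.mpr fun b hb => hcomm b (hBA hb) a ha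
  have hBP : B ≤ P := hBA.trans hAP
  haveI : (B.subgroupOf P).Normal := ⟨fun b hb x => by
    show (x : G) * b * (x : G)⁻¹ ∈ B
    rw [← mem_centralizer_iff.mp x.2 b hb, mul_inv_cancel_right]
    exact hb⟩
  set π := QuotientGroup.mk' (B.subgroupOf P) with hπ
  set Ab := (A.subgroupOf P).map π with hAb
  set Rb := (R.subgroupOf P).map π with hRb
  haveI : IsMulCommutative Ab := ⟨⟨by
    rintro ⟨_, a, ha, rfl⟩ ⟨_, b, hb, rfl⟩
    refine Subtype.ext ?_
    show π a * π b = π b * π a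
    rw [← map_mul, ← map_mul]
    exact congrArg π (Subtype.ext (hcomm a ha b hb))⟩⟩
  by_cases hcyc : IsCyclic Ab
  · obtain ⟨z, hz⟩ := (Subgroup.isCyclic_iff_exists_zpowers_eq_top Ab).1 hcyc
    obtain ⟨g, hg, hgz⟩ : z ∈ Ab := hz ▸ mem_zpowers z
    refine ⟨g, hg, fun a ha => ?_⟩
    have h : π ⟨a, hAP ha⟩ ∈ zpowers z := hz.ge ⟨⟨a, hAP ha⟩, ha, rfl⟩
    obtain ⟨i, hi⟩ := h
    have h2 : (⟨a, hAP ha⟩ : P) * (g ^ i)⁻¹ ∈ B.subgroupOf P := by
      rw [← QuotientGroup.eq_one_iff]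
      show π (⟨a, hAP ha⟩ * (g ^ i)⁻¹) = 1
      rw [map_mul, map_inv, map_zpow, hgz]
      exact mul_inv_eq_one.mpr hi.symm
    have h3 : a * ((g : G) ^ i)⁻¹ ∈ B := by
      have := mem_subgroupOf.mp h2
      simpa using this
    have := mul_mem (mem_sup_left (T := zpowers (g : G)) h3) (mem_sup_right (zpow_mem (mem_zpowers (g : G)) i))
    rwa [inv_mul_cancel_right] at this
  · exfalso
    have hRA : ∀ x ∈ B, x ∈ R → x = 1 := fun x hxB hxR => orderOf_eq_one_iff.mp
      (Nat.eq_one_of_dvd_coprimes hcop (orderOf_dvd_natCard _ (hBA hxB)) (orderOf_dvd_natCard _ hxR))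
    have hn : Ab ≤ normalizer (Rb : Set (P ⧸ B.subgroupOf P)) := by
      rintro _ ⟨a, ha, rfl⟩
      refine mem_normalizer_fintype ?_
      rintro _ ⟨r, hr, rfl⟩
      refine ⟨a * r * a⁻¹, (mem_normalizer_iff.mp (hAR ha) _).mp hr, ?_⟩
      rw [map_mul, map_mul, map_inv]
    have hc : (Nat.card Ab).Coprime (Nat.card Rb) := by
      refine Nat.Coprime.of_dvd ?_ ?_ hcop
      · exact (card_map_dvd _ π).trans (dvd_of_eq (Nat.card_congr (subgroupOfEquivOfLe hAP).toEquiv))
      · exact (card_map_dvd _ π).trans (dvd_of_eq (Nat.card_congr (subgroupOfEquivOfLe hRB).toEquiv))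
    have hgen := Coprime.eq_centralizerJoin hcyc hn hc
    have hle : Rb ≤ centralizer ({π ⟨e, hAP he⟩} : Set (P ⧸ B.subgroupOf P)) := by
      rw [← hgen]
      refine iSup_le ?_
      rintro ⟨_, ⟨x, hx, rfl⟩, hx1⟩ y ⟨⟨r, hr, rfl⟩, hry⟩
      rw [mem_centralizer_singleton_iff]
      have hxB : (x : G) ∉ B := fun h => hx1 ((QuotientGroup.eq_one_iff _).mpr h)
      have h1 : π r * π x = π x * π r := mem_centralizer_singleton_iff.mp hry
      have h2 : r * x * r⁻¹ * x⁻¹ ∈ B.subgroupOf P := by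
        rw [← QuotientGroup.eq_one_iff]
        show π (r * x * r⁻¹ * x⁻¹) = 1
        rw [map_mul, map_mul, map_mul, h1, map_inv, map_inv]
        group
      have h3 : (r : G) * x * (r : G)⁻¹ * (x : G)⁻¹ = 1 := by
        refine hRA _ (mem_subgroupOf.mp h2) ?_
        rw [show (r : G) * x * (r : G)⁻¹ * (x : G)⁻¹ = r * ((x : G) * (r : G)⁻¹ * (x : G)⁻¹) by group]
        exact mul_mem hr ((mem_normalizer_iff.mp (hAR hx) _).mp (inv_mem hr))
      have h4 : (r : G) * e = e * r := mem_centralizer_singleton_iff.mp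
        (hmax x hx hxB ⟨hr, mem_centralizer_singleton_iff.mpr (mul_inv_eq_iff_eq_mul.mp (mul_inv_eq_one.mp h3))⟩)
      rw [← map_mul, ← map_mul]
      exact congrArg π (Subtype.ext h4)
    refine hne fun r hr => mem_centralizer_singleton_iff.mpr ?_
    have h1 := mem_centralizer_singleton_iff.mp (hle ⟨⟨r, hRB hr⟩, hr, rfl⟩)
    have h2 : (⟨r, hRB hr⟩ : P) * ⟨e, hAP he⟩ * (⟨r, hRB hr⟩ : P)⁻¹ * (⟨e, hAP he⟩ : P)⁻¹ ∈ B.subgroupOf P := by
      rw [← QuotientGroup.eq_one_iff]
      show π _ = 1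
      rw [map_mul, map_mul, map_mul, h1, map_inv, map_inv]
      group
    have h3 : r * e * r⁻¹ * e⁻¹ = 1 := by
      refine hRA _ (mem_subgroupOf.mp h2) ?_
      rw [show r * e * r⁻¹ * e⁻¹ = r * (e * r⁻¹ * e⁻¹) by group]
      exact mul_mem hr ((mem_normalizer_iff.mp (hAR he) _).mp (inv_mem hr))
    exact mul_inv_eq_iff_eq_mul.mp (mul_inv_eq_one.mp h3)

/-- The fixed points of a unipotent element grow strictly along the powers of `g - 1`. -/
theorem card_chain {U : Subgroup G} (hU : IsElementaryAbelian 2 U) {g : G}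
    (hg : g ∈ normalizer (U : Set G)) (n : ℕ) (hlast : ∀ u ∈ U, g ^ 2 ^ (n + 1) * u = u * g ^ 2 ^ (n + 1))
    (hnot : ¬ ∀ u ∈ U, g ^ 2 ^ n * u = u * g ^ 2 ^ n) :
    2 ^ (2 ^ n) * Nat.card (U ⊓ centralizer ({g} : Set G) : Subgroup G) ≤ Nat.card U ∧
      (n = 1 → Nat.card (U : Subgroup G) ≤ 4 * Nat.card (U ⊓ centralizer ({g} : Set G) : Subgroup G) →
        Nat.card (U ⊓ centralizer ({g ^ 2} : Set G) : Subgroup G) * 2 = Nat.card U) := by
  haveI := Fact.mk Nat.prime_two
  have hab : ∀ {a b : G}, a ∈ U → b ∈ U → a * b = b * a := fun ha hb => comm_of_EA hU ha hb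
  have hmem : ∀ v ∈ U, g * v * g⁻¹ * v⁻¹ ∈ U := fun v hv =>
    mul_mem ((mem_normalizer_iff.mp hg v).mp hv) (inv_mem hv)
  let δ : U →* U := MonoidHom.mk' (fun v => ⟨g * v * g⁻¹ * (v : G)⁻¹, hmem v v.2⟩) fun v w => by
    refine Subtype.ext ?_
    show g * ((v : G) * w) * g⁻¹ * ((v : G) * w)⁻¹ = g * v * g⁻¹ * (v : G)⁻¹ * (g * w * g⁻¹ * (w : G)⁻¹)
    have h1 := hab (hmem w w.2) (inv_mem v.2)
    calc g * ((v : G) * w) * g⁻¹ * ((v : G) * w)⁻¹
        = g * v * g⁻¹ * ((g * w * g⁻¹ * (w : G)⁻¹) * (v : G)⁻¹) := by group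
      _ = g * v * g⁻¹ * ((v : G)⁻¹ * (g * w * g⁻¹ * (w : G)⁻¹)) := by rw [h1]
      _ = _ := by group
  have hpow : ∀ (j : ℕ) (v : U),
      ((δ^[2 ^ j] v : U) : G) = g ^ 2 ^ j * v * (g ^ 2 ^ j)⁻¹ * (v : G)⁻¹ := by
    intro j
    induction j with
    | zero => intro v; rw [pow_zero, Function.iterate_one, pow_one]; rfl
    | succ j ih =>
      intro v
      rw [pow_succ, mul_two, Function.iterate_add_apply, ih, ih v, pow_add]
      set h := g ^ 2 ^ j with hh
      have hn : h ∈ normalizer (U : Set G) := pow_mem hg _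
      set a := h * (v : G) * h⁻¹ with ha
      have haU : a ∈ U := (mem_normalizer_iff.mp hn _).mp v.2
      set b := h * a * h⁻¹ with hb
      have hbU : b ∈ U := (mem_normalizer_iff.mp hn _).mp haU
      have e1 : h * (a * (v : G)⁻¹) * h⁻¹ = b * a⁻¹ := by rw [hb, ha]; group
      have e2 : h * h * (v : G) * (h * h)⁻¹ = b := by rw [hb, ha]; group
      rw [e1, e2]
      have hsq : ∀ x ∈ U, x⁻¹ = x := fun x hx => inv_eq_of_mul_eq_one_left (by rw [← pow_two]; exact hU.2 x hx)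
      rw [hsq a haU, hsq _ v.2, hsq _ (mul_mem haU v.2)]
      calc b * a * (a * v) = b * (a * a) * v := by group
        _ = b * v := by rw [← pow_two, hU.2 a haU, mul_one]
  let K : ℕ → Subgroup U := fun i =>
    { carrier := {v | δ^[i] v = 1}
      one_mem' := iterate_map_one δ i
      mul_mem' := fun {a b} ha hb => by
        show δ^[i] (a * b) = 1
        rw [iterate_map_mul, show δ^[i] a = 1 from ha, show δ^[i] b = 1 from hb, one_mul]
      inv_mem' := fun {a} ha => by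
        show δ^[i] a⁻¹ = 1
        rw [iterate_map_inv, show δ^[i] a = 1 from ha, inv_one] }
  have hKmono : ∀ i, K i ≤ K (i + 1) := fun i v hv => by
    show δ^[i + 1] v = 1
    rw [Function.iterate_succ_apply', show δ^[i] v = 1 from hv, map_one]
  have hKmono' : ∀ i j, K i ≤ K (i + j) := by
    intro i j
    induction j with
    | zero => exact le_rfl
    | succ j ih => exact ih.trans (hKmono _)
  have hstab : ∀ i, K (i + 1) ≤ K i → ∀ j, K (i + j) ≤ K i := by
    intro i h j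
    induction j with
    | zero => exact le_rfl
    | succ j ih =>
      intro v hv
      refine h ?_
      show δ^[i + 1] v = 1
      have h2 : δ v ∈ K (i + j) := by
        show δ^[i + j] (δ v) = 1
        rw [← Function.iterate_succ_apply]; exact hv
      rw [Function.iterate_succ_apply]
      exact ih h2
  have hKfix : ∀ j, ∀ v : U, v ∈ K (2 ^ j) ↔ g ^ 2 ^ j * (v : G) = v * g ^ 2 ^ j := fun j v => by
    show δ^[2 ^ j] v = 1 ↔ _
    rw [Subtype.ext_iff, hpow]
    show _ * _ * _ * _ = (1 : G) ↔ _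
    rw [mul_inv_eq_one, mul_inv_eq_iff_eq_mul]
  have htop : K (2 ^ (n + 1)) = ⊤ := eq_top_iff.mpr fun v _ => (hKfix _ v).mpr (hlast v v.2)
  have hnt : K (2 ^ n) ≠ ⊤ := fun h => hnot fun u hu => (hKfix n ⟨u, hu⟩).mp (h ▸ mem_top _)
  have hstrict : ∀ i, i ≤ 2 ^ n → 2 * Nat.card (K i) ≤ Nat.card (K (i + 1)) := by
    intro i hi
    have hne : ¬ K (i + 1) ≤ K i := fun h => hnt (eq_top_iff.mpr (htop.ge.trans (by
      have h1 : K (2 ^ (n + 1)) ≤ K i := by
        have := hstab i h (2 ^ (n + 1) - i)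
        rwa [Nat.add_sub_cancel' (hi.trans (Nat.pow_le_pow_right two_pos n.le_succ))] at this
      obtain ⟨j, hj⟩ := Nat.exists_eq_add_of_le hi
      exact h1.trans (hj ▸ hKmono' i j))))
    obtain ⟨c, hc⟩ := Subgroup.card_dvd_of_le (hKmono i)
    rcases Nat.lt_or_ge c 2 with h | h
    · exact absurd (Subgroup.eq_of_le_of_card_ge (hKmono i) (by
        rw [hc]; exact Nat.le_trans (Nat.mul_le_mul_left _ (show c ≤ 1 by omega)) (mul_one _).le)).ge hne
    · rw [hc, mul_comm 2]; exact Nat.mul_le_mul_left _ h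
  have hcount : ∀ i, i ≤ 2 ^ n → 2 ^ i * Nat.card (K 1) ≤ Nat.card (K (i + 1)) := by
    intro i
    induction i with
    | zero => intro _; rw [pow_zero, one_mul]
    | succ i ih =>
      intro hi
      calc 2 ^ (i + 1) * Nat.card (K 1) = 2 * (2 ^ i * Nat.card (K 1)) := by rw [pow_succ']; ring
        _ ≤ 2 * Nat.card (K (i + 1)) := Nat.mul_le_mul_left _ (ih (by omega))
        _ ≤ _ := hstrict (i + 1) hi
  have hK1 : Nat.card (K 1) = Nat.card (U ⊓ centralizer ({g} : Set G) : Subgroup G) := by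
    refine Nat.card_congr
      { toFun := fun v => ⟨(v.1 : G), v.1.2, mem_centralizer_singleton_iff.mpr ?_⟩
        invFun := fun v => ⟨⟨v.1, v.2.1⟩, (hKfix 0 _).mpr ?_⟩
        left_inv := fun v => rfl
        right_inv := fun v => rfl }
    · have := (hKfix 0 v.1).mp v.2
      rw [pow_zero, pow_one] at this
      exact this.symm
    · rw [pow_zero, pow_one]
      exact (mem_centralizer_singleton_iff.mp v.2.2).symm
  refine ⟨hK1 ▸ (hcount _ le_rfl).trans (Subgroup.card_le_card_group _), fun hn1 hU4 => ?_⟩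
  subst hn1
  have hK2 : Nat.card (K 2) = Nat.card (U ⊓ centralizer ({g ^ 2} : Set G) : Subgroup G) := by
    refine Nat.card_congr
      { toFun := fun v => ⟨(v.1 : G), v.1.2, mem_centralizer_singleton_iff.mpr ?_⟩
        invFun := fun v => ⟨⟨v.1, v.2.1⟩, (hKfix 1 _).mpr ?_⟩
        left_inv := fun v => rfl
        right_inv := fun v => rfl }
    · have := (hKfix 1 v.1).mp v.2
      rw [pow_one] at this
      exact this.symm
    · rw [pow_one]
      exact (mem_centralizer_singleton_iff.mp v.2.2).symm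
  rw [← hK2]
  rw [← hK1] at hU4
  have h2 : 2 * Nat.card (K 1) ≤ Nat.card (K 2) := hstrict 1 (by norm_num)
  obtain ⟨c, hc⟩ := Subgroup.card_subgroup_dvd_card (K 2)
  have hc2 : c ≤ 2 := by
    refine Nat.le_of_mul_le_mul_left ?_ (Nat.card_pos (α := K 2))
    rw [← hc]; omega
  have hc0 : c ≠ 0 := fun h => (Nat.card_pos (α := U)).ne' (by rw [hc, h, mul_zero])
  have hc1 : c ≠ 1 := fun h => hnt (by
    rw [pow_one]; exact Subgroup.eq_top_of_card_eq _ (by rw [hc, h, mul_one]))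
  rw [hc, show c = 2 by omega]

/-- An abelian offender acting faithfully is elementary. -/
theorem sq_eq_one_of_offender {V A Q : Subgroup G} (hV : IsElementaryAbelian 2 V)
    (hAV : A ≤ normalizer (V : Set G)) (hQV : Q ≤ normalizer (V : Set G))
    (hA : IsMulCommutative A) (hAp : IsPGroup 2 A) (hAQ : A ≤ normalizer (Q : Set G))
    (hQ : (Nat.card Q).Coprime 2) (hfaith : Q ⊓ centralizer (V : Set G) = ⊥)
    (hself : ∀ a ∈ A, (∀ q ∈ Q, q * a = a * q) → a = 1)
    (hcount : ∀ B : Subgroup G, B ≤ A →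
      Nat.card B * Nat.card (V ⊓ centralizer (B : Set G) : Subgroup G) ≤
        Nat.card A * Nat.card (V ⊓ centralizer (A : Set G) : Subgroup G)) :
    ∀ a ∈ A, a ^ 2 = 1 := by
  haveI := Fact.mk Nat.prime_two
  haveI := hA
  have hcomm : ∀ a ∈ A, ∀ b ∈ A, a * b = b * a := fun a ha b hb =>
    congrArg Subtype.val (mul_comm' (⟨a, ha⟩ : A) ⟨b, hb⟩)
  intro a ha
  by_contra ha2
  obtain ⟨m, hm⟩ := IsPGroup.iff_orderOf.mp hAp ⟨a, ha⟩
  rw [Subgroup.orderOf_mk] at hm
  have hm2 : 2 ≤ m := by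
    by_contra h
    exact ha2 (orderOf_dvd_iff_pow_eq_one.mp (hm ▸ (pow_dvd_pow 2 (show m ≤ 1 by omega)).trans (by norm_num)))
  obtain ⟨m, rfl⟩ := Nat.exists_eq_add_of_le' hm2
  set c := a ^ 2 ^ m with hcdef
  have hcAm : c ∈ A := pow_mem ha _
  set e := c ^ 2 with hedef
  have heA : e ∈ A := pow_mem hcAm 2
  have he2 : e ^ 2 = 1 := by
    rw [hedef, hcdef, ← pow_mul, ← pow_mul, show 2 ^ m * (2 * 2) = 2 ^ (m + 2) by ring, ← hm, pow_orderOf_eq_one]
  have he1 : e ≠ 1 := by
    rw [hedef, hcdef, ← pow_mul, show 2 ^ m * 2 = 2 ^ (m + 1) by ring]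
    refine pow_ne_one_of_lt_orderOf (by positivity) ?_
    rw [hm]; exact Nat.pow_lt_pow_right one_lt_two (by omega)
  have hbot : ¬ Q ⊓ centralizer ((⊥ : Subgroup G) : Set G) ≤ centralizer ({e} : Set G) := fun hle =>
    he1 (hself e heA fun q hq => mem_centralizer_singleton_iff.mp (hle ⟨hq, mem_centralizer_iff.mpr fun x hx => by
      rw [Subgroup.mem_bot.mp hx, one_mul, mul_one]⟩))
  obtain ⟨B, ⟨hBA, hB⟩, hmax⟩ := (Set.toFinite {B : Subgroup G | B ≤ A ∧
    ¬ Q ⊓ centralizer (B : Set G) ≤ centralizer ({e} : Set G)}).exists_maximalFor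
      (fun B : Subgroup G => Nat.card B) _ (⟨⊥, ⟨bot_le, hbot⟩⟩ : Set.Nonempty {B : Subgroup G | B ≤ A ∧
        ¬ Q ⊓ centralizer (B : Set G) ≤ centralizer ({e} : Set G)})
  set R := Q ⊓ centralizer (B : Set G) with hR
  have hAR : A ≤ normalizer (R : Set G) := fun x hx => mem_normalizer_fintype fun q hq =>
    conj_fix_mem (hAQ hx) (fun b hb => hcomm b (hBA hb) x hx) hq
  have hRB : R ≤ centralizer (B : Set G) := inf_le_right
  have hRodd : (Nat.card R).Coprime 2 := hQ.coprime_dvd_left (card_dvd_of_le inf_le_left)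
  obtain ⟨j, hj⟩ := IsPGroup.iff_card.mp hAp
  obtain ⟨g, hgA, hgen⟩ := exists_gen_over hA hBA hAR hRB (hj ▸ hRodd.symm.pow_left j) heA hB (by
    intro x hx hxB
    by_contra hnot
    have hlt : B < B ⊔ zpowers x := lt_of_le_of_ne le_sup_left fun e' => hxB (e' ▸ mem_sup_right (mem_zpowers x))
    have hin : B ⊔ zpowers x ∈ {B : Subgroup G | B ≤ A ∧ ¬ Q ⊓ centralizer (B : Set G) ≤ centralizer ({e} : Set G)} := by
      refine ⟨sup_le hBA (zpowers_le.mpr hx), fun hle => hnot fun q hq => hle ⟨hq.1.1, ?_⟩⟩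
      refine (le_centralizer_iff.mp (sup_le ?_ ?_) : zpowers q ≤ centralizer ((B ⊔ zpowers x : Subgroup G) : Set G)) (mem_zpowers q)
      · exact le_centralizer_iff.mp (zpowers_le.mpr hq.1.2)
      · rw [zpowers_le, Subgroup.mem_centralizer_iff]
        rintro _ ⟨i, rfl⟩
        exact ((show Commute q x from mem_centralizer_singleton_iff.mp hq.2).zpow_left i).eq
    exact hlt.not_ge (Subgroup.eq_of_le_of_card_ge hlt.le (hmax hin (card_le_of_le hlt.le))).ge)
  -- the fixed points of `B`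
  set U := V ⊓ centralizer (B : Set G) with hUdef
  have hUEA : IsElementaryAbelian 2 U := isEA_mono hV inf_le_left
  have hAU : A ≤ normalizer (U : Set G) := fun x hx => mem_normalizer_fintype fun v hv =>
    conj_fix_mem (hAV hx) (fun b hb => hcomm b (hBA hb) x hx) hv
  have hRU : R ≤ normalizer (U : Set G) := fun x hx => mem_normalizer_fintype fun v hv =>
    conj_fix_mem (hQV hx.1) (fun b hb => mem_centralizer_iff.mp hx.2 b hb) hv
  have hRfaith : ∀ r ∈ R, (∀ u ∈ U, r * u = u * r) → r = 1 := by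
    intro r hr hru
    have hBr : ⁅B, zpowers r⁆ = ⊥ := by
      rw [commutator_eq_bot_iff_le_centralizer]
      intro b hb
      rw [mem_centralizer_iff]
      rintro _ ⟨i, rfl⟩
      exact ((show Commute r b from (mem_centralizer_iff.mp hr.2 b hb).symm).zpow_left i).eq
    have hV' := Coprime.commutator_eq_bot_of_PxQ (hAp.to_le hBA)
      (hRodd.coprime_dvd_left (card_dvd_of_le (zpowers_le.mpr hr))) hBr _ V rfl (isPGroup_of_EA hV)
      (hBA.trans hAV) (zpowers_le.mpr (hQV hr.1)) (by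
        rw [commutator_eq_bot_iff_le_centralizer]
        intro w hw
        rw [mem_centralizer_iff]
        rintro _ ⟨i, rfl⟩
        exact ((show Commute r w from hru w hw).zpow_left i).eq)
    rw [← Subgroup.mem_bot, ← hfaith]
    exact ⟨hr.1, mem_centralizer_iff.mpr fun v hv =>
      (mem_centralizer_iff.mp (commutator_eq_bot_iff_le_centralizer.mp hV' hv) r (mem_zpowers r)).symm⟩
  obtain ⟨r₀, hr₀, hr₀e⟩ := SetLike.not_le_iff_exists.mp hB
  rw [mem_centralizer_singleton_iff] at hr₀e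
  have heU : ¬ ∀ u ∈ U, e * u = u * e := by
    intro h
    apply hr₀e
    have hy : r₀ * e * r₀⁻¹ * e⁻¹ ∈ R := by
      rw [show r₀ * e * r₀⁻¹ * e⁻¹ = r₀ * (e * r₀⁻¹ * e⁻¹) by group]
      exact mul_mem hr₀ ((mem_normalizer_iff.mp (hAR heA) _).mp (inv_mem hr₀))
    refine mul_inv_eq_iff_eq_mul.mp (mul_inv_eq_one.mp (hRfaith _ hy fun u hu => ?_))
    have hu' := h _ ((mem_normalizer_iff''.mp (hRU hr₀) u).mp hu)
    calc r₀ * e * r₀⁻¹ * e⁻¹ * u = r₀ * e * r₀⁻¹ * (e⁻¹ * u) := by group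
      _ = r₀ * e * r₀⁻¹ * (u * e⁻¹) := by rw [((show Commute e u from h u hu).inv_left).eq]
      _ = r₀ * (e * (r₀⁻¹ * u * r₀)) * r₀⁻¹ * e⁻¹ := by group
      _ = r₀ * (r₀⁻¹ * u * r₀ * e) * r₀⁻¹ * e⁻¹ := by rw [hu']
      _ = _ := by group
  -- the exponent
  set B₁ := A ⊓ centralizer (U : Set G) with hB₁
  have hBB₁ : B ≤ B₁ := le_inf hBA (le_centralizer_iff.mp inf_le_right)
  have hgpow : ∃ k, g ^ 2 ^ k ∈ B₁ := by
    obtain ⟨k, hk⟩ := hAp ⟨g, hgA⟩
    exact ⟨k, by rw [show g ^ 2 ^ k = 1 from congrArg Subtype.val hk]; exact one_mem _⟩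
  classical
  obtain ⟨k, hk, hkmin⟩ : ∃ k, g ^ 2 ^ k ∈ B₁ ∧ ∀ i < k, g ^ 2 ^ i ∉ B₁ :=
    ⟨Nat.find hgpow, Nat.find_spec hgpow, fun i hi => Nat.find_min hgpow hi⟩
  have hgen₁ : A = B₁ ⊔ zpowers g :=
    le_antisymm (hgen.trans (sup_le_sup_right hBB₁ _)) (sup_le inf_le_left (zpowers_le.mpr hgA))
  have hgN : zpowers g ≤ normalizer (B₁ : Set G) := zpowers_le.mpr (mem_normalizer_fintype fun b hb => by
    rw [hcomm g hgA b hb.1, mul_inv_cancel_right]; exact hb)
  obtain ⟨b, hb, y, ⟨i, rfl⟩, hce⟩ := Coprime.exists_mul_of_mem_sup hgN (hgen₁ ▸ hcAm)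
  have hex : e = b ^ 2 * (g ^ (2 : ℕ)) ^ i := by
    rw [hedef, ← hce, (show Commute b (g ^ i) from hcomm b hb.1 _ (zpow_mem hgA i)).mul_pow,
      ← zpow_natCast (g ^ i), ← zpow_mul, mul_comm, zpow_mul, zpow_natCast]
  have heB₁ : e ∉ B₁ := fun h => heU fun u hu => (mem_centralizer_iff.mp h.2 u hu).symm
  obtain ⟨k, rfl⟩ : ∃ k', k = k' + 2 := by
    refine Nat.exists_eq_add_of_le' ?_
    by_contra h
    apply heB₁
    rw [hex]
    refine mul_mem (pow_mem hb 2) (zpow_mem ?_ i)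
    rcases (show k = 0 ∨ k = 1 by omega) with rfl | rfl
    · rw [pow_zero, pow_one] at hk; exact pow_mem hk 2
    · rw [pow_one] at hk; exact hk
  have hgU : g ∈ normalizer (U : Set G) := hAU hgA
  have hnot : ¬ ∀ u ∈ U, g ^ 2 ^ (k + 1) * u = u * g ^ 2 ^ (k + 1) := fun h =>
    hkmin (k + 1) (by omega) ⟨pow_mem hgA _, mem_centralizer_iff.mpr fun u hu => (h u hu).symm⟩
  have hlast : ∀ u ∈ U, g ^ 2 ^ (k + 2) * u = u * g ^ 2 ^ (k + 2) := fun u hu =>
    (mem_centralizer_iff.mp hk.2 u hu).symm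
  obtain ⟨hchain, hchain2⟩ := card_chain hUEA hgU (k + 1) hlast hnot
  have hCA : V ⊓ centralizer (A : Set G) = U ⊓ centralizer ({g} : Set G) := by
    refine le_antisymm (le_inf (inf_le_inf_left V (centralizer_le hBA)) fun v hv =>
      mem_centralizer_singleton_iff.mpr (mem_centralizer_iff.mp hv.2 g hgA).symm) (le_inf (inf_le_left.trans inf_le_left) ?_)
    rw [le_centralizer_iff]
    refine hgen.trans (sup_le (le_centralizer_iff.mp (inf_le_left.trans inf_le_right)) ?_)
    rw [zpowers_le, mem_centralizer_iff]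
    exact fun v hv => mem_centralizer_singleton_iff.mp hv.2
  have hC₁ : V ⊓ centralizer (B₁ : Set G) = U := le_antisymm (inf_le_inf_left V (centralizer_le hBB₁))
    (le_inf inf_le_left (le_centralizer_iff.mp inf_le_right))
  have hcardA : Nat.card A ≤ 2 ^ (k + 2) * Nat.card B₁ := by
    have h := card_sup_mul_card_inf hgN
    rw [sup_comm, ← hgen₁, Nat.card_zpowers] at h
    have hd : orderOf g ∣ 2 ^ (k + 2) * Nat.card (zpowers g ⊓ B₁ : Subgroup G) := by
      refine orderOf_dvd_of_pow_eq_one ?_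
      rw [pow_mul]
      exact congrArg Subtype.val (pow_card_eq_one' (x := (⟨g ^ 2 ^ (k + 2), pow_mem (mem_zpowers g) _, hk⟩ :
        (zpowers g ⊓ B₁ : Subgroup G))))
    refine Nat.le_of_mul_le_mul_right ?_ (Nat.card_pos (α := (zpowers g ⊓ B₁ : Subgroup G)))
    rw [h, mul_right_comm]
    exact Nat.mul_le_mul_right _ (Nat.le_of_dvd (Nat.mul_pos (by positivity) Nat.card_pos) hd)
  have hcnt : Nat.card U ≤ 2 ^ (k + 2) * Nat.card (U ⊓ centralizer ({g} : Set G) : Subgroup G) := by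
    have h := hcount B₁ inf_le_left
    rw [hC₁, hCA] at h
    refine Nat.le_of_mul_le_mul_left ?_ (Nat.card_pos (α := B₁))
    refine h.trans ((Nat.mul_le_mul_right _ hcardA).trans (le_of_eq ?_))
    ring
  obtain rfl : k = 0 := by
    have h := Nat.le_of_mul_le_mul_right (hchain.trans hcnt) Nat.card_pos
    rw [Nat.pow_le_pow_iff_right one_lt_two] at h
    by_contra hk0
    have h3 : ∀ n, 1 ≤ n → n + 3 ≤ 2 ^ (n + 1) := by
      intro n hn
      induction n, hn using Nat.le_induction with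
      | base => norm_num
      | succ n _ ih => rw [pow_succ]; omega
    have := h3 k (by omega)
    omega
  rw [show (2 : ℕ) ^ (0 + 2) = 4 by norm_num] at hcnt
  have hhalf := hchain2 rfl hcnt
  rw [zero_add] at hk
  -- `e` acts on `U` as `g²`
  obtain ⟨i', hi⟩ : ∃ i', i = 2 * i' + 1 := by
    rcases Int.even_or_odd' i with ⟨i', rfl | rfl⟩
    · exfalso
      apply heB₁
      rw [hex, zpow_mul, show (g ^ (2 : ℕ)) ^ (2 : ℤ) = g ^ 2 ^ 2 by
        rw [show (2 : ℤ) = ((2 : ℕ) : ℤ) from rfl, zpow_natCast, ← pow_mul]; rfl]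
      exact mul_mem (pow_mem hb 2) (zpow_mem hk i')
    · exact ⟨i', rfl⟩
  have heg : ∀ u ∈ U, (e * u = u * e ↔ g ^ 2 * u = u * g ^ 2) := by
    intro u hu
    set t := b ^ 2 * (g ^ 2 ^ 2) ^ i' with ht
    have htB : t ∈ B₁ := mul_mem (pow_mem hb 2) (zpow_mem hk i')
    have het : e = t * g ^ 2 := by
      rw [hex, hi, zpow_add, zpow_one, zpow_mul, ht, mul_assoc,
        show (g ^ (2 : ℕ)) ^ (2 : ℤ) = g ^ 2 ^ 2 by
          rw [show (2 : ℤ) = ((2 : ℕ) : ℤ) from rfl, zpow_natCast, ← pow_mul]; rfl]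
    have htu : Commute t u := (mem_centralizer_iff.mp htB.2 u hu).symm
    have hg2 : g ^ 2 = t⁻¹ * e := by rw [het]; group
    constructor
    · intro h; rw [hg2]; exact (htu.inv_left.mul_left h).eq
    · intro h; rw [het]; exact (htu.mul_left h).eq
  have hzc : Nat.card (zpowers e) = 2 := by rw [Nat.card_zpowers, orderOf_eq_prime he2 he1]
  have hidx : Nat.card (U ⊓ centralizer ((zpowers e : Subgroup G) : Set G) : Subgroup G) * 2 = Nat.card U := by
    rw [← hhalf]
    congr 1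
    refine congrArg (fun S : Subgroup G => Nat.card S) ?_
    ext u
    simp only [mem_inf]
    refine and_congr_right fun hu => ?_
    rw [mem_centralizer_singleton_iff, mem_centralizer_iff]
    constructor
    · intro h; exact ((heg u hu).mp (h e (mem_zpowers e))).symm
    · rintro h _ ⟨j, rfl⟩
      exact ((show Commute e u from (heg u hu).mpr h.symm).zpow_left j).eq
  -- `R⟨e⟩` acting on `U`
  set H := R ⊔ zpowers e with hH
  have heR : zpowers e ≤ normalizer (R : Set G) := zpowers_le.mpr (hAR heA)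
  have hdec : ∀ x ∈ H, x ∈ R ∨ ∃ r ∈ R, x = r * e := by
    intro x hx
    obtain ⟨r, hr, _, ⟨j, rfl⟩, rfl⟩ := Coprime.exists_mul_of_mem_sup heR hx
    show r * e ^ j ∈ R ∨ ∃ r' ∈ R, r * e ^ j = r' * e
    have h2 : e ^ (2 : ℤ) = 1 := by rw [show (2 : ℤ) = ((2 : ℕ) : ℤ) from rfl, zpow_natCast, he2]
    rcases Int.even_or_odd' j with ⟨j', rfl | rfl⟩
    · left; rwa [zpow_mul, h2, one_zpow, mul_one]
    · right; exact ⟨r, hr, by rw [zpow_add, zpow_mul, h2, one_zpow, one_mul, zpow_one]⟩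
  have hroot : ∀ r ∈ R, ∀ q : G, r ^ 2 * q = q * r ^ 2 → r * q = q * r := by
    intro r hr q hq
    obtain ⟨w, hw⟩ := Nat.coprime_two_right.mp (hRodd.coprime_dvd_left (orderOf_dvd_natCard _ hr))
    have hr' : r = (r ^ 2) ^ (w + 1) := by
      rw [← pow_mul, show 2 * (w + 1) = orderOf r + 1 by omega, pow_succ, pow_orderOf_eq_one, one_mul]
    rw [hr']
    exact ((show Commute (r ^ 2) q from hq).pow_left _).eq
  have hact : ActsFaithfully 2 U H := by
    refine ⟨hUEA, sup_le hRU (zpowers_le.mpr (hAU heA)), (eq_bot_iff_forall _).mpr fun x hx => ?_⟩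
    rcases hdec x hx.1 with h | ⟨r, hr, rfl⟩
    · exact hRfaith x h fun u hu => (mem_centralizer_iff.mp hx.2 u hu).symm
    · exfalso
      have hact' : ∀ u ∈ U, e * u * e⁻¹ = r⁻¹ * u * r := fun u hu => by
        have := mem_centralizer_iff.mp hx.2 u hu
        calc e * u * e⁻¹ = r⁻¹ * (r * e * u) * e⁻¹ := by group
          _ = r⁻¹ * (u * (r * e)) * e⁻¹ := by rw [this]
          _ = _ := by group
      have hr2 : r ^ 2 = 1 := hRfaith _ (pow_mem hr 2) fun u hu => by
        have h1 := hact' u hu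
        have h2 := hact' _ ((mem_normalizer_iff.mp (hAU heA) u).mp hu)
        rw [show e * (e * u * e⁻¹) * e⁻¹ = e ^ 2 * u * (e ^ 2)⁻¹ by rw [pow_two]; group, he2, h1, one_mul, inv_one,
          mul_one] at h2
        calc r ^ 2 * u = r ^ 2 * (r⁻¹ * (r⁻¹ * u * r) * r) := by rw [← h2]
          _ = u * r ^ 2 := by rw [pow_two]; group
      have hr1 : r = 1 := orderOf_eq_one_iff.mp (Nat.eq_one_of_dvd_coprimes hRodd
        (orderOf_dvd_natCard _ hr) (orderOf_dvd_of_pow_eq_one hr2))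
      rw [hr1, one_mul] at hx
      exact heU fun u hu => (mem_centralizer_iff.mp hx.2 u hu).symm
  have hRn : (R.subgroupOf H).Normal := Subgroup.normal_subgroupOf_iff_le_normalizer le_sup_left |>.mpr
    (sup_le le_normalizer heR)
  have hRcore : R.subgroupOf H ≤ pPrimeCore 2 H := Core.le_pPrimeCore hRn (by
    rwa [Nat.card_congr (subgroupOfEquivOfLe le_sup_left).toEquiv])
  have hctx : OffCtx 2 U H := ⟨hact, fun x hx => by
    rcases hdec x x.2 with h | ⟨r, hr, hxr⟩
    · exact hRcore h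
    · exfalso
      have hq : ∀ q ∈ R, q * (r * e) = r * e * q := fun q hq => by
        have := congrArg Subtype.val (mem_centralizer_iff.mp hx ⟨q, mem_sup_left hq⟩ (hRcore hq))
        rw [← hxr]; exact this
      have hcon : ∀ q ∈ R, e * q * e⁻¹ = r⁻¹ * q * r := fun q hq' => by
        calc e * q * e⁻¹ = r⁻¹ * (r * e * q) * e⁻¹ := by group
          _ = r⁻¹ * (q * (r * e)) * e⁻¹ := by rw [hq q hq']
          _ = _ := by group
      have hrq : ∀ q ∈ R, r ^ 2 * q = q * r ^ 2 := fun q hq' => by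
        have h1 := hcon q hq'
        have h2 := hcon _ ((mem_normalizer_iff.mp (hAR heA) q).mp hq')
        rw [show e * (e * q * e⁻¹) * e⁻¹ = e ^ 2 * q * (e ^ 2)⁻¹ by rw [pow_two]; group, he2, h1, one_mul, inv_one,
          mul_one] at h2
        calc r ^ 2 * q = r ^ 2 * (r⁻¹ * (r⁻¹ * q * r) * r) := by rw [← h2]
          _ = q * r ^ 2 := by rw [pow_two]; group
      apply hr₀e
      have h1 := hcon r₀ hr₀
      rw [show r⁻¹ * r₀ * r = r₀ by
        rw [mul_assoc, ← hroot r hr r₀ (hrq r₀ hr₀)]; group] at h1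
      exact (mul_inv_eq_iff_eq_mul.mp h1).symm⟩
  have hzH : zpowers e ≤ H := le_sup_right
  have hT : IsTrans 2 U (zpowers e) := hact.isTrans hzH hzc hidx
  obtain ⟨φ⟩ := (hctx.eOff_decomp hzH hT).2.2.2
  have hcard6 : Nat.card (eOff 2 H (zpowers e)) = 6 := by
    rw [Nat.card_congr φ.toEquiv, Linear.card_SL_two, ZMod.card]; norm_num
  set K := ⁅R, zpowers e⁆ with hK
  have hRQ : R ≤ oQ 2 H := fun r hr => ⟨⟨r, mem_sup_left hr⟩, hRcore hr, rfl⟩
  have hKR : K ≤ R := Coprime.commutator_le_of_le_normalizer heR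
  have hKE : Nat.card K ∣ 6 := hcard6 ▸ card_dvd_of_le ((commutator_mono hRQ le_rfl).trans le_sup_left)
  have hK3 : Nat.card K ∣ 3 := Nat.Coprime.dvd_of_dvd_mul_left
    (hRodd.coprime_dvd_left (card_dvd_of_le hKR)) (show Nat.card K ∣ 2 * 3 from hKE)
  have hKe : ∀ y ∈ K, e * y = y * e := by
    intro y hy
    have hcK : ∀ y ∈ K, c * y * c⁻¹ ∈ K := by
      intro y hy
      suffices h : K ≤ K.comap (MulAut.conj c).toMonoidHom from h hy
      rw [hK, commutator_le]
      intro r hr z hz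
      rw [mem_comap]
      show c * ⁅r, z⁆ * c⁻¹ ∈ ⁅R, zpowers e⁆
      obtain ⟨j, rfl⟩ := hz
      have hzc' : c * e ^ j * c⁻¹ = e ^ j := by
        rw [((show Commute c e from hcomm c hcAm e heA).zpow_right j).eq, mul_inv_cancel_right]
      rw [show c * ⁅r, e ^ j⁆ * c⁻¹ = ⁅c * r * c⁻¹, c * e ^ j * c⁻¹⁆ by
        simp only [commutatorElement_def]; group, hzc']
      exact commutator_mem_commutator ((mem_normalizer_iff.mp (hAR hcAm) r).mp hr) (zpow_mem (mem_zpowers e) j)
    rcases eq_or_ne y 1 with rfl | hy1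
    · rw [mul_one, one_mul]
    haveI := Fact.mk Nat.prime_three
    have hK3' : Nat.card K = 3 := ((Nat.dvd_prime Nat.prime_three).mp hK3).resolve_left fun h => hy1 (by
      rw [Subgroup.card_eq_one] at h; exact Subgroup.mem_bot.mp (h ▸ hy))
    have hgen3 := eq_zpowers_of_card hK3' hy hy1
    obtain ⟨n, hn⟩ := mem_powers_iff_mem_zpowers.mpr (hgen3 ▸ hcK y hy)
    simp only at hn
    have hy3 : y ^ 3 = 1 := by
      rw [← hK3']; exact congrArg Subtype.val (pow_card_eq_one' (x := (⟨y, hy⟩ : K)))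
    have h2 : e * y * e⁻¹ = y ^ (n * n) := by
      rw [hedef, show c ^ 2 * y * (c ^ 2)⁻¹ = c * (c * y * c⁻¹) * c⁻¹ by rw [pow_two]; group, ← hn, ← conj_pow, ← hn, ← pow_mul]
    rw [← Nat.mod_add_div (n * n) 3, pow_add, pow_mul, hy3, one_pow, mul_one, Nat.mul_mod] at h2
    rcases (show n % 3 = 0 ∨ n % 3 = 1 ∨ n % 3 = 2 by omega) with h | h | h <;> rw [h] at h2 <;> norm_num at h2
    · exact absurd h2 hy1
    · exact mul_inv_eq_iff_eq_mul.mp h2
    · exact mul_inv_eq_iff_eq_mul.mp h2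
  have hKbot : ⁅R, zpowers e⁆ = ⊥ := by
    refine Coprime.commutator_eq_bot_of_commutator_commutator heR (hzc ▸ hRodd.symm) ?_
    rw [commutator_eq_bot_iff_le_centralizer]
    intro y hy
    rw [mem_centralizer_iff]
    rintro _ ⟨j, rfl⟩
    exact ((show Commute e y from hKe y hy).zpow_left j).eq
  exact hr₀e (mem_centralizer_iff.mp (commutator_eq_bot_iff_le_centralizer.mp hKbot hr₀) e (mem_zpowers e)).symm

/-- The same in a group acting on a normal subgroup. -/
theorem sq_mem_centralizer_of_count [Group.IsSolvable G] (V : Subgroup G) [V.Normal]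
    (hV : IsElementaryAbelian 2 V) (hO : pCore 2 (G ⧸ centralizer (V : Set G)) = ⊥) {A : Subgroup G}
    (hA : IsMulCommutative A) (hAp : IsPGroup 2 A)
    (hcount : ∀ B : Subgroup G, B ≤ A →
      Nat.card B * Nat.card (V ⊓ centralizer (B : Set G) : Subgroup G) ≤
        Nat.card A * Nat.card (V ⊓ centralizer (A : Set G) : Subgroup G)) :
    ∀ a ∈ A, a ^ 2 ∈ centralizer (V : Set G) := by
  haveI := Fact.mk Nat.prime_two
  haveI := hA
  set P := pPrimeCore 2 (G ⧸ centralizer (V : Set G)) with hP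
  set ι : G ⧸ centralizer (V : Set G) →* Amb V := SemidirectProduct.inr with hι
  have hιi : Function.Injective ι := SemidirectProduct.inr_injective
  set Q := P.map ι with hQ
  set f := ambMap V with hf
  have hrange : Q ≤ f.range := by
    rintro _ ⟨q, -, rfl⟩
    obtain ⟨x, rfl⟩ := QuotientGroup.mk'_surjective (centralizer (V : Set G)) q
    exact ⟨x, rfl⟩
  have hself : centralizer (P : Set (G ⧸ centralizer (V : Set G))) ≤ P := by
    have hsol : IsPSolvable 2 (G ⧸ centralizer (V : Set G)) :=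
      Core.isPSolvable_quotient Core.isPSolvable_of_isSolvable _
    have h := Core.centralizer_piCore_le (Core.isPiSeparable_compl (Core.isPiSeparable_of_isPSolvable hsol))
      (by rw [compl_compl, ← Core.pCore_eq_piCore, hO])
    rwa [← Core.pPrimeCore_eq_piCore] at h
  have hQc : (Nat.card Q).Coprime 2 := by
    rw [hQ, Subgroup.card_map_of_injective hιi]; exact Core.card_pPrimeCore_coprime 2 _
  intro a ha
  rw [← ambMap_ker V, MonoidHom.mem_ker, map_pow]
  refine sq_eq_one_of_offender (V := ambV V) (A := A.map f) (Q := Q) (ambV_EA V hV)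
    ((Subgroup.map_le_range f A).trans (range_le_normalizer V)) (hrange.trans (range_le_normalizer V))
    (Subgroup.map_isMulCommutative A f) (hAp.map f) ?_ hQc
    (le_bot_iff.mp ((range_inf_centralizer V) ▸ inf_le_inf_right _ hrange)) ?_ ?_ _ ⟨a, ha, rfl⟩
  · rintro _ ⟨x, -, rfl⟩
    refine mem_normalizer_fintype ?_
    rintro _ ⟨q, hq, rfl⟩
    refine ⟨QuotientGroup.mk' _ x * q * (QuotientGroup.mk' _ x)⁻¹,
      (inferInstance : (pPrimeCore 2 (G ⧸ centralizer (V : Set G))).Normal).conj_mem q hq _, ?_⟩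
    rw [map_mul, map_mul, map_inv]
    rfl
  · rintro _ ⟨x, hx, rfl⟩ hq
    have hxP : QuotientGroup.mk' (centralizer (V : Set G)) x ∈ P := hself (mem_centralizer_iff.mpr fun q hq' =>
      hιi (by rw [map_mul, map_mul]; exact hq _ ⟨q, hq', rfl⟩))
    obtain ⟨j, hj⟩ := hAp.map f ⟨f x, mem_map_of_mem f hx⟩
    refine orderOf_eq_one_iff.mp (Nat.eq_one_of_dvd_coprimes (hQc.pow_right j)
      (orderOf_dvd_natCard _ ⟨_, hxP, rfl⟩) (orderOf_dvd_of_pow_eq_one ?_))
    exact congrArg Subtype.val hj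
  · intro B' hB'
    set B := A ⊓ B'.comap f with hB
    have hBm : B.map f = B' := by
      refine le_antisymm ((Subgroup.map_mono inf_le_right).trans (Subgroup.map_comap_le _ _)) fun x hx => ?_
      obtain ⟨b, hb, rfl⟩ := hB' hx
      exact ⟨b, ⟨hb, hx⟩, rfl⟩
    have hBC : B ⊓ centralizer (V : Set G) = A ⊓ centralizer (V : Set G) := by
      refine le_antisymm (inf_le_inf_right _ inf_le_left) (le_inf (le_inf inf_le_left fun b hb => ?_) inf_le_right)
      show f b ∈ B'
      rw [MonoidHom.mem_ker.mp (show b ∈ f.ker by rw [hf, ambMap_ker]; exact hb.2)]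
      exact one_mem _
    have h := hcount B inf_le_left
    rw [← card_map_amb V B, ← card_map_amb V A, hBC, hBm, ← card_ambV_inf V A, ← card_ambV_inf V B, hBm,
      mul_right_comm (Nat.card B'), mul_right_comm (Nat.card (A.map (ambMap V)))] at h
    exact Nat.le_of_mul_le_mul_right h Nat.card_pos

end Cfsg.Agent.PLocal
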