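import Cfsg.Agent.PLocal.CGroupLinear
import Cfsg.Agent.Core.Cores
import Cfsg.Prelude.Def_Transfer
import Cfsg.Prelude.Def_Solvable

/-!
A group with a self-centralizing elementary abelian normal Sylow subgroup whose subgroups of each
order are conjugate is semi-affine, if it is solvable.
-/

set_option autoImplicit false
set_option linter.style.haveILetI false

namespace Cfsg.Agent.PLocal.CGroupAffine

open Cfsg Module

variable {Q : Type*} [Group Q] [Finite Q] {p : ℕ} [Fact p.Prime]

theorem pow_apply_eq {n : ℕ} {g : Equiv.Perm (GaloisField p n)} {a : GaloisField p n}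
    {σ : RingAut (GaloisField p n)} (hg : ∀ x, g x = a * σ x) (k : ℕ) :
    ∃ c : GaloisField p n, ∀ x, (g ^ k) x = c * (σ ^ k) x := by
  induction k with
  | zero => exact ⟨1, fun x => by simp⟩
  | succ k ih =>
    obtain ⟨c, hc⟩ := ih
    refine ⟨a * σ c, fun x => ?_⟩
    rw [pow_succ', Equiv.Perm.mul_apply, hc, hg, map_mul, pow_succ', mul_assoc]
    rfl

theorem main_aux {V : Type*} [AddCommGroup V] [Module (ZMod p) V] [Finite V]
    (A : Subgroup Q) [A.Normal] (hAc : IsMulCommutative A) (ι : V ≃ A)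
    (hι : ∀ v w, ι (v + w) = ι v * ι w)
    {n : ℕ} (hn : 3 ≤ n) (hcard : Nat.card A = p ^ n) (hcop : (Nat.card A).Coprime A.index)
    (hself : Subgroup.centralizer (A : Set Q) ≤ A) (hsol : Group.IsSolvable Q)
    (htr : ∀ B B' : Subgroup Q, B ≤ A → B' ≤ A → Nat.card B = Nat.card B' →
      ∃ q : Q, B' = B.map (MulAut.conj q).toMonoidHom) :
    (n = 3 ∧ (∃ f : Q →* ↥(semiaffineGroup (GaloisField p 3)), Function.Injective f) ∧
      (p = 2 → Nonempty (Q ≃* semiaffineGroup (GaloisField 2 3)) ∨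
        Nonempty (Q ≃* affineGroup (GaloisField 2 3)))) ∨
    (n = 5 ∧ p = 2 ∧ Nonempty (Q ≃* semiaffineGroup (GaloisField 2 5))) := by
  classical
  have hp : p.Prime := Fact.out
  have hι0 : ι 0 = 1 := by
    have h := hι 0 0
    rw [add_zero] at h
    exact mul_eq_left.1 h.symm
  have hι1 : ι.symm (1 : A) = 0 := ι.symm_apply_eq.2 hι0.symm
  have hιneg : ∀ v, ι (-v) = (ι v)⁻¹ := fun v =>
    eq_inv_of_mul_eq_one_left (by rw [← hι, neg_add_cancel, hι0])
  let cj : Q → V ≃+ V := fun q =>
    { toEquiv := ι.trans ((MulAut.conjNormal (H := A) q).toEquiv.trans ι.symm)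
      map_add' := fun v w => by
        apply ι.injective
        simp [hι] }
  have hρ' : ∀ q v, (ι (cj q v) : Q) = q * (ι v : Q) * q⁻¹ := fun q v => by
    show (ι (ι.symm (MulAut.conjNormal q (ι v))) : Q) = _
    rw [ι.apply_symm_apply, MulAut.conjNormal_apply]
  let ρ : Q →* (V ≃ₗ[ZMod p] V) := MonoidHom.mk'
    (fun q => (cj q).toLinearEquiv (ZMod.map_smul (cj q).toAddMonoidHom))
    (fun a b => LinearEquiv.ext fun v => ι.injective (Subtype.ext (by
        show (ι (cj (a * b) v) : Q) = (ι (cj a (cj b v)) : Q)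
        rw [hρ', hρ', hρ']
        group)))
  have hρ : ∀ (q : Q) (v : V), (ι (ρ q v) : Q) = q * (ι v : Q) * q⁻¹ := hρ'
  have hker : ∀ q, ρ q = 1 ↔ q ∈ A := by
    intro q
    constructor
    · intro h
      refine hself (Subgroup.mem_centralizer_iff.2 fun a ha => ?_)
      have h1 := hρ q (ι.symm ⟨a, ha⟩)
      rw [h, LinearEquiv.coe_one, id_eq, ι.apply_symm_apply] at h1
      change a = q * a * q⁻¹ at h1
      exact eq_mul_inv_iff_mul_eq.1 h1
    · intro hq
      refine LinearEquiv.ext fun x => ι.injective (Subtype.ext ?_)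
      rw [hρ]
      show q * (ι x : Q) * q⁻¹ = (ι x : Q)
      have hc := congrArg Subtype.val (hAc.is_comm.comm ⟨q, hq⟩ (ι x))
      simp only [Subgroup.coe_mul] at hc
      rw [hc, mul_inv_cancel_right]
  have hSsol : Group.IsSolvable ρ.range := by
    haveI := hsol
    exact Group.isSolvable_of_surjective ρ.rangeRestrict_surjective
  have hdim : finrank (ZMod p) V = n := by
    have h := natCard_eq_pow_finrank (K := ZMod p) (V := V)
    rw [Nat.card_zmod, Nat.card_congr ι, hcard] at h
    exact (Nat.pow_right_injective hp.two_le h).symm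
  have hsub : ∀ W W' : Submodule (ZMod p) V, finrank (ZMod p) W = finrank (ZMod p) W' →
      ∃ g ∈ ρ.range, W.map (g : V →ₗ[ZMod p] V) = W' := by
    intro W W' hW
    let σ : Submodule (ZMod p) V → Subgroup Q := fun U =>
      { carrier := {q | ∃ v ∈ U, (ι v : Q) = q}
        one_mem' := ⟨0, U.zero_mem, by rw [hι0]; rfl⟩
        mul_mem' := fun ⟨v, hv, h⟩ ⟨w, hw, h'⟩ =>
          ⟨v + w, U.add_mem hv hw, by rw [hι, Subgroup.coe_mul, h, h']⟩
        inv_mem' := fun ⟨v, hv, h⟩ =>
          ⟨-v, U.neg_mem hv, by rw [hιneg, Subgroup.coe_inv, h]⟩ }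
    have hσA : ∀ U, σ U ≤ A := by
      rintro U _ ⟨v, -, rfl⟩
      exact (ι v).2
    have hσc : ∀ U, Nat.card (σ U) = p ^ finrank (ZMod p) U := by
      intro U
      have h1 : Nat.card U = Nat.card (σ U) := Nat.card_congr (Equiv.ofBijective
        (fun v : U => (⟨(ι v : Q), v, v.2, rfl⟩ : σ U))
        ⟨fun a b h => Subtype.ext (ι.injective (Subtype.ext (congrArg (fun z : σ U => (z : Q)) h))),
          fun ⟨_, v, hv, h⟩ => ⟨⟨v, hv⟩, Subtype.ext h⟩⟩)
      rw [← h1, natCard_eq_pow_finrank (K := ZMod p) (V := U), Nat.card_zmod]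
    obtain ⟨q, hq⟩ := htr (σ W) (σ W') (hσA W) (hσA W') (by rw [hσc, hσc, hW])
    refine ⟨ρ q, ⟨q, rfl⟩, ?_⟩
    apply Submodule.eq_of_le_of_finrank_eq
    · rintro _ ⟨x, hx, rfl⟩
      have hmem : q * (ι x : Q) * q⁻¹ ∈ σ W' := hq.symm ▸ ⟨(ι x : Q), ⟨x, hx, rfl⟩, rfl⟩
      obtain ⟨y, hy, hy'⟩ := hmem
      show ρ q x ∈ W'
      have : ρ q x = y := ι.injective (Subtype.ext ((hρ q x).trans hy'.symm))
      exact this ▸ hy
    · rw [LinearEquiv.finrank_map_eq, hW]
  obtain ⟨hn', e, hsemi, h7, h155⟩ :=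
    CGroupLinear.structure_theorem ρ.range hSsol hn hdim hsub
  -- the complement and the points
  obtain ⟨H, hH⟩ := Subgroup.exists_right_complement'_of_coprime hcop
  let pt : GaloisField p n → Q ⧸ H := fun x => QuotientGroup.mk ((ι (e.symm x) : A) : Q)
  have hpt : Function.Bijective pt := by
    have hinj : Function.Injective pt := by
      intro x y hxy
      have h := QuotientGroup.eq.1 hxy
      have h1 : (ι (e.symm x) : Q)⁻¹ * (ι (e.symm y) : Q) = 1 :=
        Subgroup.disjoint_def.1 hH.disjoint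
          (mul_mem (inv_mem (ι (e.symm x)).2) (ι (e.symm y)).2) h
      exact e.symm.injective (ι.injective (Subtype.ext (inv_mul_eq_one.1 h1)))
    refine (Nat.bijective_iff_injective_and_card pt).2 ⟨hinj, ?_⟩
    rw [GaloisField.card p n (by omega), ← hcard]
    exact hH.index_eq_card.symm
  let π := Equiv.ofBijective pt hpt
  let f : Q →* Equiv.Perm (GaloisField p n) :=
    (Equiv.permCongrHom π.symm).toMonoidHom.comp (MulAction.toPermHom Q (Q ⧸ H))
  have hf : ∀ (v : A) (h : Q), h ∈ H → ∀ x,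
      f ((v : Q) * h) x = CGroupLinear.conjPerm e (ρ h) x + e (ι.symm v) := by
    intro v h hh x
    apply π.injective
    show π (π.symm (((v : Q) * h) • π x)) = _
    rw [π.apply_symm_apply]
    show (QuotientGroup.mk (((v : Q) * h) * (ι (e.symm x) : Q)) : Q ⧸ H) =
      QuotientGroup.mk (ι (e.symm (e (ρ h (e.symm x)) + e (ι.symm v)))).1
    rw [← e.map_add, e.symm_apply_apply, hι, ι.apply_symm_apply, Subgroup.coe_mul, QuotientGroup.eq]
    have hcm := congrArg Subtype.val (hAc.is_comm.comm (ι (ρ h (e.symm x))) v)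
    simp only [Subgroup.coe_mul] at hcm
    rw [hcm, hρ]
    convert inv_mem hh using 1
    group
  have hdec : ∀ q : Q, ∃ (v : A) (h : Q), h ∈ H ∧ q = (v : Q) * h := by
    intro q
    obtain ⟨⟨v, h⟩, hvh⟩ := hH.surjective q
    exact ⟨v, h, h.2, hvh.symm⟩
  have hfs : ∀ q, f q ∈ semiaffineGroup (GaloisField p n) := by
    intro q
    obtain ⟨v, h, hh, rfl⟩ := hdec q
    obtain ⟨⟨a, b, φ, hφ⟩, -⟩ := Subgroup.mem_inf.1 (hsemi _ ⟨h, rfl⟩)
    exact ⟨a, b + e (ι.symm v), φ, fun x => by rw [hf v h hh, hφ, add_assoc]⟩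
  have hfinj : Function.Injective f := by
    refine (injective_iff_map_eq_one f).2 fun q hq => ?_
    obtain ⟨v, h, hh, rfl⟩ := hdec q
    have h0 := hf v h hh 0
    rw [hq] at h0
    have hc0 : CGroupLinear.conjPerm e (ρ h) 0 = 0 := by
      show e (ρ h (e.symm 0)) = 0
      rw [map_zero, map_zero, map_zero]
    rw [hc0, zero_add] at h0
    have hv : v = 1 := by
      rw [← ι.apply_symm_apply v, e.map_eq_zero_iff.1 h0.symm, hι0]
    have hρ1 : ρ h = 1 := by
      apply CGroupLinear.conjPerm_injective e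
      rw [map_one]
      ext x
      have hx := hf v h hh x
      rw [hq, hv, hι1, map_zero, add_zero] at hx
      exact hx.symm
    have h1 : h = 1 := Subgroup.disjoint_def.1 hH.disjoint ((hker h).1 hρ1) hh
    rw [hv, h1, OneMemClass.coe_one, one_mul]
  -- the orders
  have hcardH : Nat.card H = Nat.card ρ.range := by
    refine Nat.card_congr (Equiv.ofBijective (fun h : H => (⟨ρ h, h, rfl⟩ : ρ.range)) ⟨?_, ?_⟩)
    · intro a b hab
      have h1 : ρ ((a : Q)⁻¹ * b) = 1 := by
        rw [map_mul, map_inv, inv_mul_eq_one]; exact congrArg Subtype.val hab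
      exact Subtype.ext (inv_mul_eq_one.1 (Subgroup.disjoint_def.1 hH.disjoint ((hker _).1 h1)
        (mul_mem (inv_mem a.2) b.2)))
    · rintro ⟨_, q, rfl⟩
      obtain ⟨v, h, hh, rfl⟩ := hdec q
      exact ⟨⟨h, hh⟩, Subtype.ext (by
        show ρ h = ρ ((v : Q) * h)
        rw [map_mul, (hker _).2 v.2, one_mul])⟩
  have hcardQ : Nat.card Q = p ^ n * Nat.card ρ.range := by
    rw [← hcardH, ← hcard, hH.card_mul]
  have hSdvd : Nat.card ρ.range ∣ (p ^ n - 1) * n := by
    rw [← CGroupLinear.natCard_semilinear (p := p) (n := n) (by omega)]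
    exact Subgroup.card_dvd_of_injective
      (((CGroupLinear.conjPerm e).comp ρ.range.subtype).codRestrict
        (CGroupLinear.semilinearGroup p n) fun g => hsemi g g.2)
      (fun a b h => Subtype.ext (CGroupLinear.conjPerm_injective e (congrArg Subtype.val h)))
  let fs : Q →* semiaffineGroup (GaloisField p n) := f.codRestrict _ hfs
  have hfsinj : Function.Injective fs := fun a b h => hfinj (congrArg Subtype.val h)
  have hiso : Nat.card ρ.range = (p ^ n - 1) * n →
      Nonempty (Q ≃* semiaffineGroup (GaloisField p n)) := fun hc =>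
    ⟨MulEquiv.ofBijective fs ((Nat.bijective_iff_injective_and_card fs).2
      ⟨hfsinj, by rw [hcardQ, hc, CGroupLinear.natCard_semiaffine (by omega)]⟩)⟩
  rcases hn' with rfl | ⟨rfl, hp2⟩
  · refine Or.inl ⟨rfl, ⟨fs, hfsinj⟩, fun hp2 => ?_⟩
    subst hp2
    have hd7 := h7 rfl rfl
    rw [show (2 ^ 3 - 1) * 3 = 21 from rfl] at hSdvd
    have hle := Nat.le_of_dvd (by norm_num) hSdvd
    have hpos : 0 < Nat.card ρ.range := Nat.card_pos
    obtain h | h : Nat.card ρ.range = 7 ∨ Nat.card ρ.range = 21 := by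
      obtain ⟨c, hc⟩ := hd7
      rw [hc] at hSdvd hle hpos ⊢
      have hc1 : c ≤ 3 := by omega
      interval_cases c <;> omega
    · right
      have haff : ∀ q, f q ∈ affineGroup (GaloisField 2 3) := by
        intro q
        obtain ⟨v, h', hh, rfl⟩ := hdec q
        obtain ⟨⟨a, b, φ, hφ⟩, h0⟩ := Subgroup.mem_inf.1 (hsemi _ ⟨h', rfl⟩)
        have h0' : CGroupLinear.conjPerm e (ρ h') 0 = 0 := h0
        have hb : b = 0 := by
          have h1 := hφ 0
          rw [h0', map_zero, mul_zero, zero_add] at h1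
          exact h1.symm
        set g := CGroupLinear.conjPerm e (ρ h') with hgdef
        have hg7 : g ^ 7 = 1 := by
          have h1 : (⟨ρ h', h', rfl⟩ : ρ.range) ^ 7 = 1 := by rw [← h]; exact pow_card_eq_one'
          rw [hgdef, ← map_pow, show ρ h' ^ 7 = 1 from congrArg Subtype.val h1, map_one]
        obtain ⟨c, hc⟩ := pow_apply_eq (a := (a : GaloisField 2 3))
          (σ := (φ : RingAut (GaloisField 2 3))) (fun x => by rw [hφ, hb, add_zero]) 7
        rw [hg7] at hc
        have hc1 : c = 1 := by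
          have h1 := hc 1
          rw [Equiv.Perm.one_apply, map_one, mul_one] at h1
          exact h1.symm
        have hφ7 : (φ : RingAut (GaloisField 2 3)) ^ 7 = 1 := RingEquiv.ext fun x => by
          have h1 := hc x
          rw [hc1, one_mul, Equiv.Perm.one_apply] at h1
          exact h1.symm
        have hφ3 : (φ : RingAut (GaloisField 2 3)) ^ 3 = 1 := by
          have h1 : Nat.card (RingAut (GaloisField 2 3)) = 3 :=
            CGroupLinear.natCard_ringAut (by norm_num)
          have h2 := pow_card_eq_one' (x := (φ : RingAut (GaloisField 2 3)))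
          rwa [h1] at h2
        have hφ1 : (φ : RingAut (GaloisField 2 3)) = 1 := by
          have h1 := pow_gcd_eq_one.2 ⟨hφ7, hφ3⟩
          simpa using h1
        refine ⟨a, b + e (ι.symm v), fun x => ?_⟩
        rw [hf v h' hh, hφ, add_assoc]
        rw [show φ x = x from DFunLike.congr_fun hφ1 x]
      exact ⟨MulEquiv.ofBijective (f.codRestrict _ haff) ((Nat.bijective_iff_injective_and_card _).2
        ⟨fun a b h' => hfinj (congrArg Subtype.val h'),
          by rw [hcardQ, h, CGroupLinear.natCard_affine (by norm_num)]; rfl⟩)⟩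
    · exact Or.inl (hiso (by rw [h]; norm_num))
  · subst hp2
    refine Or.inr ⟨rfl, rfl, hiso ?_⟩
    have hd := h155 rfl rfl
    rw [show (2 ^ 5 - 1) * 5 = 155 from rfl] at hSdvd ⊢
    exact Nat.dvd_antisymm hSdvd hd

theorem main (A : Subgroup Q) [A.Normal] (hAc : IsMulCommutative A) (hAe : ∀ a ∈ A, a ^ p = 1)
    {n : ℕ} (hn : 3 ≤ n) (hcard : Nat.card A = p ^ n) (hcop : (Nat.card A).Coprime A.index)
    (hself : Subgroup.centralizer (A : Set Q) ≤ A) (hsol : Group.IsSolvable Q)
    (htr : ∀ B B' : Subgroup Q, B ≤ A → B' ≤ A → Nat.card B = Nat.card B' →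
      ∃ q : Q, B' = B.map (MulAut.conj q).toMonoidHom) :
    (n = 3 ∧ (∃ f : Q →* ↥(semiaffineGroup (GaloisField p 3)), Function.Injective f) ∧
      (p = 2 → Nonempty (Q ≃* semiaffineGroup (GaloisField 2 3)) ∨
        Nonempty (Q ≃* affineGroup (GaloisField 2 3)))) ∨
    (n = 5 ∧ p = 2 ∧ Nonempty (Q ≃* semiaffineGroup (GaloisField 2 5))) := by
  letI : AddCommGroup (Additive A) :=
    { (inferInstance : AddGroup (Additive A)) with
      add_comm := fun a b => congrArg Additive.ofMul (hAc.is_comm.comm a.toMul b.toMul) }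
  letI : Module (ZMod p) (Additive A) := AddCommGroup.zmodModule fun x => by
    have h : x.toMul ^ p = 1 := Subtype.ext (hAe _ x.toMul.2)
    exact congrArg Additive.ofMul h
  exact main_aux (V := Additive A) A hAc Additive.toMul (fun _ _ => rfl) hn hcard hcop hself hsol htr

end Cfsg.Agent.PLocal.CGroupAffine
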