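import Cfsg.Agent.SmallOrder.TransSolvable
import Cfsg.Agent.S2904
import Cfsg.Agent.Screen.BrauerP.Semiaffine
import Cfsg.Agent.GeomClasses.SubspaceDerange
import Cfsg.Agent.Core.Hall
import Mathlib.FieldTheory.Finite.GaloisField

/-!
Solvable linear groups over a prime field which are transitive on lines and on planes.
-/

set_option autoImplicit false
set_option linter.style.haveILetI false
set_option linter.unusedSectionVars false

namespace Cfsg.Agent.PLocal.CGroupLinear

open Cfsg Module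

section Field

variable {p : ℕ} [Fact p.Prime] {n : ℕ}

theorem natCard_ringAut (hn : n ≠ 0) :
    Nat.card (GaloisField p n ≃+* GaloisField p n) = n := by
  let e : (GaloisField p n ≃ₐ[ZMod p] GaloisField p n) ≃ (GaloisField p n ≃+* GaloisField p n) :=
    { toFun := fun f => f.toRingEquiv
      invFun := fun f => AlgEquiv.ofRingEquiv (f := f) (fun c =>
        DFunLike.congr_fun (Subsingleton.elim
          ((f : GaloisField p n →+* GaloisField p n).comp (algebraMap (ZMod p) (GaloisField p n)))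
          (algebraMap (ZMod p) (GaloisField p n))) c)
      left_inv := fun f => AlgEquiv.ext fun _ => rfl
      right_inv := fun f => RingEquiv.ext fun _ => rfl }
  rw [← Nat.card_congr e, IsGalois.card_aut_eq_finrank, GaloisField.finrank p hn]

variable (p n)

/-- The semi-linear maps of the field, as permutations. -/
noncomputable def semilinearGroup : Subgroup (Equiv.Perm (GaloisField p n)) :=
  semiaffineGroup (GaloisField p n) ⊓ MulAction.stabilizer (Equiv.Perm (GaloisField p n)) (0 : GaloisField p n)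

variable {p n}

theorem natCard_semiaffine (hn : n ≠ 0) :
    Nat.card (semiaffineGroup (GaloisField p n)) = p ^ n * ((p ^ n - 1) * n) := by
  have hb : ∀ (a : (GaloisField p n)ˣ) (b : GaloisField p n) (φ : GaloisField p n ≃+* GaloisField p n),
      (φ.toEquiv.trans ((Units.mulLeft a).trans (Equiv.addRight b))) ∈ semiaffineGroup (GaloisField p n) :=
    fun a b φ => ⟨a, b, φ, fun x => rfl⟩
  let f : (GaloisField p n × ((GaloisField p n)ˣ × (GaloisField p n ≃+* GaloisField p n))) →
      semiaffineGroup (GaloisField p n) := fun t => ⟨_, hb t.2.1 t.1 t.2.2⟩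
  have hf : Function.Bijective f := by
    refine ⟨fun t t' h => ?_, fun s => ?_⟩
    · obtain ⟨b, a, φ⟩ := t; obtain ⟨b', a', φ'⟩ := t'
      have h' : ∀ x, (a : GaloisField p n) * φ x + b = (a' : GaloisField p n) * φ' x + b' :=
        fun x => DFunLike.congr_fun (congrArg Subtype.val h) x
      obtain ⟨rfl, rfl, rfl⟩ := Screen.BrauerP.semiaffine_unique h'
      rfl
    · obtain ⟨a, b, φ, h⟩ := s.2
      exact ⟨(b, a, φ), Subtype.ext (Equiv.ext fun x => (h x).symm)⟩
  rw [← Nat.card_congr (Equiv.ofBijective f hf), Nat.card_prod, Nat.card_prod, Nat.card_units,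
    GaloisField.card p n hn, natCard_ringAut hn]

theorem natCard_semilinear (hn : n ≠ 0) :
    Nat.card (semilinearGroup p n) = (p ^ n - 1) * n := by
  have hb : ∀ (a : (GaloisField p n)ˣ) (φ : GaloisField p n ≃+* GaloisField p n),
      (φ.toEquiv.trans (Units.mulLeft a)) ∈ semilinearGroup p n :=
    fun a φ => Subgroup.mem_inf.2 ⟨⟨a, 0, φ, fun x => (add_zero _).symm⟩, by
      show (a : GaloisField p n) * φ 0 = 0
      rw [map_zero, mul_zero]⟩
  let f : ((GaloisField p n)ˣ × (GaloisField p n ≃+* GaloisField p n)) →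
      semilinearGroup p n := fun t => ⟨_, hb t.1 t.2⟩
  have hf : Function.Bijective f := by
    refine ⟨fun t t' h => ?_, fun s => ?_⟩
    · obtain ⟨a, φ⟩ := t; obtain ⟨a', φ'⟩ := t'
      have h' : ∀ x, (a : GaloisField p n) * φ x + 0 = (a' : GaloisField p n) * φ' x + 0 :=
        fun x => by
          rw [add_zero, add_zero]
          exact DFunLike.congr_fun (congrArg Subtype.val h) x
      obtain ⟨rfl, -, rfl⟩ := Screen.BrauerP.semiaffine_unique h'
      rfl
    · obtain ⟨⟨a, b, φ, h⟩, h0⟩ := Subgroup.mem_inf.1 s.2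
      have h0' : (s : Equiv.Perm (GaloisField p n)) 0 = 0 := h0
      have hb0 : b = 0 := by
        have := h 0
        rw [h0', map_zero, mul_zero, zero_add] at this
        exact this.symm
      refine ⟨(a, φ), Subtype.ext (Equiv.ext fun x => ?_)⟩
      rw [h x, hb0, add_zero]
      rfl
  rw [← Nat.card_congr (Equiv.ofBijective f hf), Nat.card_prod, Nat.card_units,
    GaloisField.card p n hn, natCard_ringAut hn]

theorem natCard_affine (hn : n ≠ 0) :
    Nat.card (affineGroup (GaloisField p n)) = p ^ n * (p ^ n - 1) := by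
  have hb : ∀ (a : (GaloisField p n)ˣ) (b : GaloisField p n),
      ((Units.mulLeft a).trans (Equiv.addRight b)) ∈ affineGroup (GaloisField p n) :=
    fun a b => ⟨a, b, fun x => rfl⟩
  let f : (GaloisField p n × (GaloisField p n)ˣ) → affineGroup (GaloisField p n) :=
    fun t => ⟨_, hb t.2 t.1⟩
  have hf : Function.Bijective f := by
    refine ⟨fun t t' h => ?_, fun s => ?_⟩
    · obtain ⟨b, a⟩ := t; obtain ⟨b', a'⟩ := t'
      have h' : ∀ x, (a : GaloisField p n) * (RingEquiv.refl (GaloisField p n)) x + b =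
          (a' : GaloisField p n) * (RingEquiv.refl (GaloisField p n)) x + b' :=
        fun x => DFunLike.congr_fun (congrArg Subtype.val h) x
      obtain ⟨rfl, rfl, -⟩ := Screen.BrauerP.semiaffine_unique h'
      rfl
    · obtain ⟨a, b, h⟩ := s.2
      exact ⟨(b, a), Subtype.ext (Equiv.ext fun x => (h x).symm)⟩
  rw [← Nat.card_congr (Equiv.ofBijective f hf), Nat.card_prod, Nat.card_units,
    GaloisField.card p n hn]

end Field

section Numbers

theorem zmod_three : ∀ d : ZMod 3, d ^ 5 = 1 → d = 1 := by decide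

theorem units_two : ∀ d : (ZMod 2)ˣ, d = 1 := by decide

theorem pow_gt (m : ℕ) : m + 6 < 2 ^ (m + 3) := by
  induction m with
  | zero => norm_num
  | succ k ih =>
    rw [show k + 1 + 3 = (k + 3) + 1 from rfl, pow_succ]
    omega

/-- The numerical restriction. -/
theorem degree_small {p n N : ℕ} (hp : p.Prime) (hn : 3 ≤ n)
    (hN : N * ((p ^ 2 - 1) * (p - 1)) = (p ^ n - 1) * (p ^ (n - 1) - 1))
    (hdvd : N * (p - 1) ∣ (p ^ n - 1) * n) : n = 3 ∨ (n = 5 ∧ p = 2) := by
  have h2 := hp.two_le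
  have hp2 : 4 ≤ p ^ 2 := by nlinarith
  have hqpos : 0 < p ^ n - 1 := Nat.sub_pos_of_lt (Nat.one_lt_pow (by omega) hp.one_lt)
  have hle : N * (p - 1) ≤ (p ^ n - 1) * n :=
    Nat.le_of_dvd (Nat.mul_pos hqpos (by omega)) hdvd
  have hkey : p ^ (n - 1) - 1 ≤ (p ^ 2 - 1) * n := by
    refine Nat.le_of_mul_le_mul_left ?_ hqpos
    rw [← hN]
    calc N * ((p ^ 2 - 1) * (p - 1)) = (p ^ 2 - 1) * (N * (p - 1)) := by ring
      _ ≤ (p ^ 2 - 1) * ((p ^ n - 1) * n) := Nat.mul_le_mul_left _ hle
      _ = _ := by ring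
  obtain rfl | rfl | rfl | h6 : n = 3 ∨ n = 4 ∨ n = 5 ∨ 6 ≤ n := by omega
  · exact Or.inl rfl
  · exfalso
    have hp3 : p ≤ 4 := by
      by_contra hcon
      have h5 : 5 ≤ p := by omega
      have e : p ^ (4 - 1) = p * p ^ 2 := by norm_num; ring
      rw [e] at hkey
      have : 5 * p ^ 2 ≤ p * p ^ 2 := Nat.mul_le_mul_right _ h5
      omega
    interval_cases p
    · norm_num at hN hdvd
      obtain rfl : N = 35 := by omega
      norm_num at hdvd
    · norm_num at hN hdvd
      obtain rfl : N = 130 := by omega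
      norm_num at hdvd
    · norm_num at hp
  · refine Or.inr ⟨rfl, ?_⟩
    by_contra hcon
    have h3 : 3 ≤ p := by omega
    have e : p ^ (5 - 1) = p ^ 2 * p ^ 2 := by norm_num; ring
    rw [e] at hkey
    have : 9 ≤ p ^ 2 := by nlinarith
    have : 9 * p ^ 2 ≤ p ^ 2 * p ^ 2 := Nat.mul_le_mul_right _ this
    omega
  · exfalso
    obtain ⟨m, rfl⟩ : ∃ m, n = m + 6 := ⟨n - 6, by omega⟩
    have e : p ^ (m + 6 - 1) = p ^ (m + 3) * p ^ 2 := by
      rw [← pow_add]; rfl
    rw [e] at hkey
    have h3 : m + 7 ≤ p ^ (m + 3) :=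
      (Nat.succ_le_of_lt (pow_gt m)).trans (Nat.pow_le_pow_left h2 _)
    have h4 : (m + 7) * p ^ 2 ≤ p ^ (m + 3) * p ^ 2 := Nat.mul_le_mul_right _ h3
    have h5 : (p ^ 2 - 1) * (m + 6) ≤ p ^ 2 * (m + 6) := Nat.mul_le_mul_right _ (Nat.sub_le _ _)
    have h6' : p ^ 2 * (m + 6) + p ^ 2 = (m + 7) * p ^ 2 := by ring
    omega

end Numbers

variable {p : ℕ} [hp : Fact p.Prime] {V : Type*} [AddCommGroup V] [Module (ZMod p) V] [Finite V]

instance : Finite (V ≃ₗ[ZMod p] V) :=
  Finite.of_injective (fun g => (g : V → V)) DFunLike.coe_injective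

/-- A semi-linear map, read as a permutation of the field. -/
noncomputable def conjPerm {n : ℕ} (e : V ≃+ GaloisField p n) :
    (V ≃ₗ[ZMod p] V) →* Equiv.Perm (GaloisField p n) where
  toFun g := e.toEquiv.symm.trans (g.toEquiv.trans e.toEquiv)
  map_one' := Equiv.ext fun x => e.apply_symm_apply x
  map_mul' g h := Equiv.ext fun x => by
    show e (g (h (e.symm x))) = e (g (e.symm (e (h (e.symm x)))))
    rw [e.symm_apply_apply]

theorem conjPerm_injective {n : ℕ} (e : V ≃+ GaloisField p n) :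
    Function.Injective (conjPerm e) := fun g h hgh => LinearEquiv.ext fun v => by
  have := DFunLike.congr_fun hgh (e v)
  change e (g (e.symm (e v))) = e (h (e.symm (e v))) at this
  rw [e.symm_apply_apply] at this
  exact e.injective this

theorem card_zpowers_fix {r : ℕ} [Fact r.Prime] (x : V ≃ₗ[ZMod p] V) (hx : orderOf x = r) :
    Nat.card V ≡ Nat.card (LinearMap.ker ((x : V →ₗ[ZMod p] V) - LinearMap.id)) [MOD r] := by
  have hpg : IsPGroup r (Subgroup.zpowers x) :=
    IsPGroup.of_card (n := 1) (by rw [Nat.card_zpowers, hx, pow_one])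
  refine (hpg.card_modEq_card_fixedPoints V).trans (Eq.subst ?_ (Nat.ModEq.refl _))
  refine Nat.card_congr (Equiv.subtypeEquivRight fun v => ?_)
  rw [LinearMap.mem_ker, LinearMap.sub_apply, sub_eq_zero, MulAction.mem_fixedPoints]
  constructor
  · intro h; exact h ⟨x, Subgroup.mem_zpowers x⟩
  · intro h g
    have hle : Subgroup.zpowers x ≤ MulAction.stabilizer (V ≃ₗ[ZMod p] V) v :=
      Subgroup.zpowers_le.2 (MulAction.mem_stabilizer_iff.2 h)
    exact MulAction.mem_stabilizer_iff.1 (hle g.2)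

variable (S : Subgroup (V ≃ₗ[ZMod p] V))

theorem thirteen_five (hp3 : p = 3) (hdim : finrank (ZMod p) V = 4) (hsol : Group.IsSolvable S)
    (h13 : 13 ∣ Nat.card S) (h5 : 5 ∣ Nat.card S) : False := by
  classical
  subst hp3
  have hV : Nat.card V = 81 := by
    rw [natCard_eq_pow_finrank (K := ZMod 3) (V := V), Nat.card_zmod, hdim]; norm_num
  obtain ⟨K, hK1, hK2⟩ := Core.exists_isPiHall_of_isSolvable (G := S) ({5, 13} : Set ℕ)
  haveI : Fact (Nat.Prime 13) := ⟨by norm_num⟩
  haveI : Fact (Nat.Prime 5) := ⟨by norm_num⟩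
  have hdK : ∀ q : ℕ, q.Prime → q ∈ ({5, 13} : Set ℕ) → q ∣ Nat.card S → q ∣ Nat.card K := by
    intro q hq hqm hd
    rw [← K.card_mul_index] at hd
    exact (hq.dvd_mul.1 hd).resolve_right (hK2 q hq hqm)
  have hGL : Nat.card (V ≃ₗ[ZMod 3] V) = 24261120 := by
    let b := Module.finBasisOfFinrankEq (ZMod 3) V hdim
    rw [Nat.card_congr ((LinearMap.GeneralLinearGroup.generalLinearEquiv (ZMod 3) V).symm.trans
      (Matrix.GeneralLinearGroup.toLin.trans
        (LinearMap.GeneralLinearGroup.congrLinearEquiv (b.equivFun.symm))).symm).toEquiv,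
      Matrix.card_GL_field]
    rw [Fin.prod_univ_four, ZMod.card]
    norm_num
  have hK65 : Nat.card K = 65 := by
    have hd : Nat.card K ∣ 24261120 := hGL ▸ (Subgroup.card_subgroup_dvd_card K).trans
      (Subgroup.card_subgroup_dvd_card S)
    have h65 : 65 ∣ Nat.card K := Nat.Coprime.mul_dvd_of_dvd_of_dvd (m := 5) (n := 13) (by norm_num)
      (hdK 5 (by norm_num) (by simp) h5) (hdK 13 (by norm_num) (by simp) h13)
    obtain ⟨c, hc⟩ := h65
    have hc1 : c = 1 := by
      refine Nat.eq_one_iff_not_exists_prime_dvd.2 fun q hq hqd => ?_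
      have hcd : c ∣ 373248 := Nat.dvd_of_mul_dvd_mul_left (by norm_num : 0 < 65)
        (by rw [← hc]; exact hd)
      rcases hK1 q hq (hc ▸ hqd.mul_left 65) with rfl | rfl
      · exact absurd (hqd.trans hcd) (by norm_num)
      · exact absurd (hqd.trans hcd) (by norm_num)
    rw [hc, hc1]
  obtain ⟨x, hx⟩ := exists_prime_orderOf_dvd_card' (G := K) 13 (by rw [hK65]; norm_num)
  obtain ⟨y, hy⟩ := exists_prime_orderOf_dvd_card' (G := K) 5 (by rw [hK65]; norm_num)
  have hn : ∀ (q : ℕ), q.Prime → (q = 5 ∨ q = 13) → ∀ z : K, orderOf z = q →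
      (Subgroup.zpowers z).Normal := by
    intro q hq hqc z hz
    haveI := Fact.mk hq
    have hfac : (Nat.card K).factorization q = 1 := by
      rw [hK65, show (65 : ℕ) = 5 * 13 from rfl,
        Nat.factorization_mul (by norm_num) (by norm_num), Finsupp.add_apply,
        Nat.Prime.factorization (by norm_num), Nat.Prime.factorization (by norm_num)]
      rcases hqc with rfl | rfl <;> simp
    let Q : Sylow q K := Sylow.ofCard (Subgroup.zpowers z)
      (by rw [Nat.card_zpowers, hz, hfac, pow_one])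
    have hQ : (Q : Subgroup K) = Subgroup.zpowers z := rfl
    have h1 := card_sylow_modEq_one q K
    have hd : Nat.card (Sylow q K) ∣ 65 / q := by
      refine (Sylow.card_dvd_index Q).trans (dvd_of_eq ?_)
      have h := (Q : Subgroup K).card_mul_index
      rw [hQ, Nat.card_zpowers, hz, hK65] at h
      rw [hQ, ← h, Nat.mul_div_cancel_left _ hq.pos]
    have h1' : Nat.card (Sylow q K) = 1 := by
      unfold Nat.ModEq at h1
      rcases hqc with rfl | rfl
      · rcases (Nat.dvd_prime (by norm_num : Nat.Prime 13)).1 (by simpa using hd) with h | h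
        · exact h
        · rw [h] at h1; norm_num at h1
      · rcases (Nat.dvd_prime (by norm_num : Nat.Prime 5)).1 (by simpa using hd) with h | h
        · exact h
        · rw [h] at h1; norm_num at h1
    haveI : Subsingleton (Sylow q K) := (Nat.card_eq_one_iff_unique.1 h1').1
    exact hQ ▸ Sylow.normal_of_subsingleton Q
  have hxy : x * y = y * x := by
    refine Subgroup.commute_of_normal_of_disjoint (Subgroup.zpowers x) (Subgroup.zpowers y)
      (hn 13 (by norm_num) (Or.inr rfl) x hx) (hn 5 (by norm_num) (Or.inl rfl) y hy) ?_ x y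
      (Subgroup.mem_zpowers x) (Subgroup.mem_zpowers y)
    rw [disjoint_iff]
    refine Subgroup.inf_eq_bot_of_coprime ?_
    rw [Nat.card_zpowers, Nat.card_zpowers, hx, hy]
    norm_num
  set X : V ≃ₗ[ZMod 3] V := ((x : S) : V ≃ₗ[ZMod 3] V) with hXdef
  set Y : V ≃ₗ[ZMod 3] V := ((y : S) : V ≃ₗ[ZMod 3] V) with hYdef
  have hX : orderOf X = 13 := by rw [hXdef, Subgroup.orderOf_coe, Subgroup.orderOf_coe, hx]
  have hY : orderOf Y = 5 := by rw [hYdef, Subgroup.orderOf_coe, Subgroup.orderOf_coe, hy]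
  have hXY : X * Y = Y * X := congrArg (fun z : K => ((z : S) : V ≃ₗ[ZMod 3] V)) hxy
  set W := LinearMap.ker ((X : V →ₗ[ZMod 3] V) - LinearMap.id) with hWdef
  have hWX : ∀ v, v ∈ W ↔ X v = v := fun v => by
    rw [hWdef, LinearMap.mem_ker, LinearMap.sub_apply, sub_eq_zero]; rfl
  have hWle : finrank (ZMod 3) W ≤ 4 := hdim ▸ W.finrank_le
  have hW1 : finrank (ZMod 3) W = 1 := by
    have h := card_zpowers_fix X hX
    rw [hV, natCard_eq_pow_finrank (K := ZMod 3) (V := W), Nat.card_zmod] at h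
    have hne : finrank (ZMod 3) W ≠ 4 := by
      intro h4
      have htop : W = ⊤ := Submodule.eq_top_of_finrank_eq (h4.trans hdim.symm)
      have h1 : X = 1 := LinearEquiv.ext fun v => (hWX v).1 (htop ▸ Submodule.mem_top)
      rw [h1, orderOf_one] at hX
      norm_num at hX
    interval_cases hw : finrank (ZMod 3) W <;> first | rfl | (exact absurd rfl hne) |
      (norm_num [Nat.ModEq] at h)
  -- `Y` fixes `W` pointwise
  obtain ⟨v, hv, hspan⟩ := finrank_eq_one_iff'.1 hW1
  have hYW : X (Y (v : V)) = Y (v : V) := by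
    have h := DFunLike.congr_fun hXY (v : V)
    change X (Y (v : V)) = Y (X (v : V)) at h
    rw [h, (hWX _).1 v.2]
  obtain ⟨c, hc⟩ := hspan ⟨Y v, (hWX _).2 hYW⟩
  have hc' : Y (v : V) = c • (v : V) := (congrArg Subtype.val hc).symm
  have hpow : ∀ k : ℕ, (Y ^ k) (v : V) = c ^ k • (v : V) := by
    intro k
    induction k with
    | zero => simp
    | succ k ih =>
      rw [pow_succ']
      show Y ((Y ^ k) (v : V)) = _
      rw [ih, map_smul, hc', smul_smul, ← pow_succ]
  have h5' : c ^ 5 = 1 := by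
    have h := hpow 5
    rw [← hY, pow_orderOf_eq_one, hY] at h
    have : (c ^ 5 - 1) • (v : V) = 0 := by rw [sub_smul, one_smul, ← h]; simp
    rcases smul_eq_zero.1 this with h | h
    · exact sub_eq_zero.1 h
    · exact absurd (Subtype.ext h) hv
  have hc1 : c = 1 := zmod_three c h5'
  set U := LinearMap.ker ((Y : V →ₗ[ZMod 3] V) - LinearMap.id) with hUdef
  have hUY : ∀ v, v ∈ U ↔ Y v = v := fun v => by
    rw [hUdef, LinearMap.mem_ker, LinearMap.sub_apply, sub_eq_zero]; rfl
  have hU0 : finrank (ZMod 3) U ≠ 0 := by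
    intro h0
    have hmem : (v : V) ∈ U := (hUY _).2 (by rw [hc', hc1, one_smul])
    rw [Submodule.finrank_eq_zero.1 h0, Submodule.mem_bot] at hmem
    exact hv (Subtype.ext hmem)
  have hUle : finrank (ZMod 3) U ≤ 4 := hdim ▸ U.finrank_le
  have hU4 : finrank (ZMod 3) U = 4 := by
    have h := card_zpowers_fix Y hY
    rw [hV, natCard_eq_pow_finrank (K := ZMod 3) (V := U), Nat.card_zmod] at h
    interval_cases hw : finrank (ZMod 3) U <;> first | rfl | omega | (norm_num [Nat.ModEq] at h)
  have htop : U = ⊤ := Submodule.eq_top_of_finrank_eq (hU4.trans hdim.symm)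
  have h1 : Y = 1 := LinearEquiv.ext fun v => (hUY v).1 (htop ▸ Submodule.mem_top)
  rw [h1, orderOf_one] at hY
  norm_num at hY

/-- The scalars. -/
def scalars : Subgroup (V ≃ₗ[ZMod p] V) :=
  (MonoidHom.range
    { toFun := fun c : (ZMod p)ˣ => LinearEquiv.smulOfUnit (M := V) c
      map_one' := LinearEquiv.ext fun v => one_smul _ v
      map_mul' := fun a b => LinearEquiv.ext fun v => mul_smul _ _ v })

theorem map_scalar {g : V ≃ₗ[ZMod p] V} (hg : g ∈ scalars) (W : Submodule (ZMod p) V) :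
    W.map (g : V →ₗ[ZMod p] V) = W := by
  obtain ⟨c, rfl⟩ := hg
  ext v
  constructor
  · rintro ⟨w, hw, rfl⟩
    exact W.smul_mem _ hw
  · intro hv
    exact ⟨(((c⁻¹ : (ZMod p)ˣ)) : ZMod p) • v, W.smul_mem _ hv, smul_inv_smul c v⟩

/-- The structure. -/
theorem structure_theorem (hsol : Group.IsSolvable S) {n : ℕ} (hn : 3 ≤ n)
    (hdim : finrank (ZMod p) V = n)
    (htr : ∀ W W' : Submodule (ZMod p) V, finrank (ZMod p) W = finrank (ZMod p) W' →
      ∃ g ∈ S, W.map (g : V →ₗ[ZMod p] V) = W') :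
    (n = 3 ∨ (n = 5 ∧ p = 2)) ∧ ∃ e : V ≃+ GaloisField p n,
      (∀ g ∈ S, conjPerm e g ∈ semilinearGroup p n) ∧
      (p = 2 → n = 3 → 7 ∣ Nat.card S) ∧ (p = 2 → n = 5 → 155 ∣ Nat.card S) := by
  classical
  haveI : Nontrivial V := Module.nontrivial_of_finrank_pos (R := ZMod p) (by omega)
  set Γ := S ⊔ scalars (p := p) (V := V) with hΓ
  have hZΓ : scalars (p := p) (V := V) ≤ Γ := le_sup_right
  have hcomm : ∀ z ∈ scalars (p := p) (V := V), ∀ g : V ≃ₗ[ZMod p] V, g * z = z * g := by
    rintro z ⟨c, rfl⟩ g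
    exact LinearEquiv.ext fun v => g.map_smul (c : ZMod p) v
  -- solvability
  haveI hsolΓ : Group.IsSolvable Γ := by
    haveI := hsol
    haveI : Group.IsSolvable (scalars (p := p) (V := V)) :=
      Group.isSolvable_of_comm fun a b => Subtype.ext (hcomm _ b.2 _)
    let μ : S × scalars (p := p) (V := V) →* (V ≃ₗ[ZMod p] V) :=
      MonoidHom.mk' (fun t => (t.1 : V ≃ₗ[ZMod p] V) * t.2) (fun a b => by
        show ((a.1 : V ≃ₗ[ZMod p] V) * b.1) * ((a.2 : V ≃ₗ[ZMod p] V) * b.2) =
          (a.1 : V ≃ₗ[ZMod p] V) * a.2 * ((b.1 : V ≃ₗ[ZMod p] V) * b.2)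
        rw [mul_assoc, ← mul_assoc (b.1 : V ≃ₗ[ZMod p] V), hcomm _ a.2.2 (b.1 : V ≃ₗ[ZMod p] V),
          mul_assoc, mul_assoc])
    have hrange : μ.range = Γ := by
      refine le_antisymm ?_ (sup_le (fun s hs => ⟨(⟨s, hs⟩, 1), mul_one s⟩)
        (fun z hz => ⟨(1, ⟨z, hz⟩), one_mul z⟩))
      rintro _ ⟨⟨s, z⟩, rfl⟩
      exact mul_mem (Subgroup.mem_sup_left s.2) (Subgroup.mem_sup_right z.2)
    exact hrange ▸ solvable_of_surjective μ.rangeRestrict_surjective
  -- transitivity on vectors
  have htrv : ∀ v w : V, v ≠ 0 → w ≠ 0 → ∃ g : Γ, Γ.subtype g v = w := by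
    intro v w hv hw
    obtain ⟨g, hg, hmap⟩ := htr (ZMod p ∙ v) (ZMod p ∙ w)
      ((finrank_span_singleton hv).trans (finrank_span_singleton hw).symm)
    have hgv : g v ∈ (ZMod p ∙ w) := hmap ▸ ⟨v, Submodule.mem_span_singleton_self v, rfl⟩
    obtain ⟨c, hc⟩ := Submodule.mem_span_singleton.1 hgv
    have hc0 : c ≠ 0 := by
      rintro rfl
      rw [zero_smul] at hc
      exact hv (g.map_eq_zero_iff.1 hc.symm)
    refine ⟨⟨LinearEquiv.smulOfUnit (Units.mk0 c hc0)⁻¹ * g,
      mul_mem (Subgroup.mem_sup_right ⟨_, rfl⟩) (Subgroup.mem_sup_left hg)⟩, ?_⟩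
    show ((Units.mk0 c hc0)⁻¹ : (ZMod p)ˣ) • g v = w
    rw [← hc]
    exact inv_smul_smul (Units.mk0 c hc0) w
  have hz : ∀ m : ℕ, 3 ≤ m → ¬ (p = 2 ∧ m = 6) →
      ∃ r : ℕ, r.Prime ∧ r ∣ p ^ m - 1 ∧ ∀ j, 0 < j → j < m → ¬ r ∣ p ^ j - 1 := fun m hm h6 =>
    S2904.result p m hp.out.one_lt (by omega) h6 (by omega)
  -- the action on planes
  letI : MulAction Γ {W : Submodule (ZMod p) V // finrank (ZMod p) W = 2} :=
    { smul := fun g W => ⟨W.1.map ((g : V ≃ₗ[ZMod p] V) : V →ₗ[ZMod p] V),
        (LinearEquiv.finrank_map_eq _ _).trans W.2⟩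
      one_smul := fun W => Subtype.ext (Submodule.map_id W.1)
      mul_smul := fun g h W => Subtype.ext (Submodule.map_comp _ _ W.1) }
  have hN := GeomClasses.SubspaceDerange.card_subspaces (F := ZMod p) (ZMod.card p) (V := V)
    (b := 2) (by omega)
  set N := Nat.card {W : Submodule (ZMod p) V // finrank (ZMod p) W = 2}
  rw [hdim] at hN
  simp only [GeomClasses.SubspaceDerange.qProd, Finset.prod_range_succ, Finset.prod_range_zero,
    Nat.sub_zero, one_mul, show 2 - 1 = 1 from rfl, pow_one] at hN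
  have hdvdN : N * (p - 1) ∣ Nat.card Γ := by
    have hN0 : N ≠ 0 := by
      intro h0
      rw [h0, Nat.zero_mul] at hN
      rcases Nat.mul_eq_zero.1 hN.symm with h | h
      · exact absurd (Nat.one_lt_pow (by omega : n ≠ 0) hp.out.one_lt) (by omega)
      · exact absurd (Nat.one_lt_pow (by omega : n - 1 ≠ 0) hp.out.one_lt) (by omega)
    obtain ⟨W₀⟩ := (Nat.card_pos_iff.1 (Nat.pos_of_ne_zero hN0)).1
    have horb : MulAction.orbit Γ W₀ = Set.univ := by
      refine Set.eq_univ_of_forall fun W => ?_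
      obtain ⟨g, hg, hmap⟩ := htr W₀.1 W.1 (W₀.2.trans W.2.symm)
      exact ⟨⟨g, Subgroup.mem_sup_left hg⟩, Subtype.ext hmap⟩
    have hidx : (MulAction.stabilizer Γ W₀).index = N := by
      rw [MulAction.index_stabilizer, horb, Set.ncard_univ]
    rw [← (MulAction.stabilizer Γ W₀).card_mul_index, hidx, mul_comm]
    refine Nat.mul_dvd_mul_right ?_ N
    have hsc : Nat.card (scalars (p := p) (V := V)) = p - 1 := by
      unfold scalars
      rw [← Nat.card_congr (MonoidHom.ofInjective ?_).toEquiv, Nat.card_units, Nat.card_zmod]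
      intro a b hab
      obtain ⟨v, hv⟩ := exists_ne (0 : V)
      have h := DFunLike.congr_fun hab v
      exact Units.ext (smul_left_injective (ZMod p) hv h)
    rw [← hsc, ← Nat.card_congr (Subgroup.subgroupOfEquivOfLe hZΓ).toEquiv]
    exact Subgroup.card_dvd_of_le fun z hz => Subtype.ext (map_scalar hz W₀.1)
  rcases SmallOrder.TransSolv.main (ρ := Γ.subtype) Γ.subtype_injective htrv hsolΓ hz with
    ⟨F, hFf, hFi, e₀, he₀⟩ | hexc
  · have hcardF : Nat.card F = Nat.card (GaloisField p n) := by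
      rw [GaloisField.card p n (by omega), ← Nat.card_congr e₀.toEquiv,
        natCard_eq_pow_finrank (K := ZMod p) (V := V), Nat.card_zmod, hdim]
    haveI : Fintype (GaloisField p n) := Fintype.ofFinite _
    have hcardF' : Fintype.card F = Fintype.card (GaloisField p n) := by
      rw [← Nat.card_eq_fintype_card, ← Nat.card_eq_fintype_card, hcardF]
    let τ : F ≃+* GaloisField p n := FiniteField.ringEquivOfCardEq hcardF'
    let e : V ≃+ GaloisField p n := e₀.trans τ.toAddEquiv
    have hin : ∀ g ∈ Γ, conjPerm e g ∈ semilinearGroup p n := by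
      intro g hg
      obtain ⟨a, σ, ha⟩ := he₀ ⟨g, hg⟩
      have ha0 : a ≠ 0 := by
        rintro rfl
        obtain ⟨v, hv⟩ := exists_ne (0 : V)
        have h := ha v
        rw [zero_mul] at h
        exact hv (g.map_eq_zero_iff.1 (e₀.map_eq_zero_iff.1 h))
      have hform : ∀ x, conjPerm e g x = τ a * (τ.symm.trans (σ.trans τ)) x + 0 := by
        intro x
        show τ (e₀ (g (e₀.symm (τ.symm x)))) = _
        rw [show e₀ (g (e₀.symm (τ.symm x))) = a * σ (e₀ (e₀.symm (τ.symm x))) from ha _,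
          e₀.apply_symm_apply, map_mul, add_zero]
        rfl
      refine Subgroup.mem_inf.2 ⟨⟨Units.mk0 (τ a) (by simpa using ha0), 0, τ.symm.trans (σ.trans τ), hform⟩, ?_⟩
      show conjPerm e g 0 = 0
      rw [hform 0, map_zero, mul_zero, add_zero]
    have hΓdvd : Nat.card Γ ∣ (p ^ n - 1) * n := by
      rw [← natCard_semilinear (p := p) (n := n) (by omega)]
      exact Subgroup.card_dvd_of_injective
        (((conjPerm e).comp Γ.subtype).codRestrict (semilinearGroup p n) fun g => hin g g.2)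
        (fun a b h => Subtype.ext (conjPerm_injective e (congrArg Subtype.val h)))
    have hres := degree_small hp.out hn hN (hdvdN.trans hΓdvd)
    refine ⟨hres, e, fun g hg => hin g (Subgroup.mem_sup_left hg), ?_, ?_⟩
    all_goals
      intro hp2 hn5
      subst hp2 hn5
      have hΓS : Γ = S := by
        refine sup_eq_left.2 fun z hz => ?_
        obtain ⟨c, rfl⟩ := hz
        have : c = 1 := units_two c
        rw [this, map_one]
        exact one_mem S
      rw [hΓS] at hdvdN
      norm_num at hN hdvdN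
    · obtain h7 : N = 7 := by omega
      exact h7 ▸ hdvdN
    · obtain h155 : N = 155 := by omega
      exact h155 ▸ hdvdN
  · exfalso
    have hV : Nat.card V = p ^ n := by
      rw [natCard_eq_pow_finrank (K := ZMod p) (V := V), Nat.card_zmod, hdim]
    rw [hV] at hexc
    have key : ∀ q k : ℕ, q.Prime → 0 < k → p ^ n = q ^ k → p = q ∧ n = k := by
      intro q k hq hk h
      obtain rfl : p = q := (Nat.prime_dvd_prime_iff_eq hp.out hq).1
        (hp.out.dvd_of_dvd_pow (h ▸ dvd_pow_self p (by omega : n ≠ 0)))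
      exact ⟨rfl, Nat.pow_right_injective hp.out.two_le h⟩
    simp only [Set.mem_insert_iff, Set.mem_singleton_iff] at hexc
    rcases hexc with h | h | h | h | h | h
    · have := (key 3 2 (by norm_num) (by norm_num) h).2; omega
    · have := (key 5 2 (by norm_num) (by norm_num) h).2; omega
    · have := (key 7 2 (by norm_num) (by norm_num) h).2; omega
    · have := (key 11 2 (by norm_num) (by norm_num) h).2; omega
    · have := (key 23 2 (by norm_num) (by norm_num) h).2; omega
    · obtain ⟨rfl, rfl⟩ := key 3 4 (by norm_num) (by norm_num) h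
      norm_num at hN hdvdN
      obtain h130 : N = 130 := by omega
      rw [h130] at hdvdN
      have hd := SmallOrder.TransSolv.dvd_card (ρ := Γ.subtype) htrv
      rw [hdim] at hd
      norm_num at hd
      exact thirteen_five Γ rfl hdim hsolΓ ((by norm_num : 13 ∣ 260).trans hdvdN)
        ((by norm_num : 5 ∣ 80).trans hd)

end Cfsg.Agent.PLocal.CGroupLinear
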