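/-
`S₄`-free solvable groups: the Thompson subgroup centralizes `V`.
-/
import Cfsg.Agent.PLocal.OffenderQuotient
import Cfsg.Agent.FusionZJ.Transvection
import Cfsg.Agent.FusionZJ.LocalSteps

set_option linter.unusedSectionVars false
set_option linter.style.haveILetI false

namespace Cfsg.Agent.PLocal

open Subgroup Cfsg
open scoped commutatorElement

universe u

variable {G : Type u} [Group G] [Finite G]

/-- In an `S₄`-free 2-solvable group `J(G)` centralizes `V` if `O₂(G / C(V)) = 1`. -/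
theorem thompson_le_centralizer_of_s4Free (hS4 : ¬ Involves (Equiv.Perm (Fin 4)) G) (hsep : IsPSolvable 2 G)
    (V : Subgroup G) [V.Normal] (hV : IsElementaryAbelian 2 V)
    (hO : pCore 2 (G ⧸ centralizer (V : Set G)) = ⊥) : thompsonSubgroup 2 G ≤ centralizer (V : Set G) := by
  haveI : Fact (Nat.Prime 2) := ⟨Nat.prime_two⟩
  by_contra hJ
  have hc := offCtx_amb V hsep hV hO
  obtain ⟨B, hB, hTB⟩ : ∃ B, B ≤ ambJ V 2 ∧ IsTrans 2 (ambV V) B := by
    by_contra hcon
    push Not at hcon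
    apply hJ
    have h := le_bot_iff.mp (hc.le_of_gen (ambJ_gen V hV) (K := ⊥) fun B hB _ _ hTB => absurd hTB (hcon B hB))
    exact (ambMap_ker V).le.trans' ((Subgroup.map_eq_bot_iff _).mp h)
  obtain ⟨b, hb, hb1, hzb, hb2⟩ := exists_zpowers_eq_of_card hTB.card
  obtain ⟨u, -, rfl⟩ := hB hb
  refine hS4 (FusionZJ.involves_of_transvection V (fun x hx y hy => comm_of_EA hV hx hy) (isPGroup_of_EA hV) (u := u) ?_ ?_ ?_)
  · rw [← ambMap_ker, MonoidHom.mem_ker, map_pow, hb2]
  · have hmap : (zpowers u).map (ambMap V) = B := by rw [MonoidHom.map_zpowers, hzb]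
    have hcent : centralizer ((zpowers u : Subgroup G) : Set G) = centralizer ({u} : Set G) :=
      le_antisymm (Subgroup.centralizer_le (Set.singleton_subset_iff.mpr (mem_zpowers u)))
        (le_centralizer_iff.mp (zpowers_le.mpr (Subgroup.mem_centralizer_iff.mpr fun x hx =>
          Subgroup.mem_centralizer_singleton_iff.mp hx)))
    have h := hTB.index
    rw [← hmap, card_ambV_inf, card_ambV, hcent] at h
    have h' := Subgroup.card_mul_index ((V ⊓ centralizer ({u} : Set G)).subgroupOf V)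
    rw [Nat.card_congr (Subgroup.subgroupOfEquivOfLe (inf_le_left : V ⊓ centralizer ({u} : Set G) ≤ V)).toEquiv] at h'
    exact (Nat.eq_of_mul_eq_mul_left Nat.card_pos (h'.trans h.symm)).le
  · rw [hO, Subgroup.mem_bot, QuotientGroup.eq_one_iff]
    intro hu
    rw [← ambMap_ker, MonoidHom.mem_ker] at hu
    exact hb1 hu

/-- `S₄`-free solvable groups with Sylow 2-subgroups of class at most 2 and `O(G) = 1`: `J(S)` is normal. -/
theorem thompson_normal_of_class_two (hS4 : ¬ Involves (Equiv.Perm (Fin 4)) G) (hsep : IsPSolvable 2 G)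
    (hO' : pPrimeCore 2 G = ⊥) (S : Sylow 2 G)
    (hcl : ∀ a ∈ (S : Subgroup G), ∀ b ∈ (S : Subgroup G), ∀ c ∈ (S : Subgroup G), ⁅a, b⁆ * c = c * ⁅a, b⁆) :
    normalizer (thompsonSubgroupOf 2 (S : Subgroup G) : Set G) = ⊤ := by
  haveI : Fact (Nat.Prime 2) := ⟨Nat.prime_two⟩
  set Q := pCore 2 G with hQ
  have hQS : Q ≤ (S : Subgroup G) := Core.pCore_le_sylow S
  have hCQ : centralizer (Q : Set G) ≤ Q := Core.centralizer_pCore_le hsep hO'
  have hQp : IsPGroup 2 Q := Core.isPGroup_pCore 2 G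
  set Z := Q ⊓ centralizer (Q : Set G) with hZ
  haveI : Z.Normal := by rw [hZ]; infer_instance
  have hZab : IsMulCommutative Z := le_centralizer_iff_isMulCommutative.mp
    (inf_le_right.trans (Subgroup.centralizer_le inf_le_left))
  set K := sectionKernel Q Z with hK
  haveI : K.Normal := by
    rw [hK, sectionKernel]
    haveI : (Q.map (QuotientGroup.mk' Z)).Normal := Subgroup.Normal.map inferInstance _ (QuotientGroup.mk'_surjective Z)
    infer_instance
  have hmemK : ∀ g, g ∈ K ↔ ∀ q ∈ Q, ⁅q, g⁆ ∈ Z := by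
    intro g
    rw [hK, sectionKernel, Subgroup.mem_comap, Subgroup.mem_centralizer_iff]
    constructor
    · intro h q hq
      rw [← QuotientGroup.eq_one_iff, ← QuotientGroup.mk'_apply, map_commutatorElement,
        commutatorElement_eq_one_iff_mul_comm]
      exact h _ ⟨q, hq, rfl⟩
    · rintro h _ ⟨q, hq, rfl⟩
      rw [← commutatorElement_eq_one_iff_mul_comm, ← map_commutatorElement, QuotientGroup.mk'_apply,
        QuotientGroup.eq_one_iff]
      exact h q hq
  have hSK : (S : Subgroup G) ≤ K := fun s hs => (hmemK s).mpr fun q hq => by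
    refine ⟨?_, Subgroup.mem_centralizer_iff.mpr fun r hr => (hcl q (hQS hq) s hs r (hQS hr)).symm⟩
    show ⁅q, s⁆ ∈ Q
    rw [show ⁅q, s⁆ = q * (s * q⁻¹ * s⁻¹) by simp only [commutatorElement_def]; group]
    exact mul_mem hq (Subgroup.Normal.conj_mem inferInstance _ (inv_mem hq) s)
  -- `Ω₁(Z(Q))`
  set V := omegaOne 2 Z with hV
  haveI : V.Normal := by
    refine ⟨fun x hx g => ?_⟩
    have hle : V.map (MulAut.conj g).toMonoidHom ≤ V := by
      rw [hV, omegaOne, MonoidHom.map_closure]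
      refine (Subgroup.closure_le _).mpr ?_
      rintro _ ⟨y, ⟨hy, hy2⟩, rfl⟩
      exact Subgroup.subset_closure ⟨Subgroup.Normal.conj_mem inferInstance y hy g, by
        rw [← map_pow, hy2, map_one]⟩
    exact hle ⟨x, hx, rfl⟩
  have hVE : IsElementaryAbelian 2 V :=
    isEA_closure (fun x hx y hy => congrArg Subtype.val (hZab.is_comm.comm (⟨x, hx.1⟩ : Z) ⟨y, hy.1⟩))
      fun x hx => hx.2
  have hQV : Q ≤ centralizer (V : Set G) :=
    le_centralizer_iff.mp (((Subgroup.closure_le _).mpr fun x hx => hx.1).trans inf_le_right)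
  -- odd elements of `K ⊓ C(V)` are trivial
  have hKV : IsPGroup 2 (K ⊓ centralizer (V : Set G) : Subgroup G) := by
    intro g
    obtain ⟨k, m, hm, hord⟩ : ∃ k m, ¬ 2 ∣ m ∧ orderOf (g : G) = 2 ^ k * m :=
      Nat.exists_eq_pow_mul_and_not_dvd (orderOf_pos (g : G)).ne' 2 (by norm_num)
    refine ⟨k, Subtype.ext ?_⟩
    rw [SubmonoidClass.coe_pow, OneMemClass.coe_one]
    set x := (g : G) ^ 2 ^ k with hx
    have hxm : x ∈ K ⊓ centralizer (V : Set G) := pow_mem g.2 _
    have hxo : orderOf x = m := by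
      rw [hx, orderOf_pow' _ (by positivity), hord, Nat.gcd_eq_right (Dvd.intro m rfl),
        Nat.mul_div_cancel_left _ (by positivity)]
    have hcop : ∀ {T : Subgroup G}, IsPGroup 2 T → (Nat.card (zpowers x)).Coprime (Nat.card T) := by
      intro T hT
      obtain ⟨j, hj⟩ := IsPGroup.iff_card.mp hT
      rw [hj, Nat.card_zpowers, hxo]
      exact ((Nat.prime_two.coprime_iff_not_dvd.mpr hm).symm).pow_right j
    have hnorm : ∀ T : Subgroup G, T.Normal → zpowers x ≤ normalizer (T : Set G) := fun T _ => by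
      rw [Subgroup.normalizer_eq_top]; exact le_top
    haveI : Group.IsSolvable (zpowers x) := inferInstance
    have hZp : IsPGroup 2 Z := hQp.to_le inf_le_left
    have hZx : ⁅Z, zpowers x⁆ = ⊥ := by
      by_contra hne
      obtain ⟨z, hz, hz1⟩ := (⁅Z, zpowers x⁆).bot_or_exists_ne_one.resolve_left hne
      have hzZ : z ∈ Z := Coprime.commutator_le_of_le_normalizer (hnorm Z inferInstance) hz
      obtain ⟨j, hj⟩ := IsPGroup.iff_card.mp hZp
      obtain ⟨i, -, hi⟩ := (Nat.dvd_prime_pow Nat.prime_two).mp (hj ▸ Subgroup.orderOf_dvd_natCard _ hzZ)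
      have hi0 : i ≠ 0 := fun e => hz1 (orderOf_eq_one_iff.mp (by rw [hi, e, pow_zero]))
      set w := z ^ 2 ^ (i - 1) with hw
      have hw2 : w ^ 2 = 1 := by
        rw [hw, ← pow_mul, ← pow_succ, Nat.sub_add_cancel (by omega), ← hi, pow_orderOf_eq_one]
      have hw1 : w ≠ 1 := fun e => by
        have h := Nat.le_of_dvd (by positivity) (orderOf_dvd_of_pow_eq_one (show z ^ 2 ^ (i - 1) = 1 from e))
        rw [hi] at h
        exact absurd h (not_le.mpr (Nat.pow_lt_pow_right (by norm_num) (by omega)))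
      have hwV : w ∈ V := Subgroup.subset_closure ⟨pow_mem hzZ _, hw2⟩
      refine hw1 (Subgroup.mem_bot.mp ((Coprime.commutator_inf_centralizer_eq_bot (hnorm Z inferInstance) hZab
        (hcop hZp)).le ⟨pow_mem hz _, Subgroup.mem_centralizer_iff.mpr ?_⟩))
      rintro _ ⟨n, rfl⟩
      exact ((show Commute x w from (Subgroup.mem_centralizer_iff.mp hxm.2 w hwV).symm).zpow_left n).eq
    have hQx : ⁅Q, zpowers x⁆ = ⊥ := by
      refine Coprime.commutator_eq_bot_of_chain (hnorm Q inferInstance) (hcop hQp) (M := Z) ?_ hZx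
      rw [Subgroup.commutator_le]
      intro q hq y hy
      have hyK : y ∈ K := (zpowers_le.mpr (show x ∈ K from hxm.1)) hy
      exact (hmemK y).mp hyK q hq
    have hxQ : x ∈ Q := hCQ (le_centralizer_iff.mp (Subgroup.commutator_eq_bot_iff_le_centralizer.mp hQx) (mem_zpowers x))
    obtain ⟨j, hj⟩ := IsPGroup.iff_card.mp hQp
    exact orderOf_eq_one_iff.mp (Nat.eq_one_of_dvd_coprimes ((Nat.prime_two.coprime_iff_not_dvd.mpr hm).pow_left j)
      (hj ▸ Subgroup.orderOf_dvd_natCard _ hxQ) hxo.dvd)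
  have hKVQ : K ⊓ centralizer (V : Set G) ≤ Q := Core.le_pCore inferInstance hKV
  -- `O₂(G / C(V)) = 1`
  have hbot : pCore 2 (G ⧸ centralizer (V : Set G)) = ⊥ := by
    set C := centralizer (V : Set G) with hC
    set D := (pCore 2 (G ⧸ C)).comap (QuotientGroup.mk' C) with hD
    haveI : D.Normal := Subgroup.Normal.comap inferInstance _
    have hDK : IsPGroup 2 (D ⊓ K : Subgroup G) := by
      intro g
      have hgD : (QuotientGroup.mk (g : G) : G ⧸ C) ∈ pCore 2 (G ⧸ C) := g.2.1
      obtain ⟨k, hk⟩ := Core.isPGroup_pCore 2 (G ⧸ C) ⟨_, hgD⟩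
      have hk' : ((g : G) ^ 2 ^ k) ∈ K ⊓ C := ⟨pow_mem g.2.2 _, by
        show (g : G) ^ 2 ^ k ∈ C
        rw [← QuotientGroup.eq_one_iff, QuotientGroup.mk_pow]
        exact congrArg Subtype.val hk⟩
      obtain ⟨l, hl⟩ := hKV ⟨_, hk'⟩
      refine ⟨k + l, Subtype.ext ?_⟩
      rw [SubmonoidClass.coe_pow, OneMemClass.coe_one, pow_add, pow_mul]
      exact congrArg Subtype.val hl
    have hDKC : D ⊓ K ≤ C := (Core.le_pCore inferInstance hDK).trans hQV
    rw [eq_bot_iff]
    intro y hy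
    obtain ⟨x, rfl⟩ := QuotientGroup.mk'_surjective C y
    obtain ⟨t, ht, c, hc, rfl⟩ := exists_mul_sylow S (C := C) hD (x := x) hy
    have htD : t ∈ D := by
      show QuotientGroup.mk' C t ∈ pCore 2 (G ⧸ C)
      rwa [map_mul, QuotientGroup.mk'_apply C c, (QuotientGroup.eq_one_iff c).mpr hc, mul_one] at hy
    rw [Subgroup.mem_bot, QuotientGroup.mk'_apply, QuotientGroup.eq_one_iff]
    exact mul_mem (hDKC ⟨htD, hSK ht⟩) hc
  have hJC := thompson_le_centralizer_of_s4Free hS4 hsep V hVE hbot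
  have hJG : thompsonSubgroupOf 2 (S : Subgroup G) ≤ thompsonSubgroup 2 G := thompsonSubgroupOf_le fun B hB => by
    obtain ⟨g, hg⟩ := exists_conj_le_sylow (isPGroup_of_EA hB) S
    exact ⟨_, isEA_map hB _, hg, (Subgroup.card_map_of_injective (MulAut.conj g).injective).ge⟩
  have hJQ : thompsonSubgroupOf 2 (S : Subgroup G) ≤ Q := fun g hg =>
    hKVQ ⟨hSK (Subgroup.map_subtype_le _ hg), hJC (hJG hg)⟩
  rw [eq_top_iff, ← centralizer_sup_normalizer_thompson S Q hJQ]
  refine sup_le (hQS.trans fun s hs => ?_) le_rfl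
  rw [Subgroup.mem_normalizer_iff_map_conj_eq]
  show (thompsonSubgroupOf 2 (S : Subgroup G)).map (MulAut.conj s).toMonoidHom = _
  have h : (S : Subgroup G).map (MulAut.conj s).toMonoidHom = _ :=
    Subgroup.mem_normalizer_iff_map_conj_eq.mp (Subgroup.le_normalizer hs)
  rw [Core.ThompsonComplement.thompsonSubgroupOf_map _ (MulAut.conj s).injective.injOn, h]

end Cfsg.Agent.PLocal
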