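/-
`S₄`-free constrained groups with Sylow 2-subgroups of class at most two, without a solvability hypothesis.
-/
import Cfsg.Agent.PLocal.S4Free
import Cfsg.Agent.PLocal.QuadraticOffender

set_option linter.unusedSectionVars false
set_option linter.style.haveILetI false

namespace Cfsg.Agent.PLocal

open Subgroup Cfsg
open scoped commutatorElement

universe u

variable {G : Type u} [Group G] [Finite G]

/-- In an `S₄`-free group with Sylow 2-subgroups of class at most two, `J(G)` centralizes a normal elementary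
abelian 2-subgroup `V` with `O₂(G / C(V)) = 1`. -/
theorem thompson_le_centralizer_of_class_two (hS4 : ¬ Involves (Equiv.Perm (Fin 4)) G)
    (V : Subgroup G) [V.Normal] (hV : IsElementaryAbelian 2 V)
    (hO : pCore 2 (G ⧸ centralizer (V : Set G)) = ⊥) (S : Sylow 2 G) (hVS : V ≤ (S : Subgroup G))
    (hcl : ∀ a ∈ (S : Subgroup G), ∀ b ∈ (S : Subgroup G), ∀ c ∈ (S : Subgroup G), ⁅a, b⁆ * c = c * ⁅a, b⁆) :
    thompsonSubgroup 2 G ≤ centralizer (V : Set G) := by
  haveI : Fact (Nat.Prime 2) := ⟨Nat.prime_two⟩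
  set C := centralizer (V : Set G) with hC
  have hker : (ambMap V).ker = C := ambMap_ker V
  have hlift : ∀ P : Subgroup (Amb V), P ≤ (ambMap V).range → IsPGroup 2 P →
      ∃ γ : G, ∀ x ∈ P, ∃ σ ∈ (S : Subgroup G), x = ambMap V (γ⁻¹ * σ * γ) := by
    intro P hP hP2
    have hinj : Function.Injective (SemidirectProduct.inr : G ⧸ C →* Amb V) := SemidirectProduct.inr_injective
    obtain ⟨q, hq⟩ := exists_conj_le_sylow (hP2.comap_of_injective _ hinj)
      (S.mapSurjective (QuotientGroup.mk'_surjective C))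
    obtain ⟨γ, rfl⟩ := QuotientGroup.mk'_surjective C q
    refine ⟨γ, fun x hx => ?_⟩
    obtain ⟨g, rfl⟩ := hP hx
    have := hq (Subgroup.mem_map_of_mem _ (show QuotientGroup.mk' C g ∈ P.comap _ from hx))
    rw [Sylow.coe_mapSurjective] at this
    obtain ⟨σ, hσ, hσe⟩ := this
    refine ⟨σ, hσ, ?_⟩
    show SemidirectProduct.inr (QuotientGroup.mk' C g) = SemidirectProduct.inr (QuotientGroup.mk' C (γ⁻¹ * σ * γ))
    refine congrArg _ ?_
    rw [map_mul, map_mul, map_inv, hσe]
    simp only [MulEquiv.coe_toMonoidHom, MulAut.conj_apply]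
    group
  have hq : QuadSylow (ambV V) (ambMap V).range := by
    refine ⟨fun u hu v hv => comm_of_EA (ambV_EA V hV) hu hv, fun v hv => by rw [← pow_two]; exact (ambV_EA V hV).2 v hv,
      range_le_normalizer V, fun y hy h => ?_, fun P hP hP2 x hx y hy => ?_, fun P hP hP2 x hx y hy v hv => ?_⟩
    · exact Subgroup.mem_bot.mp ((range_inf_centralizer V).le
        ⟨hy, Subgroup.mem_centralizer_iff.mpr fun v hv => (h v hv).symm⟩)
    · obtain ⟨γ, hγ⟩ := hlift P hP hP2
      obtain ⟨σ, hσ, rfl⟩ := hγ x hx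
      obtain ⟨τ, hτ, rfl⟩ := hγ y hy
      have h : ⁅σ, τ⁆ ∈ C := Subgroup.mem_centralizer_iff.mpr fun v hv => (hcl σ hσ τ hτ v (hVS hv)).symm
      rw [← commutatorElement_eq_one_iff_mul_comm, ← map_commutatorElement, ← MonoidHom.mem_ker, hker,
        show ⁅γ⁻¹ * σ * γ, γ⁻¹ * τ * γ⁆ = γ⁻¹ * ⁅σ, τ⁆ * (γ⁻¹)⁻¹ by simp only [commutatorElement_def]; group]
      exact (inferInstance : (centralizer (V : Set G)).Normal).conj_mem _ h _
    · obtain ⟨γ, hγ⟩ := hlift P hP hP2
      obtain ⟨σ, hσ, rfl⟩ := hγ x hx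
      obtain ⟨τ, hτ, rfl⟩ := hγ y hy
      obtain ⟨v, rfl⟩ := hv
      set v' : V := MulAut.conjNormal γ v with hv'
      have h1 : ⁅γ⁻¹ * σ * γ, (v : G)⁆ = γ⁻¹ * ⁅σ, (v' : G)⁆ * γ := by
        rw [hv', MulAut.conjNormal_apply]; simp only [commutatorElement_def]; group
      have e : ⁅ambMap V (γ⁻¹ * σ * γ), (SemidirectProduct.inl v : Amb V)⁆ =
          SemidirectProduct.inl ⟨⁅γ⁻¹ * σ * γ, (v : G)⁆, by
            rw [commutatorElement_def]
            exact mul_mem (Subgroup.Normal.conj_mem inferInstance _ v.2 _) (inv_mem v.2)⟩ := by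
        rw [commutatorElement_def, ambMap_conj, ← map_inv, ← map_mul]
        exact congrArg _ (Subtype.ext (by simp [commutatorElement_def]; group))
      rw [e, ambMap_commute_iff]
      show γ⁻¹ * τ * γ * ⁅γ⁻¹ * σ * γ, (v : G)⁆ = ⁅γ⁻¹ * σ * γ, (v : G)⁆ * (γ⁻¹ * τ * γ)
      have h2 := hcl σ hσ _ (hVS v'.2) τ hτ
      rw [h1]
      calc γ⁻¹ * τ * γ * (γ⁻¹ * ⁅σ, (v' : G)⁆ * γ) = γ⁻¹ * (τ * ⁅σ, (v' : G)⁆) * γ := by group
        _ = γ⁻¹ * (⁅σ, (v' : G)⁆ * τ) * γ := by rw [h2]
        _ = _ := by group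
  by_contra hJ
  obtain ⟨B, hB, hBC⟩ : ∃ B ∈ maxElementaryAbelianSubgroups 2 G, ¬ B ≤ C := by
    by_contra h
    push Not at h
    exact hJ (sSup_le h)
  have hoff := (offender_map V (isBestOffenderOn_of_maxEA hV hB)).1 ⊥ bot_le
  rw [Subgroup.card_bot, one_mul] at hoff
  have hall : ambV V ⊓ centralizer ((⊥ : Subgroup (Amb V)) : Set (Amb V)) = ambV V := inf_eq_left.mpr fun x _ =>
    Subgroup.mem_centralizer_iff.mpr fun y hy => by rw [Subgroup.mem_bot.mp hy, one_mul, mul_one]
  rw [hall] at hoff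
  obtain ⟨a, ha, b, hb, r, hr, s, hs, hr1, hs1, e1, e2, e3, e4⟩ := hq.exists_four_group
    (A₁ := B.map (ambMap V)) (Subgroup.map_le_range _ _) ((isPGroup_of_EA hB.1).map _)
    (fun h => hBC (((Subgroup.map_eq_bot_iff B).mp h).trans hker.le)) hoff
    (fun N hN hN2 hNn => by
      have hinj : Function.Injective (SemidirectProduct.inr : G ⧸ C →* Amb V) := SemidirectProduct.inr_injective
      haveI : (N.comap (SemidirectProduct.inr : G ⧸ C →* Amb V)).Normal := ⟨fun x hx q => by
        obtain ⟨g, rfl⟩ := QuotientGroup.mk'_surjective C q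
        rw [Subgroup.mem_comap, map_mul, map_mul, map_inv]
        exact (Subgroup.mem_normalizer_iff.mp (hNn ⟨g, rfl⟩) _).mp hx⟩
      have h := Core.le_pCore (p := 2) (N := N.comap (SemidirectProduct.inr : G ⧸ C →* Amb V)) inferInstance
        (hN2.comap_of_injective _ hinj)
      rw [hO, le_bot_iff] at h
      rw [eq_bot_iff]
      intro x hx
      obtain ⟨g, rfl⟩ := hN hx
      have := h.le (show QuotientGroup.mk' C g ∈ N.comap _ from hx)
      rw [Subgroup.mem_bot] at this ⊢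
      simp only [ambMap, MonoidHom.comp_apply]
      rw [this, map_one])
  obtain ⟨g, rfl⟩ := ha
  obtain ⟨k, rfl⟩ := hb
  obtain ⟨r, rfl⟩ := hr
  obtain ⟨s, rfl⟩ := hs
  rw [ambMap_conj, SemidirectProduct.inl_inj] at e1 e3
  rw [ambMap_conj, ← map_mul, SemidirectProduct.inl_inj] at e2 e4
  refine hS4 (FusionZJ.involves_of_four_group (r := (r : G)) (s := (s : G)) (u := g) (w := k)
    (comm_of_EA hV r.2 s.2) (by rw [← pow_two]; exact hV.2 r r.2) (by rw [← pow_two]; exact hV.2 s s.2)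
    (fun h => hr1 (by rw [show r = 1 from Subtype.ext h, map_one]))
    (fun h => hs1 (by rw [show s = 1 from Subtype.ext h, map_one])) ?_ ?_ ?_ ?_)
  · exact congrArg Subtype.val e1
  · exact congrArg Subtype.val e2
  · exact congrArg Subtype.val e3
  · exact congrArg Subtype.val e4

/-- `S₄`-free constrained groups with Sylow 2-subgroups of class at most 2 and `O(G) = 1`: `J(S)` is normal. -/
theorem thompson_normal_of_class_two_constrained (hS4 : ¬ Involves (Equiv.Perm (Fin 4)) G) (hCQ : centralizer (pCore 2 G : Set G) ≤ pCore 2 G) (S : Sylow 2 G)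
    (hcl : ∀ a ∈ (S : Subgroup G), ∀ b ∈ (S : Subgroup G), ∀ c ∈ (S : Subgroup G), ⁅a, b⁆ * c = c * ⁅a, b⁆) :
    normalizer (thompsonSubgroupOf 2 (S : Subgroup G) : Set G) = ⊤ := by
  haveI : Fact (Nat.Prime 2) := ⟨Nat.prime_two⟩
  set Q := pCore 2 G with hQ
  have hQS : Q ≤ (S : Subgroup G) := Core.pCore_le_sylow S
  have hQp : IsPGroup 2 Q := Core.isPGroup_pCore 2 G
  set Z := Q ⊓ centralizer (Q : Set G) with hZ
  haveI : Z.Normal := by rw [hZ]; infer_instance
  have hZab : IsMulCommutative Z := le_centralizer_iff_isMulCommutative.mp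
    (inf_le_right.trans (Subgroup.centralizer_le inf_le_left))
  set K := sectionKernel Q Z with hK
  haveI : K.Normal := by
    rw [hK, sectionKernel]
    haveI : (Q.map (QuotientGroup.mk' Z)).Normal := Subgroup.Normal.map inferInstance _ (QuotientGroup.mk'_surjective Z)
    infer_instance
  have hmemK : ∀ g, g ∈ K ↔ ∀ q ∈ Q, ⁅q, g⁆ ∈ Z := by
    intro g
    rw [hK, sectionKernel, Subgroup.mem_comap, Subgroup.mem_centralizer_iff]
    constructor
    · intro h q hq
      rw [← QuotientGroup.eq_one_iff, ← QuotientGroup.mk'_apply, map_commutatorElement,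
        commutatorElement_eq_one_iff_mul_comm]
      exact h _ ⟨q, hq, rfl⟩
    · rintro h _ ⟨q, hq, rfl⟩
      rw [← commutatorElement_eq_one_iff_mul_comm, ← map_commutatorElement, QuotientGroup.mk'_apply,
        QuotientGroup.eq_one_iff]
      exact h q hq
  have hSK : (S : Subgroup G) ≤ K := fun s hs => (hmemK s).mpr fun q hq => by
    refine ⟨?_, Subgroup.mem_centralizer_iff.mpr fun r hr => (hcl q (hQS hq) s hs r (hQS hr)).symm⟩
    show ⁅q, s⁆ ∈ Q
    rw [show ⁅q, s⁆ = q * (s * q⁻¹ * s⁻¹) by simp only [commutatorElement_def]; group]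
    exact mul_mem hq (Subgroup.Normal.conj_mem inferInstance _ (inv_mem hq) s)
  -- `Ω₁(Z(Q))`
  set V := omegaOne 2 Z with hV
  haveI : V.Normal := by
    refine ⟨fun x hx g => ?_⟩
    have hle : V.map (MulAut.conj g).toMonoidHom ≤ V := by
      rw [hV, omegaOne, MonoidHom.map_closure]
      refine (Subgroup.closure_le _).mpr ?_
      rintro _ ⟨y, ⟨hy, hy2⟩, rfl⟩
      exact Subgroup.subset_closure ⟨Subgroup.Normal.conj_mem inferInstance y hy g, by
        rw [← map_pow, hy2, map_one]⟩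
    exact hle ⟨x, hx, rfl⟩
  have hVE : IsElementaryAbelian 2 V :=
    isEA_closure (fun x hx y hy => congrArg Subtype.val (hZab.is_comm.comm (⟨x, hx.1⟩ : Z) ⟨y, hy.1⟩))
      fun x hx => hx.2
  have hQV : Q ≤ centralizer (V : Set G) :=
    le_centralizer_iff.mp (((Subgroup.closure_le _).mpr fun x hx => hx.1).trans inf_le_right)
  -- odd elements of `K ⊓ C(V)` are trivial
  have hKV : IsPGroup 2 (K ⊓ centralizer (V : Set G) : Subgroup G) := by
    intro g
    obtain ⟨k, m, hm, hord⟩ : ∃ k m, ¬ 2 ∣ m ∧ orderOf (g : G) = 2 ^ k * m :=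
      Nat.exists_eq_pow_mul_and_not_dvd (orderOf_pos (g : G)).ne' 2 (by norm_num)
    refine ⟨k, Subtype.ext ?_⟩
    rw [SubmonoidClass.coe_pow, OneMemClass.coe_one]
    set x := (g : G) ^ 2 ^ k with hx
    have hxm : x ∈ K ⊓ centralizer (V : Set G) := pow_mem g.2 _
    have hxo : orderOf x = m := by
      rw [hx, orderOf_pow' _ (by positivity), hord, Nat.gcd_eq_right (Dvd.intro m rfl),
        Nat.mul_div_cancel_left _ (by positivity)]
    have hcop : ∀ {T : Subgroup G}, IsPGroup 2 T → (Nat.card (zpowers x)).Coprime (Nat.card T) := by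
      intro T hT
      obtain ⟨j, hj⟩ := IsPGroup.iff_card.mp hT
      rw [hj, Nat.card_zpowers, hxo]
      exact ((Nat.prime_two.coprime_iff_not_dvd.mpr hm).symm).pow_right j
    have hnorm : ∀ T : Subgroup G, T.Normal → zpowers x ≤ normalizer (T : Set G) := fun T _ => by
      rw [Subgroup.normalizer_eq_top]; exact le_top
    haveI : Group.IsSolvable (zpowers x) := inferInstance
    have hZp : IsPGroup 2 Z := hQp.to_le inf_le_left
    have hZx : ⁅Z, zpowers x⁆ = ⊥ := by
      by_contra hne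
      obtain ⟨z, hz, hz1⟩ := (⁅Z, zpowers x⁆).bot_or_exists_ne_one.resolve_left hne
      have hzZ : z ∈ Z := Coprime.commutator_le_of_le_normalizer (hnorm Z inferInstance) hz
      obtain ⟨j, hj⟩ := IsPGroup.iff_card.mp hZp
      obtain ⟨i, -, hi⟩ := (Nat.dvd_prime_pow Nat.prime_two).mp (hj ▸ Subgroup.orderOf_dvd_natCard _ hzZ)
      have hi0 : i ≠ 0 := fun e => hz1 (orderOf_eq_one_iff.mp (by rw [hi, e, pow_zero]))
      set w := z ^ 2 ^ (i - 1) with hw
      have hw2 : w ^ 2 = 1 := by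
        rw [hw, ← pow_mul, ← pow_succ, Nat.sub_add_cancel (by omega), ← hi, pow_orderOf_eq_one]
      have hw1 : w ≠ 1 := fun e => by
        have h := Nat.le_of_dvd (by positivity) (orderOf_dvd_of_pow_eq_one (show z ^ 2 ^ (i - 1) = 1 from e))
        rw [hi] at h
        exact absurd h (not_le.mpr (Nat.pow_lt_pow_right (by norm_num) (by omega)))
      have hwV : w ∈ V := Subgroup.subset_closure ⟨pow_mem hzZ _, hw2⟩
      refine hw1 (Subgroup.mem_bot.mp ((Coprime.commutator_inf_centralizer_eq_bot (hnorm Z inferInstance) hZab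
        (hcop hZp)).le ⟨pow_mem hz _, Subgroup.mem_centralizer_iff.mpr ?_⟩))
      rintro _ ⟨n, rfl⟩
      exact ((show Commute x w from (Subgroup.mem_centralizer_iff.mp hxm.2 w hwV).symm).zpow_left n).eq
    have hQx : ⁅Q, zpowers x⁆ = ⊥ := by
      refine Coprime.commutator_eq_bot_of_chain (hnorm Q inferInstance) (hcop hQp) (M := Z) ?_ hZx
      rw [Subgroup.commutator_le]
      intro q hq y hy
      have hyK : y ∈ K := (zpowers_le.mpr (show x ∈ K from hxm.1)) hy
      exact (hmemK y).mp hyK q hq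
    have hxQ : x ∈ Q := hCQ (le_centralizer_iff.mp (Subgroup.commutator_eq_bot_iff_le_centralizer.mp hQx) (mem_zpowers x))
    obtain ⟨j, hj⟩ := IsPGroup.iff_card.mp hQp
    exact orderOf_eq_one_iff.mp (Nat.eq_one_of_dvd_coprimes ((Nat.prime_two.coprime_iff_not_dvd.mpr hm).pow_left j)
      (hj ▸ Subgroup.orderOf_dvd_natCard _ hxQ) hxo.dvd)
  have hKVQ : K ⊓ centralizer (V : Set G) ≤ Q := Core.le_pCore inferInstance hKV
  -- `O₂(G / C(V)) = 1`
  have hbot : pCore 2 (G ⧸ centralizer (V : Set G)) = ⊥ := by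
    set C := centralizer (V : Set G) with hC
    set D := (pCore 2 (G ⧸ C)).comap (QuotientGroup.mk' C) with hD
    haveI : D.Normal := Subgroup.Normal.comap inferInstance _
    have hDK : IsPGroup 2 (D ⊓ K : Subgroup G) := by
      intro g
      have hgD : (QuotientGroup.mk (g : G) : G ⧸ C) ∈ pCore 2 (G ⧸ C) := g.2.1
      obtain ⟨k, hk⟩ := Core.isPGroup_pCore 2 (G ⧸ C) ⟨_, hgD⟩
      have hk' : ((g : G) ^ 2 ^ k) ∈ K ⊓ C := ⟨pow_mem g.2.2 _, by
        show (g : G) ^ 2 ^ k ∈ C
        rw [← QuotientGroup.eq_one_iff, QuotientGroup.mk_pow]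
        exact congrArg Subtype.val hk⟩
      obtain ⟨l, hl⟩ := hKV ⟨_, hk'⟩
      refine ⟨k + l, Subtype.ext ?_⟩
      rw [SubmonoidClass.coe_pow, OneMemClass.coe_one, pow_add, pow_mul]
      exact congrArg Subtype.val hl
    have hDKC : D ⊓ K ≤ C := (Core.le_pCore inferInstance hDK).trans hQV
    rw [eq_bot_iff]
    intro y hy
    obtain ⟨x, rfl⟩ := QuotientGroup.mk'_surjective C y
    obtain ⟨t, ht, c, hc, rfl⟩ := exists_mul_sylow S (C := C) hD (x := x) hy
    have htD : t ∈ D := by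
      show QuotientGroup.mk' C t ∈ pCore 2 (G ⧸ C)
      rwa [map_mul, QuotientGroup.mk'_apply C c, (QuotientGroup.eq_one_iff c).mpr hc, mul_one] at hy
    rw [Subgroup.mem_bot, QuotientGroup.mk'_apply, QuotientGroup.eq_one_iff]
    exact mul_mem (hDKC ⟨htD, hSK ht⟩) hc
  have hJC := thompson_le_centralizer_of_class_two hS4 V hVE hbot S
    ((((Subgroup.closure_le _).mpr fun x hx => hx.1) : V ≤ Z).trans (inf_le_left.trans hQS)) hcl
  have hJG : thompsonSubgroupOf 2 (S : Subgroup G) ≤ thompsonSubgroup 2 G := thompsonSubgroupOf_le fun B hB => by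
    obtain ⟨g, hg⟩ := exists_conj_le_sylow (isPGroup_of_EA hB) S
    exact ⟨_, isEA_map hB _, hg, (Subgroup.card_map_of_injective (MulAut.conj g).injective).ge⟩
  have hJQ : thompsonSubgroupOf 2 (S : Subgroup G) ≤ Q := fun g hg =>
    hKVQ ⟨hSK (Subgroup.map_subtype_le _ hg), hJC (hJG hg)⟩
  rw [eq_top_iff, ← centralizer_sup_normalizer_thompson S Q hJQ]
  refine sup_le (hQS.trans fun s hs => ?_) le_rfl
  rw [Subgroup.mem_normalizer_iff_map_conj_eq]
  show (thompsonSubgroupOf 2 (S : Subgroup G)).map (MulAut.conj s).toMonoidHom = _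
  have h : (S : Subgroup G).map (MulAut.conj s).toMonoidHom = _ :=
    Subgroup.mem_normalizer_iff_map_conj_eq.mp (Subgroup.le_normalizer hs)
  rw [Core.ThompsonComplement.thompsonSubgroupOf_map _ (MulAut.conj s).injective.injOn, h]

end Cfsg.Agent.PLocal
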