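/-
A functor controlling transfer in the constrained groups of a class closed under sections controls transfer
in the saturated systems whose local models lie in that class.
-/
import Cfsg.Agent.FusionZJ.TransferControl
import Cfsg.Agent.FusionZJ.LocalGood
import Cfsg.Agent.FusionZJ.Extend

set_option autoImplicit false
set_option linter.style.haveILetI false
set_option maxHeartbeats 1000000

namespace Cfsg.Agent.PLocal

open Cfsg Cfsg.FusionSystem Cfsg.Agent Cfsg.Agent.Fusion Cfsg.Agent.FusionZJ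
open scoped Pointwise commutatorElement

universe u

variable {p : ℕ} [Fact p.Prime]

variable {W : ∀ (Q : Type u) [Group Q], Subgroup Q}
  (hW1 : ∀ (Q : Type u) [Group Q] [Finite Q], IsPGroup p Q → Nontrivial Q → W Q ≠ ⊥)
  (hW2 : ∀ (Q R : Type u) [Group Q] [Group R] [Finite Q], IsPGroup p Q → ∀ φ : Q ≃* R,
    (W Q).map φ.toMonoidHom = W R)
  {Good : ∀ (L : Type u) [Group L], Prop}
  (hsub : ∀ (L M : Type u) [Group L] [Group M] (f : M →* L), Function.Injective f → Good L → Good M)
  (hquot : ∀ (L M : Type u) [Group L] [Group M] (f : L →* M), Function.Surjective f → Good L → Good M)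
  (hT : ∀ (G : Type u) [Group G] [Finite G], Good G → ∀ (P : Sylow p G),
    Subgroup.centralizer ((pCore p G : Subgroup G) : Set G) ≤ pCore p G →
    pCore p G ⊓ commutator G = pCore p G ⊓
      (commutator ↥(Subgroup.normalizer ((wOf W (P : Subgroup G) : Subgroup G) : Set G))).map
        (Subgroup.normalizer ((wOf W (P : Subgroup G) : Subgroup G) : Set G)).subtype)

include hW1 hW2 hsub hquot hT in
/-- The focal elements are generated by those of the maps stabilizing the functor value. -/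
theorem focal_le_of_stab_good :
    ∀ (n m : ℕ) (Ω : Type u) [Group Ω] (S : Subgroup Ω) [Finite S], IsPGroup p S →
      ∀ F : FusionSystem S, F.IsSaturated p → Nat.card S = n → autCount F = m →
      HasGood Good F p ⊥ → ∀ D₀ : Subgroup Ω,
      (∀ P f, Mor F P f → wOf W S ≤ P → (∀ x ∈ wOf W S, f x ∈ wOf W S) →
        ∀ x ∈ P, x⁻¹ * f x ∈ D₀) →
      ∀ P f, Mor F P f → ∀ x ∈ P, x⁻¹ * f x ∈ D₀ := by
  intro n
  induction n using Nat.strong_induction_on with
  | _ n IH =>
  intro m
  induction m using Nat.strong_induction_on with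
  | _ m IHm =>
  intro Ω _ S _ hS F hF hcard hcount hgood D₀ hstab₀
  have hWS : wOf W S ≤ S := wOf_le W S
  have hWn : S ≤ Subgroup.normalizer (wOf W S : Set Ω) := fun s hs =>
    normalizerIn_le_wOf hS hW2 le_rfl ⟨hs, Subgroup.le_normalizer hs⟩
  set D := D₀ ⊓ F.focalSubgroup with hD
  have hDS : D ≤ S := inf_le_right.trans (focal_le F)
  have hstab : ∀ P f, Mor F P f → wOf W S ≤ P → (∀ x ∈ wOf W S, f x ∈ wOf W S) →
      ∀ x ∈ P, x⁻¹ * f x ∈ D := fun P f hf h1 h2 x hx =>
    ⟨hstab₀ P f hf h1 h2 x hx, mem_focal_gen hf hx⟩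
  suffices hgoal : ∀ P f, Mor F P f → ∀ x ∈ P, x⁻¹ * f x ∈ D from
    fun P f hf x hx => (hgoal P f hf x hx).1
  have hconjS : ∀ s ∈ S, ∀ x ∈ S, x⁻¹ * cj s x ∈ D := fun s hs x hx =>
    hstab S (cj s) (Mor.conj le_rfl hs) hWS (fun y hy => (cj_mem_iff (hWn hs) y).mpr hy) x hx
  set C : Subgroup Ω → (Ω → Ω) → Prop := fun P f => ∀ x ∈ P, x⁻¹ * f x ∈ D with hCdef
  have hC : Closed F C := by
    refine ⟨fun hP hs x hx => hconjS _ hs x (hP hx), fun _ e h x hx => e x hx ▸ h x hx, ?_, ?_⟩
    · intro P Q f g _ _ m cf cg x hx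
      have := D.mul_mem (cf x hx) (cg (f x) (m x hx))
      simpa [mul_assoc] using this
    · intro P Q f g hf _ e cf y hy
      obtain ⟨x, hx, rfl⟩ := hf.surj hy
      rw [e x hx]
      have := D.inv_mem (cf x hx)
      simpa using this
  show ∀ P f, Mor F P f → C P f
  have hSS : ∀ f, Iso F f S S → C S f := fun f hf =>
    hstab S f hf.mor hWS fun x hx => (wOf_iso hS hW2 hf).mapsTo hx
  set Q := F.core with hQ
  have hQnorm : F.IsNormal Q := core_isNormal
  have hQsc := isNormal_stronglyClosed hQnorm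
  have hQS : Q ≤ S := hQnorm.1
  have hSQn : S ≤ Subgroup.normalizer (Q : Set Ω) := stronglyClosed_normalizer hQsc
  -- maps of normalizer systems of subgroups not normal in the system
  have hsys : ∀ A : Subgroup Ω, F.IsFullyNormalized A → ¬ F.IsNormal A →
      ∀ E : FusionSystem (normalizerIn S A), F.IsNormalizerSystem A E →
      (∀ P f, Mor E P f → wOf W (normalizerIn S A) ≤ P →
        (∀ x ∈ wOf W (normalizerIn S A), f x ∈ wOf W (normalizerIn S A)) → C P f) →
      ∀ P f, Mor E P f → C P f := by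
    intro A hAn hAN E hE hstabA
    haveI : Finite ↥(normalizerIn S A) := finite_of_le normalizerIn_le
    have hgE : HasGood Good E p ⊥ := hasGood_of_isNormal (hS.to_le normalizerIn_le)
      (normalizerSystem_saturated hS hF hAn hE) hsub hquot (normalizerSystem_isNormal hAn.1 hE)
      (hasGood_normalizer hS hF hsub hquot hgood hAn hE)
    by_cases hAS : normalizerIn S A = S
    · exact IHm _ (hcount ▸ autCount_normalizer_lt hS hF hAn.1 hAS hAN hE) Ω _
        (hS.to_le normalizerIn_le) E (normalizerSystem_saturated hS hF hAn hE) (by rw [hAS, hcard])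
        rfl hgE D hstabA
    · exact IH _ (hcard ▸ Fusion.card_lt_of_lt (lt_of_le_of_ne normalizerIn_le hAS)) _ Ω _
        (hS.to_le normalizerIn_le) E (normalizerSystem_saturated hS hF hAn hE) rfl rfl hgE D hstabA
  have hsysS : ∀ A : Subgroup Ω, S ≤ normalizerIn S A → A ≤ S → ¬ F.IsNormal A →
      ∀ P f, Mor F P f → A ≤ P → f '' (A : Set Ω) = A → C P f := by
    intro A hSA hAS hAN P f hf hAP hfA
    have hAn : F.IsFullyNormalized A := by
      refine ⟨hAS, fun Y _ => ?_⟩
      haveI : Finite ↥(normalizerIn S A) := finite_of_le normalizerIn_le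
      exact Fusion.card_le_of_le (normalizerIn_le.trans hSA)
    obtain ⟨E, hE⟩ := exists_normalizerSystem F A hAS
    refine hsys A hAn hAN E hE (fun R g hg h1 h2 => ?_) P f
      (mor_normalizerSystem hE (hf.restrict (sup_le le_rfl hAP)) (fun _ _ => rfl) hfA
        (hf.dom_le.trans hSA) (fun x hx => hSA (hf.map_mem hx)))
    have key : ∀ T : Subgroup Ω, T = S → wOf W T ≤ R → (∀ x ∈ wOf W T, g x ∈ wOf W T) → C R g := by
      rintro T rfl a b
      exact hstab R g (normalizerSystem_mor hE hg).1 a b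
    exact key _ (le_antisymm normalizerIn_le hSA) h1 h2
  by_cases hQ1 : Q = ⊥
  · -- no nontrivial normal subgroup
    have hnn : ∀ A : Subgroup Ω, A ≠ ⊥ → ¬ F.IsNormal A := fun A hA h =>
      hA (le_bot_iff.mp (hQ1 ▸ le_sSup h))
    have hcne : ∀ R, F.IsEssential p R → R ≠ ⊥ := fun R hR h => by
      subst h
      refine (essential_lt hS hF hR).ne (le_antisymm bot_le fun s hs => ?_)
      exact hR.1.2 ⊥ (isConj_refl bot_le) ⟨hs, fun r hr => by simp [Subgroup.mem_bot.mp hr]⟩
    have key : ∀ (k : ℕ) (A : Subgroup Ω), Nat.card S - Nat.card (normalizerIn S A) = k → A ≤ S →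
        A ≠ ⊥ → ∀ P f, Mor F P f → A ≤ P → P ≤ normalizerIn S A →
        (∀ x ∈ P, f x ∈ normalizerIn S A) → (∀ x ∈ A, f x ∈ A) → C P f := by
      intro k
      induction k using Nat.strong_induction_on with
      | _ k IHk =>
      intro A hk hAS hA1
      haveI := finite_of_le hAS
      haveI : Finite ↥(normalizerIn S A) := finite_of_le normalizerIn_le
      -- maps with large domains
      have big : ∀ P f, Mor F P f → Nat.card (normalizerIn S A) ≤ Nat.card P → C P f := by
        refine alperin hS hF (C := fun P f => Nat.card (normalizerIn S A) ≤ Nat.card P → C P f)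
          ⟨fun hP hs _ => hC.conj hP hs, fun h e h' hn => hC.congr h e (h' hn), ?_, ?_⟩ ?_
        · intro P Q f g hf hg m cf cg hn
          haveI := finite_of_le hg.dom_le
          exact hC.comp hf hg m (cf hn) (cg (hn.trans (hf.card_le m)))
        · intro P Q f g hf hg e cf hn
          exact hC.inv hf hg e (cf (hn.trans hf.card_eq.ge))
        · intro R hR hRn _ f hf hn
          rcases hR with rfl | hR
          · exact hSS f hf
          haveI : Finite ↥(normalizerIn S R) := finite_of_le normalizerIn_le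
          have hlt := hn.trans_lt (Fusion.card_lt_of_lt (lt_normalizerIn hS (essential_lt hS hF hR)))
          have hle := Fusion.card_le_of_le (normalizerIn_le : normalizerIn S R ≤ S)
          exact IHk _ (by omega) R rfl hR.1.1 (hcne R hR) R f hf.mor le_rfl
            (le_normalizerIn hR.1.1) (fun x hx => le_normalizerIn hR.1.1 (hf.mapsTo hx))
            (fun x hx => hf.mapsTo hx)
      intro P f hf hAP hPA hfPA hfA
      obtain ⟨A', hAA', hA'n⟩ := exists_fullyNormalized (F := F) hAS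
      obtain ⟨f₀, hf₀⟩ := isConj_iff.mp hAA'
      obtain ⟨a, ψ, -, hψ, -, mψ, hψA⟩ := exists_map_to_fullyNormalized hS hF hf₀ hA'n
      haveI : Finite ↥(normalizerIn S A') := finite_of_le normalizerIn_le
      have hψP := hψ.restrict hPA
      set P' := hψP.img with hP'
      have hψi : Iso F ψ P P' := hψP.toIso
      obtain ⟨ψi, hψi', e1, -⟩ := hψi.exists_symm
      have hψC : C P ψ := hC.restrict hψ hPA (big _ ψ hψ le_rfl)
      have hPf := hf.toIso
      set Pf := hf.img with hPfd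
      have hPfA : Pf ≤ normalizerIn S A := fun y hy => by
        obtain ⟨x, hx, rfl⟩ := hPf.surj hy
        exact hfPA x hx
      have hψf : C Pf ψ := hC.restrict hψ hPfA (big _ ψ hψ le_rfl)
      have hψfi : Iso F ψ Pf (hψ.restrict hPfA).img := (hψ.restrict hPfA).toIso
      obtain ⟨ψj, hψj, e2, -⟩ := hψfi.exists_symm
      have hψjC : C (hψ.restrict hPfA).img ψj := hC.inv hψfi hψj e2 hψf
      have hf' : Iso F (ψ ∘ f ∘ ψi) P' (hψ.restrict hPfA).img := (hψi'.comp hPf).comp hψfi
      have hA'P : A' ≤ P' := fun y hy => by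
        obtain ⟨x, hx, rfl⟩ := hψA.surj hy
        exact hψi.mapsTo (hAP hx)
      haveI := finite_of_le hA'n.1
      have hf'A : (ψ ∘ f ∘ ψi) '' (A' : Set Ω) = A' := image_eq_of_iso (F := F)
        ((hf'.mor.restrict hA'P).iso_of_card (fun y hy => by
          obtain ⟨x, hx, rfl⟩ := hψA.surj hy
          show ψ (f (ψi (ψ x))) ∈ A'
          rw [e1 x (hAP hx)]
          exact hψA.mapsTo (hfA x hx)) le_rfl)
      have hA'1 : A' ≠ ⊥ := fun h => hA1 (Subgroup.card_eq_one.mp (by
        rw [hψA.card_eq, h, Subgroup.card_bot]))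
      obtain ⟨E, hE⟩ := exists_normalizerSystem F A' hA'n.1
      have hgoal : C P' (ψ ∘ f ∘ ψi) := by
        refine hsys A' hA'n (hnn A' hA'1) E hE (fun R g hg h1 h2 => ?_) P' _
          (mor_normalizerSystem hE (hf'.mor.restrict (sup_le le_rfl hA'P)) (fun _ _ => rfl) hf'A
            (fun y hy => by obtain ⟨x, hx, rfl⟩ := hψi.surj hy; exact mψ x (hPA hx))
            (fun y hy => by
              obtain ⟨x, hx, hxe⟩ := hψfi.surj (hf'.mapsTo hy)
              rw [← hxe]; exact mψ x (hPfA hx)))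
        obtain ⟨hgF, hR, hgv⟩ := normalizerSystem_mor hE hg
        by_cases hNS : normalizerIn S A' = S
        · have key : ∀ T : Subgroup Ω, T = S → wOf W T ≤ R →
              (∀ x ∈ wOf W T, g x ∈ wOf W T) → C R g := by
            rintro T rfl a b
            exact hstab R g hgF a b
          exact key _ hNS h1 h2
        set V := wOf W (normalizerIn S A') with hV
        haveI : Finite ↥(normalizerIn S (normalizerIn S A')) := finite_of_le normalizerIn_le
        haveI : Finite ↥(normalizerIn S V) := finite_of_le normalizerIn_le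
        have hNV : normalizerIn S (normalizerIn S A') ≤ normalizerIn S V :=
          le_inf normalizerIn_le (normalizerIn_le_wOf hS hW2 normalizerIn_le)
        have hlt : Nat.card (normalizerIn S A') < Nat.card (normalizerIn S V) :=
          (Fusion.card_lt_of_lt (lt_normalizerIn hS (lt_of_le_of_ne normalizerIn_le hNS))).trans_le
            (Fusion.card_le_of_le hNV)
        have hle1 : Nat.card (normalizerIn S A) ≤ Nat.card (normalizerIn S A') :=
          hA'n.2 A (isConj_symm hAA')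
        have hle2 := Fusion.card_le_of_le (normalizerIn_le : normalizerIn S V ≤ S)
        have hDV : normalizerIn S A' ≤ normalizerIn S V :=
          (le_normalizerIn normalizerIn_le).trans hNV
        refine IHk _ (by omega) V rfl ((wOf_le W _).trans normalizerIn_le) ?_ R g hgF h1
          (hR.trans hDV) (fun x hx => hDV (hgv x hx)) h2
        exact wOf_ne_bot hW1 hS normalizerIn_le fun h =>
          hA'1 (le_bot_iff.mp (h ▸ le_normalizerIn hA'n.1))
      have h1 := hC.comp hψi.mor hf'.mor (fun x hx => hψi.mapsTo hx) hψC hgoal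
      have h2 := hC.comp (hψi.comp hf').mor hψj.mor
        (fun x hx => (hψi.comp hf').mapsTo hx) h1 hψjC
      refine hC.congr ((hψi.comp hf').comp hψj).mor (fun x hx => ?_) h2
      show ψj (ψ (f (ψi (ψ x)))) = f x
      rw [e1 x hx, e2 _ (hPf.mapsTo hx)]
    refine alperin hS hF hC fun R hR hRn _ f hf => ?_
    rcases hR with rfl | hR
    · exact hSS f hf
    · exact key _ R rfl hR.1.1 (hcne R hR) R f hf.mor le_rfl (le_normalizerIn hR.1.1)
        (fun x hx => le_normalizerIn hR.1.1 (hf.mapsTo hx)) (fun x hx => hf.mapsTo hx)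
  -- modulo the largest normal subgroup
  have hmod : ∀ P f, Mor F P f → ∀ x ∈ P, ∃ d ∈ D, ∃ q ∈ Q, x⁻¹ * f x = d * q := by
    intro P f hf x hx
    by_cases hQS' : Q = S
    · exact ⟨1, D.one_mem, _, hQS'.symm ▸ S.mul_mem (S.inv_mem (hf.dom_le hx)) (hf.map_mem hx),
        (one_mul _).symm⟩
    haveI : (Q.subgroupOf S).Normal := Subgroup.normal_subgroupOf_of_le_normalizer hSQn
    obtain ⟨E, hE⟩ := exists_factorSystem_quotient F Q hQsc
    have hk := hE.2.1
    haveI : Finite ↥(⊤ : Subgroup (S ⧸ Q.subgroupOf S)) := inferInstance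
    have hS' : IsPGroup p ↥(⊤ : Subgroup (S ⧸ Q.subgroupOf S)) :=
      (hS.to_quotient _).to_subgroup _
    set θ := QuotientGroup.mk' (Q.subgroupOf S) with hθ
    have hlt : Nat.card ↥(⊤ : Subgroup (S ⧸ Q.subgroupOf S)) < n := by
      rw [Subgroup.card_top, ← hcard,
        Subgroup.card_eq_card_quotient_mul_card_subgroup (Q.subgroupOf S)]
      refine lt_mul_of_one_lt_right Nat.card_pos ?_
      rw [Nat.card_congr (Subgroup.subgroupOfEquivOfLe hQS).toEquiv]
      haveI := finite_of_le hQS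
      exact (Subgroup.one_lt_card_iff_ne_bot Q).mpr hQ1
    set Wb := wOf W (⊤ : Subgroup (S ⧸ Q.subgroupOf S)) with hWb
    have htop : (⊤ : Subgroup (S ⧸ Q.subgroupOf S)) ≠ ⊥ := by
      intro h
      refine hQS' (le_antisymm hQS fun s hs => (hk ⟨s, hs⟩).mp ?_)
      exact Subgroup.mem_bot.mp (h ▸ Subgroup.mem_top _)
    set K := preimageAlong θ Wb with hK
    have hKS : K ≤ S := preimageAlong_le θ
    haveI := finite_of_le hKS
    have hQK : Q ≤ K := le_preimageAlong θ hk hQS Wb
    have hSK : S ≤ normalizerIn S K := le_inf le_rfl fun s hs =>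
      Subgroup.mem_normalizer_fintype fun y hy => by
        obtain ⟨hyS, hy'⟩ := mem_preimage_iff.mp hy
        refine mem_preimage_iff.mpr ⟨S.mul_mem (S.mul_mem hs hyS) (S.inv_mem hs), ?_⟩
        rw [← cj_apply, extHom_cj θ hs hyS]
        exact (cj_mem_iff (normalizerIn_le_wOf hS' hW2 le_rfl
          ⟨trivial, Subgroup.le_normalizer trivial⟩) _).mpr hy'
    have hKn : ¬ F.IsNormal K := fun h => by
      refine wOf_ne_bot hW1 hS' le_rfl htop (le_bot_iff.mp fun y hy => ?_)
      obtain ⟨z, hz, rfl⟩ := exists_preimage hE (le_top : Wb ≤ ⊤) hy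
      exact Subgroup.mem_bot.mpr
        ((extHom_eq_one hk (mem_preimage_iff.mp hz).1).mpr ((le_sSup h : K ≤ Q) hz))
    have hres := IH _ hlt _ _ ⊤ hS' E (factor_saturated hS hF hQsc hE) rfl rfl
      (hasGood_factor hS hF hquot hQnorm (fun R h1 h2 _ => hgood R h1 h2 bot_le) hE)
      ((D.subgroupOf S).map θ) (fun P' h hh h1 h2 => ?_)
    · obtain ⟨g, hg, eg, -⟩ := ExtStab.of_isNormal hQnorm hf
      obtain ⟨h, hh, eh⟩ := factor_push hQsc hE hg le_sup_right
      have hx' : x ∈ P ⊔ Q := Subgroup.mem_sup_left hx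
      obtain ⟨d, hd, hde⟩ := hres _ h hh _ ((mem_imageAlong (hP := hg.dom_le)).mpr ⟨x, hx', rfl⟩)
      have hxS := hf.dom_le hx
      have hfS := hf.map_mem hx
      rw [eh x hx', eg x hx, ← extHom_inv θ hxS, ← extHom_mul θ (S.inv_mem hxS) hfS] at hde
      refine ⟨d, hd, (d : Ω)⁻¹ * (x⁻¹ * f x), ?_, by rw [mul_inv_cancel_left]⟩
      refine (extHom_eq_iff hk d.2 (S.mul_mem (S.inv_mem hxS) hfS)).mp ?_
      rw [extHom_apply θ d.2]
      exact hde
    · obtain ⟨f', hf', ef⟩ := factor_lift hE hh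
      have hKX : K ≤ preimageAlong θ P' := fun y hy => mem_preimage_iff.mpr
        ⟨hKS hy, h1 (mem_preimage_iff.mp hy).2⟩
      have hfK : f' '' (K : Set Ω) = K := image_eq_of_iso (F := F)
        ((hf'.restrict hKX).iso_of_card (fun y hy => mem_preimage_iff.mpr ⟨hf'.map_mem (hKX hy), by
          rw [← ef y (hKX hy)]
          exact h2 _ (mem_preimage_iff.mp hy).2⟩) le_rfl)
      have hgood := hsysS K hSK hKS hKn _ f' hf' hKX hfK
      intro y' hy'
      obtain ⟨y, hy, rfl⟩ := exists_preimage hE hh.dom_le hy'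
      have hyS := (mem_preimage_iff.mp hy).1
      refine ⟨⟨y⁻¹ * f' y, S.mul_mem (S.inv_mem hyS) (hf'.map_mem hy)⟩, hgood y hy, ?_⟩
      rw [ef y hy, ← extHom_inv θ hyS, ← extHom_mul θ (S.inv_mem hyS) (hf'.map_mem hy)]
      exact (extHom_apply θ _).symm
  -- it remains to bound the focal elements inside the normal subgroup
  suffices hfin : Q ⊓ F.focalSubgroup ≤ D by
    intro P f hf x hx
    obtain ⟨d, hd, q, hq, e⟩ := hmod P f hf x hx
    have hqf : q ∈ F.focalSubgroup := by
      rw [show q = d⁻¹ * (x⁻¹ * f x) by rw [e, inv_mul_cancel_left]]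
      exact mul_mem (inv_mem (hd : d ∈ D).2) (mem_focal_gen hf hx)
    rw [e]
    exact D.mul_mem hd (hfin ⟨hq, hqf⟩)
  have hSQ : S ≤ normalizerIn S Q := le_inf le_rfl hSQn
  haveI : Finite ↥(normalizerIn S Q) := finite_of_le normalizerIn_le
  have hQn : F.IsFullyNormalized Q :=
    ⟨hQS, fun Y _ => Fusion.card_le_of_le (normalizerIn_le.trans hSQ)⟩
  by_cases hQC : Q ⊔ centralizerIn S Q ≤ Q
  · -- the constrained case
    have hQc : F.IsCentric Q := by
      refine ⟨hQS, fun R hR c hc => ?_⟩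
      obtain ⟨g, hg⟩ := isConj_iff.mp hR
      have hRQ : R = Q := SetLike.ext fun y => ⟨fun hy => by
        obtain ⟨x, hx, rfl⟩ := hg.surj hy
        exact stronglyClosed_mem hQsc hg.mor hx hx, fun hy => by
        obtain ⟨x, hx, rfl⟩ := (strongly_closed_iso hQsc hg.mor le_rfl).surj hy
        exact hg.mapsTo hx⟩
      subst hRQ
      exact hQC (Subgroup.mem_sup_right hc)
    obtain ⟨N, L, _, ι, hN, hM, hGL⟩ := hgood Q hQn hQc bot_le
    haveI : Finite ↥(normalizerIn S Q) := finite_of_le normalizerIn_le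
    haveI : Finite L := hM.1
    have hQO : (Q.subgroupOf (normalizerIn S Q)).map ι ≤ pCore p L :=
      Core.le_pCore (model_image_normal hS hF hQn hQc hN hM) (((hS.to_le normalizerIn_le).to_subgroup _).map ι)
    haveI : Finite L := hM.1
    obtain ⟨hinj, hreal⟩ := hM.2.1
    obtain ⟨T, hTi⟩ := hM.2.2.1
    haveI := finite_of_le hQS
    have hfoc : F.focalSubgroup ≤ ((commutator L).comap ι).map (normalizerIn S Q).subtype := by
      refine (Subgroup.closure_le _).mpr ?_
      rintro _ ⟨P, φ, x, hφ, rfl⟩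
      obtain ⟨g, hg, eg, mg⟩ := ExtStab.of_isNormal hQnorm (mor_of_mem hφ)
      have hgN : Mor N (P ⊔ Q) g := mor_normalizerSystem hN
        (hg.restrict (sup_le le_rfl le_sup_right)) (fun _ _ => rfl)
        (image_eq_of_iso (F := F) ((hg.restrict le_sup_right).iso_of_card mg le_rfl))
        (hg.dom_le.trans hSQ) (fun y hy => hSQ (hg.map_mem hy))
      obtain ⟨k, hk⟩ :=
        (hreal _ hgN.dom_le hgN.hom (fun y => hgN.map_mem y.2)).mp hgN.hom_mem
      have hx' : (x : Ω) ∈ P ⊔ Q := Subgroup.mem_sup_left x.2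
      refine ⟨⟨x, hgN.dom_le hx'⟩⁻¹ * ⟨g x, hgN.map_mem hx'⟩, ?_, ?_⟩
      · show ι _ ∈ commutator L
        have hk' : ι ⟨g x, hgN.map_mem hx'⟩ = k * ι ⟨x, hgN.dom_le hx'⟩ * k⁻¹ := hk ⟨x, hx'⟩
        rw [map_mul, map_inv, hk', show (ι ⟨(x : Ω), hgN.dom_le hx'⟩)⁻¹ *
          (k * ι ⟨x, hgN.dom_le hx'⟩ * k⁻¹) = ⁅(ι ⟨(x : Ω), hgN.dom_le hx'⟩)⁻¹, k⁆ by
            rw [commutatorElement_def]; group]
        exact Subgroup.commutator_mem_commutator (Subgroup.mem_top _) (Subgroup.mem_top _)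
      · show (x : Ω)⁻¹ * g x = _
        rw [eg x x.2, extFun_coe]
    intro c hc
    obtain ⟨c', hc'L, hc'e⟩ := hfoc hc.2
    subst hc'e
    set Ni := Subgroup.normalizer ((wOf W (T : Subgroup L) : Subgroup L) : Set L) with hNi
    have hTN : (T : Subgroup L) ≤ Ni := fun t ht =>
      normalizerIn_le_wOf T.isPGroup' hW2 le_rfl ⟨ht, Subgroup.le_normalizer ht⟩
    obtain ⟨nn, hnn, hnne⟩ := (hT L hGL T hM.2.2.2).le
      (Subgroup.mem_inf.mpr ⟨hQO ⟨c', hc.1, rfl⟩, hc'L⟩) |>.2
    have hnT : nn ∈ (T.subtype hTN : Sylow p Ni) := by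
      show (nn : L) ∈ (T : Subgroup L)
      rw [show (nn : L) = ι c' from hnne, hTi]
      exact ⟨c', rfl⟩
    have himg : ((wOf W (normalizerIn S Q)).subgroupOf (normalizerIn S Q)).map ι =
        wOf W (T : Subgroup L) := by
      have h1 : wOf W (normalizerIn S Q) =
          (wOf W (⊤ : Subgroup ↥(normalizerIn S Q))).map (normalizerIn S Q).subtype := by
        have h := wOf_map W hW2 (normalizerIn S Q).subtype (Subgroup.subtype_injective _)
          (⊤ : Subgroup ↥(normalizerIn S Q))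
          ((hS.to_le normalizerIn_le).of_equiv Subgroup.topEquiv.symm)
        rwa [← MonoidHom.range_eq_map, Subgroup.range_subtype] at h
      have h2 := wOf_map W hW2 ι hinj (⊤ : Subgroup ↥(normalizerIn S Q))
        ((hS.to_le normalizerIn_le).of_equiv Subgroup.topEquiv.symm)
      rw [← MonoidHom.range_eq_map] at h2
      rw [hTi, h2, h1, Subgroup.subgroupOf,
        Subgroup.comap_map_eq_self_of_injective (Subgroup.subtype_injective _)]
    have hfocN : ((T.subtype hTN : Sylow p Ni) : Subgroup Ni).focalSubgroup ≤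
        (((D.subgroupOf (normalizerIn S Q)).map ι).subgroupOf Ni) := by
      refine Transfer.focalSubgroup_le_of_forall fun y hy k hky => ?_
      obtain ⟨a, ha⟩ : (y : L) ∈ ι.range := hTi ▸ hy
      obtain ⟨b, hb⟩ : ((k * y * k⁻¹ : Ni) : L) ∈ ι.range := hTi ▸ hky
      set Z := Subgroup.zpowers (a : Ω) with hZ
      have hZD : Z ≤ normalizerIn S Q := Subgroup.zpowers_le.mpr a.2
      have hVD : wOf W (normalizerIn S Q) ≤ normalizerIn S Q := wOf_le W _
      have hk2 : ∀ v (hv : v ∈ wOf W (normalizerIn S Q)),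
          (k : L) * ι ⟨v, hVD hv⟩ * (k : L)⁻¹ ∈
            ((wOf W (normalizerIn S Q)).subgroupOf (normalizerIn S Q)).map ι := fun v hv => by
        rw [himg]
        exact (Subgroup.mem_normalizer_iff.mp k.2 _).mp (himg.le ⟨⟨v, hVD hv⟩, hv, rfl⟩)
      obtain ⟨h, hhN, hhF, eh⟩ := model_mor hN hM (sup_le hZD hVD) (k : L) fun z =>
        conj_mem_sup hZD hVD ι (k : L) ι.range
          (fun w hw => by
            obtain ⟨j, rfl⟩ := Subgroup.mem_zpowers_iff.mp hw
            refine ⟨b ^ j, ?_⟩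
            rw [show (⟨(a : Ω) ^ j, hZD hw⟩ : ↥(normalizerIn S Q)) = a ^ j from Subtype.ext rfl,
              map_zpow, map_zpow, ha, hb, Subgroup.coe_mul, Subgroup.coe_mul, InvMemClass.coe_inv,
              conj_zpow])
          (fun w hw => by obtain ⟨v, -, hv⟩ := hk2 w hw; exact ⟨v, hv⟩) z z.2
      have haZ : (a : Ω) ∈ Z ⊔ wOf W (normalizerIn S Q) :=
        Subgroup.mem_sup_left (Subgroup.mem_zpowers _)
      have hha : h a = b := congrArg Subtype.val (hinj ((eh a haZ (hhN.map_mem haZ)).trans (by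
        rw [hb]
        show (k : L) * ι a * (k : L)⁻¹ = _
        rw [ha]
        rfl)))
      have key : ∀ T' : Subgroup Ω, T' = S → wOf W T' ≤ Z ⊔ wOf W (normalizerIn S Q) →
          (∀ w ∈ wOf W T', h w ∈ wOf W T') → (a : Ω)⁻¹ * h a ∈ D := by
        rintro T' rfl h1 h2
        exact hstab _ h hhF h1 h2 _ haZ
      refine ⟨a⁻¹ * b, ?_, ?_⟩
      · show (a : Ω)⁻¹ * b ∈ D
        rw [← hha]
        refine key _ (le_antisymm normalizerIn_le hSQ) le_sup_right fun w hw => ?_
        obtain ⟨v, hv, hve⟩ := hk2 w hw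
        rw [show h w = (v : Ω) from congrArg Subtype.val (hinj ((eh w (Subgroup.mem_sup_right hw)
          (hhN.map_mem (Subgroup.mem_sup_right hw))).trans hve.symm))]
        exact hv
      · rw [map_mul, map_inv, ha, hb]
        rfl
    obtain ⟨e, he, hee⟩ := hfocN ((Subgroup.commutator_inf_eq_focalSubgroup (T.subtype hTN)).le
      ⟨hnn, hnT⟩)
    rw [show Ni.subtype nn = ι c' from hnne] at hee
    rw [← hinj hee]
    exact he
  have hYn : ¬ F.IsNormal (Q ⊔ centralizerIn S Q) := fun h => hQC (le_sSup h)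
  by_cases hX : ∃ X : Subgroup Ω, X ≤ Q ∧ S ≤ Subgroup.normalizer (X : Set Ω) ∧ ¬ F.IsNormal X
  · -- some subgroup normal in `S` is not normal in the system
    obtain ⟨X, hXQ, hSX, hXN⟩ := hX
    have hYS : Q ⊔ centralizerIn S Q ≤ S := sup_le hQS centralizerIn_le
    haveI := finite_of_le hYS
    have hSY : S ≤ normalizerIn S (Q ⊔ centralizerIn S Q) := le_inf le_rfl fun s hs =>
      Subgroup.mem_normalizer_fintype fun x hx => (Mor.conj (F := F) hYS hs).map_sup
        (T := Q ⊔ centralizerIn S Q)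
        (fun y hy => Subgroup.mem_sup_left ((cj_mem_iff (hSQn hs) y).mpr hy))
        (fun y hy => Subgroup.mem_sup_right ⟨S.mul_mem (S.mul_mem hs hy.1) (S.inv_mem hs),
          fun q hq => by
            have hq' : s⁻¹ * q * s ∈ Q := by
              have := (cj_mem_iff (hSQn (S.inv_mem hs)) q).mpr hq
              rwa [cj_apply, inv_inv] at this
            calc q * (s * y * s⁻¹) = s * (s⁻¹ * q * s * y) * s⁻¹ := by group
              _ = s * (y * (s⁻¹ * q * s)) * s⁻¹ := by rw [hy.2 _ hq']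
              _ = s * y * s⁻¹ * q := by group⟩) x hx
    have hall := good_of_normal_split hS hF hC hQnorm
      (fun P f hf hQP hfx => hsysS X (le_inf le_rfl hSX) (hXQ.trans hQS) hXN P f hf (hXQ.trans hQP)
        (by
          ext y
          constructor
          · rintro ⟨z, hz, rfl⟩
            rw [hfx z (hXQ hz)]; exact hz
          · exact fun hy => ⟨y, hy, hfx y (hXQ hy)⟩))
      (fun P f hf hle himg => hsysS _ hSY hYS hYn P f hf hle himg) hSS
    intro c hc
    have hle : F.focalSubgroup ≤ D := by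
      refine (Subgroup.closure_le _).mpr ?_
      rintro _ ⟨P, φ, x, hφ, rfl⟩
      have := hall P _ (mor_of_mem hφ) x x.2
      rwa [extFun_coe] at this
    exact hle hc.2
  -- every subgroup normal in `S` inside `Q` is normal in the system
  push Not at hX
  obtain ⟨c₀, hc₀⟩ : ∃ c, Subgroup.upperCentralSeries S c = ⊤ :=
    (hS.isNilpotent : Group.IsNilpotent S).nilpotent
  set Z : ℕ → Subgroup Ω := fun i => (Subgroup.upperCentralSeries S i).map S.subtype with hZdef
  have hZn : ∀ i, S ≤ Subgroup.normalizer (Z i : Set Ω) := fun i s hs => by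
    haveI := finite_of_le (Subgroup.map_subtype_le (Subgroup.upperCentralSeries S i) : Z i ≤ S)
    refine Subgroup.mem_normalizer_fintype fun x hx => ?_
    obtain ⟨y, hy, rfl⟩ := hx
    exact ⟨⟨s, hs⟩ * y * ⟨s, hs⟩⁻¹,
      (inferInstance : (Subgroup.upperCentralSeries S i).Normal).conj_mem y hy _, rfl⟩
  suffices hdown : ∀ i, Q ⊓ Z i ⊓ F.focalSubgroup ≤ D by
    intro q hq
    refine hdown c₀ ⟨⟨hq.1, ?_⟩, hq.2⟩
    exact ⟨⟨q, hQS hq.1⟩, hc₀ ▸ Subgroup.mem_top _, rfl⟩
  intro i
  induction i with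
  | zero =>
    intro q hq
    have : q ∈ (⊥ : Subgroup Ω) := by
      have h := hq.1.2
      simpa [hZdef] using h
    rw [Subgroup.mem_bot.mp this]
    exact D.one_mem
  | succ i IHi =>
    intro c hc
    set M := Q ⊓ Z (i + 1) with hMdef
    have hMS : M ≤ S := inf_le_left.trans hQS
    have hSM : S ≤ Subgroup.normalizer (M : Set Ω) := fun s hs =>
      Subgroup.mem_normalizer_iff.mpr fun x => by
        rw [hMdef, Subgroup.mem_inf, Subgroup.mem_inf]
        exact and_congr (Subgroup.mem_normalizer_iff.mp (hSQn hs) x)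
          (Subgroup.mem_normalizer_iff.mp (hZn _ hs) x)
    set M' := Q ⊓ Z i with hM'def
    have hcomm : ∀ x ∈ M, ∀ s ∈ S, ⁅x, s⁆ ∈ M' := fun x hx s hs => by
      refine ⟨?_, upperSeries_comm S i hx.2 hs⟩
      rw [commutatorElement_def, mul_assoc, mul_assoc]
      refine Q.mul_mem hx.1 ?_
      rw [← mul_assoc]
      exact (Subgroup.mem_normalizer_iff.mp (hSQn hs) _).mp (Q.inv_mem hx.1)
    set M'' := (D ⊔ M') ⊓ M with hM''
    have hM'M : M' ≤ M := inf_le_inf_left _
      (Subgroup.map_mono (Subgroup.upperCentralSeries_mono S (Nat.le_succ i)))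
    have hM''n : S ≤ Subgroup.normalizer (M'' : Set Ω) := fun s hs => by
      haveI := finite_of_le ((inf_le_right : M'' ≤ M).trans hMS)
      refine Subgroup.mem_normalizer_fintype fun x hx => ⟨?_, (cj_mem_iff (hSM hs) x).mpr hx.2⟩
      have h1 : ⁅x⁻¹, s⁆ ∈ D ⊔ M' := Subgroup.mem_sup_right (hcomm _ (M.inv_mem hx.2) s hs)
      have := (D ⊔ M').mul_mem hx.1 h1
      rwa [show x * ⁅x⁻¹, s⁆ = s * x * s⁻¹ by rw [commutatorElement_def]; group] at this
    have hM''Q : M'' ≤ Q := inf_le_right.trans inf_le_left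
    have hnormal := hX M'' hM''Q hM''n
    have hMnormal := hX M inf_le_left hSM
    haveI : (M''.subgroupOf S).Normal := Subgroup.normal_subgroupOf_of_le_normalizer hM''n
    have hsc := isNormal_stronglyClosed hnormal
    obtain ⟨E, hE⟩ := exists_factorSystem_quotient F M'' hsc
    have hk := hE.2.1
    set θ := QuotientGroup.mk' (M''.subgroupOf S) with hθ
    haveI : Finite ↥(⊤ : Subgroup (S ⧸ M''.subgroupOf S)) := inferInstance
    have hS' : IsPGroup p ↥(⊤ : Subgroup (S ⧸ M''.subgroupOf S)) :=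
      (hS.to_quotient _).to_subgroup _
    have hEsat := factor_saturated hS hF hsc hE
    set Mb := imageAlong θ M with hMb
    have hmemMb : ∀ y, y ∈ Mb ↔ ∃ x ∈ M, extHom θ x = y := fun y => by
      rw [hMb, mem_imageAlong (hP := hMS)]
    have hM''M : M'' ≤ M := inf_le_right
    have hMpre : ∀ x ∈ S, extHom θ x ∈ Mb → x ∈ M := fun x hxS hx => by
      obtain ⟨y, hy, hye⟩ := (hmemMb _).mp hx
      have := (extHom_eq_iff hk (hMS hy) hxS).mp hye
      have h2 := M.mul_mem hy (hM''M this)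
      rwa [mul_inv_cancel_left] at h2
    have hMsc := isNormal_stronglyClosed hMnormal
    have hMbsc : ∀ P g, Mor E P g → ∀ y ∈ P, y ∈ Mb → g y ∈ Mb := fun P g hg y hy hyM => by
      obtain ⟨f, hf, ef⟩ := factor_lift hE hg
      obtain ⟨x, hx, rfl⟩ := exists_preimage hE hg.dom_le hy
      rw [ef x hx]
      exact (hmemMb _).mpr ⟨f x, stronglyClosed_mem hMsc hf hx
        (hMpre x (mem_preimage_iff.mp hx).1 hyM), rfl⟩
    have hMbS : Mb ≤ ⊤ := le_top
    have hcen : ∀ y ∈ Mb, ∀ s ∈ (⊤ : Subgroup (S ⧸ M''.subgroupOf S)), s * y = y * s := by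
      intro y hy s hs
      obtain ⟨x, hx, rfl⟩ := (hmemMb _).mp hy
      obtain ⟨t, ht, rfl⟩ := exists_preimage hE le_rfl hs
      have htS := (mem_preimage_iff.mp ht).1
      rw [← extHom_mul θ htS (hMS hx), ← extHom_mul θ (hMS hx) htS]
      refine (extHom_eq_iff hk (S.mul_mem htS (hMS hx)) (S.mul_mem (hMS hx) htS)).mpr ?_
      rw [show (t * x)⁻¹ * (x * t) = ⁅x⁻¹, t⁻¹⁆ by rw [commutatorElement_def]; group]
      exact ⟨Subgroup.mem_sup_right (hcomm _ (M.inv_mem hx) _ (S.inv_mem htS)),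
        hM'M (hcomm _ (M.inv_mem hx) _ (S.inv_mem htS))⟩
    haveI : Finite ↥Mb := inferInstance
    have hfixM : ∀ y ∈ Mb, ∀ P g, Mor E P g → y ∈ P → g y = y := by
      intro y hy P g hg hyP
      obtain ⟨f, hf, ef⟩ := factor_lift hE hg
      obtain ⟨x, hx, rfl⟩ := exists_preimage hE hg.dom_le hyP
      have hxS := (mem_preimage_iff.mp hx).1
      have hxM := hMpre x hxS hy
      -- `f` on `M`
      obtain ⟨f₁, hf₁, ef₁, mf₁⟩ := ExtStab.of_isNormal hMnormal hf
      obtain ⟨g₁, hg₁, eg₁⟩ := factor_push hsc hE (hf₁.restrict le_sup_right) hM''M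
      have hgi : Iso E g₁ Mb Mb := hg₁.iso_of_card (fun z hz => hMbsc _ g₁ hg₁ z hz hz) le_rfl
      have hMbn : E.IsFullyNormalized Mb := by
        refine ⟨hMbS, fun R _ => ?_⟩
        haveI : Finite ↥(normalizerIn ⊤ Mb) := inferInstance
        refine Fusion.card_le_of_le (normalizerIn_le.trans fun s hs => ⟨hs, ?_⟩)
        exact Subgroup.centralizer_le_normalizer _ fun z hz => (hcen z hz s hs).symm
      obtain ⟨g₂, hg₂, eg₂⟩ :=
        (receptive_iff.mp (IsSaturated_fullyNormalized hS' hEsat hMbn).2.2).2 Mb g₁ hgi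
      have htop : (⊤ : Subgroup (S ⧸ M''.subgroupOf S)) ≤ nphi ⊤ Mb g₁ := fun s hs =>
        centralizerIn_le_nphi ⟨hs, fun z hz => (hcen z hz s hs).symm⟩
      obtain ⟨f₂, hf₂, ef₂⟩ := factor_lift hE (hg₂.restrict htop)
      have hpre : S ≤ preimageAlong θ (⊤ : Subgroup (S ⧸ M''.subgroupOf S)) := fun s hs =>
        mem_preimage_iff.mpr ⟨hs, trivial⟩
      have hf₂S := hf₂.restrict hpre
      have hf₂I : Iso F f₂ S S := hf₂S.iso_of_card (fun s hs => hf₂S.map_mem hs) le_rfl
      have h1 : x⁻¹ * f₂ x ∈ D := hSS f₂ hf₂I x hxS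
      have hxPM : x ∈ preimageAlong θ P ⊔ M := Subgroup.mem_sup_left hx
      have h2 : extHom θ (f₂ x) = extHom θ (f x) := by
        rw [← ef₂ x (hpre hxS), eg₂ _ ((hmemMb _).mpr ⟨x, hxM, rfl⟩), eg₁ x hxM, ef₁ x hx]
      have hfxM : f x ∈ M := stronglyClosed_mem hMsc hf hx hxM
      have hf₂M : f₂ x ∈ M := stronglyClosed_mem hMsc hf₂S hxS hxM
      rw [ef x hx, ← h2]
      refine ((extHom_eq_iff hk hxS (hf₂S.map_mem hxS)).mpr ?_).symm
      exact ⟨Subgroup.mem_sup_left h1, M.mul_mem (M.inv_mem hxM) hf₂M⟩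
    have hMc : Mb ≤ E.center := mem_center_of_fixed_powers hS' hEsat hMbS hfixM
    have hcf : extHom θ c ∈ E.focalSubgroup ⊓ E.center :=
      ⟨focal_push hnormal hE c hc.2, hMc ((hmemMb _).mpr ⟨c, hc.1, rfl⟩)⟩
    rw [focal_inf_center hS' hEsat] at hcf
    have hder : ⁅(⊤ : Subgroup (S ⧸ M''.subgroupOf S)), (⊤ : Subgroup (S ⧸ M''.subgroupOf S))⁆ ≤
        (D.subgroupOf S).map θ := by
      refine Subgroup.commutator_le.mpr fun a _ b _ => ?_
      obtain ⟨a, rfl⟩ := QuotientGroup.mk'_surjective _ a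
      obtain ⟨b, rfl⟩ := QuotientGroup.mk'_surjective _ b
      refine ⟨⁅a, b⁆, ?_, map_commutatorElement θ a b⟩
      show ((⁅a, b⁆ : S) : Ω) ∈ D
      have := hconjS b b.2 (a : Ω)⁻¹ (S.inv_mem a.2)
      rwa [show ((⁅a, b⁆ : S) : Ω) = ((a : Ω)⁻¹)⁻¹ * cj (b : Ω) (a : Ω)⁻¹ by
        rw [cj_apply, commutatorElement_def]; simp [mul_assoc]]
    obtain ⟨d, hd, hde⟩ := hder hcf.1
    have hcS := hMS hc.1
    have h3 : (d : Ω)⁻¹ * c ∈ M'' := by
      refine (extHom_eq_iff hk d.2 hcS).mp ?_
      rw [extHom_apply θ d.2]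
      exact hde
    obtain ⟨d', hd', m', hm', he⟩ : ∃ d' ∈ D, ∃ m' ∈ M', d' * m' = (d : Ω)⁻¹ * c := by
      have h4 : (d : Ω)⁻¹ * c ∈ ((D ⊔ M' : Subgroup Ω) : Set Ω) := h3.1
      rw [Subgroup.coe_mul_of_left_le_normalizer_right _ _ (hDS.trans fun s hs => ?_)] at h4
      · exact h4
      · refine Subgroup.mem_normalizer_iff.mpr fun x => ?_
        rw [hM'def, Subgroup.mem_inf, Subgroup.mem_inf]
        exact and_congr (Subgroup.mem_normalizer_iff.mp (hSQn hs) x)
          (Subgroup.mem_normalizer_iff.mp (hZn _ hs) x)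
    have hce : c = (d : Ω) * d' * m' := by rw [mul_assoc, he, mul_inv_cancel_left]
    have hm'f : m' ∈ F.focalSubgroup := by
      rw [show m' = ((d : Ω) * d')⁻¹ * c by rw [hce, inv_mul_cancel_left]]
      exact mul_mem (inv_mem (mul_mem (hd : (d : Ω) ∈ D).2 (hd' : d' ∈ D).2)) hc.2
    rw [hce]
    exact D.mul_mem (D.mul_mem hd hd') (IHi ⟨hm', hm'f⟩)

end Cfsg.Agent.PLocal
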