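/-
The structure of a minimal failure of control of transfer by a family of functors.
-/
import Cfsg.Agent.PLocal.EngelTransfer
import Cfsg.Agent.PLocal.Functors
import Cfsg.Agent.PLocal.FusionControl

set_option autoImplicit false
set_option linter.style.haveILetI false
set_option maxSynthPendingDepth 4

namespace Cfsg.Agent.PLocal

open Subgroup Cfsg
open scoped commutatorElement

universe u

variable {p : ℕ} [hp : Fact p.Prime]

/-- The normalizer of the image under an injective homomorphism. -/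
theorem map_normalizer_of_injective {A B : Type*} [Group A] [Group B] (f : A →* B) (hf : Function.Injective f)
    (X : Subgroup A) :
    (normalizer (X : Set A)).map f = f.range ⊓ normalizer ((X.map f : Subgroup B) : Set B) := by
  refine le_antisymm (le_inf (map_le_range f _) (Subgroup.le_normalizer_map f)) ?_
  rintro _ ⟨⟨x, rfl⟩, hx⟩
  refine ⟨x, mem_normalizer_iff.mpr fun z => ?_, rfl⟩
  have h1 := mem_normalizer_iff.mp hx (f z)
  rw [← map_inv, ← map_mul, ← map_mul, mem_map_iff_mem hf, mem_map_iff_mem hf] at h1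
  exact h1

/-- Control of transfer by a family, carried along an injective homomorphism. -/
theorem family_transfer_map {𝓦 : Set (∀ (Q : Type u) [Group Q], Subgroup Q)}
    (h𝓦 : ∀ W ∈ 𝓦, IsCharPFunctor.{u} p W) {L G : Type u} [Group L] [Group G] [Finite L] [Finite G]
    (f : L →* G) (hf : Function.Injective f)
    (h : FamilyControlsTransferIn p ((fun W => inducedFunctor (G := L) W) '' 𝓦) ⊤) :
    FamilyControlsTransferIn p ((fun W => inducedFunctor (G := G) W) '' 𝓦) f.range := by
  obtain ⟨T, -, hTp, hTi, e⟩ := h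
  refine ⟨T.map f, map_le_range f T, hTp.map f, ?_, ?_⟩
  · rw [MonoidHom.range_eq_map, relIndex_map_map_of_injective _ _ hf]
    exact hTi
  have e' := congrArg (Subgroup.map f) e
  simp only [iSup_image, top_inf_eq, Subgroup.map_iSup] at e'
  rw [Subgroup.map_inf _ _ _ hf, map_commutator, ← MonoidHom.range_eq_map] at e'
  rw [e']
  simp only [iSup_image]
  refine iSup_congr fun W => iSup_congr fun hW => ?_
  rw [Subgroup.map_inf _ _ _ hf, map_commutator, map_normalizer_of_injective f hf]
  rw [show (inducedFunctor W T).map f = inducedFunctor W (T.map f) from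
    (FusionZJ.wOf_map W (h𝓦 W hW).2 f hf T hTp).symm]

/-- The image of `S ∩ K` is `π S ∩ π K`, for `S` Sylow normalizing `K`. -/
theorem map_sylow_inf {G G' : Type*} [Group G] [Group G'] [Finite G] (S : Sylow p G) (K : Subgroup G)
    (hSK : (S : Subgroup G) ≤ normalizer (K : Set G)) (f : G →* G') :
    (S : Subgroup G).map f ⊓ K.map f ≤ ((S : Subgroup G) ⊓ K).map f := by
  have hi : ¬ p ∣ ((S : Subgroup G) ⊓ K).relIndex K := by
    rw [← Fusion.relIndex_sup_normalized (L := ⊤) le_top le_top hSK]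
    exact fun h => S.not_dvd_index (h.trans (relIndex_dvd_index_of_le le_sup_left))
  let P : Sylow p K := IsPGroup.toSylow (P := ((S : Subgroup G) ⊓ K).subgroupOf K)
    (S.isPGroup'.to_le inf_le_left).comap_subtype hi
  set g : K →* K.map f := f.subgroupMap K
  have hg : Function.Surjective g := f.subgroupMap_surjective K
  set B := ((S : Subgroup G).map f ⊓ K.map f).subgroupOf (K.map f) with hB
  have hBp : IsPGroup p B := ((S.isPGroup'.map f).to_le inf_le_left).comap_subtype
  have hle : (P.mapSurjective hg : Subgroup (K.map f)) ≤ B := by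
    rintro _ ⟨x, hx, rfl⟩
    exact ⟨⟨x, hx.1, rfl⟩, ⟨x, x.2, rfl⟩⟩
  have heq := (P.mapSurjective hg).3 hBp hle
  intro y hy
  obtain ⟨x, hx, hxy⟩ := heq.le (show (⟨y, hy.2⟩ : K.map f) ∈ B from hy)
  exact ⟨x, hx, congrArg Subtype.val hxy⟩

/-- The structure of a minimal failure. -/
theorem minimal_failure {G : Type u} [Group G] [Finite G] (S : Sylow p G)
    (𝓦 : Set (∀ (Q : Type u) [Group Q], Subgroup Q)) (h𝓦 : ∀ W ∈ 𝓦, IsCharPFunctor.{u} p W)
    (hne : 𝓦.Nonempty)
    (hsec : ∀ (K R : Subgroup G) [(R.subgroupOf K).Normal], (K = ⊤ → R ≠ ⊥) →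
      FamilyControlsTransferIn p ((fun W => inducedFunctor (G := (↥K ⧸ R.subgroupOf K)) W) '' 𝓦) ⊤)
    (hG : ¬ FamilyControlsTransferIn p ((fun W => inducedFunctor (G := G) W) '' 𝓦) ⊤) (T M : Subgroup G)
    (hT : T = ⨆ W ∈ 𝓦, (S : Subgroup G) ⊓
      ⁅normalizer ((inducedFunctor (G := G) W (S : Subgroup G) : Subgroup G) : Set G),
        normalizer ((inducedFunctor (G := G) W (S : Subgroup G) : Subgroup G) : Set G)⁆)
    (hM : M = normalizer ((T ⊓ pCore p G : Subgroup G) : Set G)) :
    centralizer ((pCore p G : Subgroup G) : Set G) ≤ pCore p G ∧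
      (M ≠ ⊤ ∧ ∀ H : Subgroup G, (S : Subgroup G) ≤ H → H ≠ ⊤ → H ≤ M) ∧
      (⁅pCore p G, M⁆ ≤ pCore p G ⊓ ⁅M, M⁆ ∧ pCore p G ⊓ ⁅M, M⁆ ≤ pCore p G ⊓ T) ∧
      ∀ u : G, u ∈ (S : Subgroup G) → u ∉ pCore p G → ∃ U V : Subgroup G, IsChiefFactor U V ∧
        U ≤ pCore p G ∧ ¬ iterCommutator U (zpowers u) (p - 1) ≤ V := by
  classical
  set 𝓥 := (fun W => inducedFunctor (G := G) W) '' 𝓦 with h𝓥
  have hcf : ∀ V ∈ 𝓥, IsConjugacyFunctor p V := by
    rintro _ ⟨W, hW, rfl⟩
    exact isConjugacyFunctor_induced (h𝓦 W hW) G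
  set NW := fun W : (∀ (Q : Type u) [Group Q], Subgroup Q) =>
    normalizer ((inducedFunctor (G := G) W (S : Subgroup G) : Subgroup G) : Set G) with hNW
  have hnN : ∀ W ∈ 𝓦, normalizer ((S : Subgroup G) : Set G) ≤ NW W := fun W hW =>
    TwoGroups.ConjFunctor.le_normalizer_apply (isConjugacyFunctor_induced (h𝓦 W hW) G) S.isPGroup'
  have hWT : ∀ W ∈ 𝓦, (S : Subgroup G) ⊓ ⁅NW W, NW W⁆ ≤ T := fun W hW =>
    hT ▸ le_iSup₂ (f := fun W (_ : W ∈ 𝓦) => (S : Subgroup G) ⊓ ⁅NW W, NW W⁆) W hW
  have hTS : T ≤ (S : Subgroup G) := hT ▸ iSup₂_le fun W _ => inf_le_left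
  have hTG : T ≤ commutator G := hT ▸ iSup₂_le fun W _ => inf_le_right.trans (commutator_mono le_top le_top)
  have hfail : ¬ (S : Subgroup G) ⊓ commutator G ≤ T := by
    intro hle
    refine hG ⟨S, le_top, S.isPGroup', Fusion.sylow_relIndex_top S, ?_⟩
    rw [← _root_.commutator_def]
    simp only [h𝓥, iSup_image, top_inf_eq]
    exact hT ▸ le_antisymm hle (le_inf hTS hTG)
  obtain ⟨W₀, hW₀⟩ := hne
  have hTT : ⁅(S : Subgroup G), (S : Subgroup G)⁆ ≤ T := fun x hx =>
    hWT W₀ hW₀ ⟨commutator_le_self (S : Subgroup G) hx,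
      commutator_mono (le_normalizer.trans (hnN W₀ hW₀)) (le_normalizer.trans (hnN W₀ hW₀)) hx⟩
  -- control in the proper subgroups
  have hsub : ∀ H : Subgroup G, H ≠ ⊤ → FamilyControlsTransferIn p 𝓥 H := by
    intro H hH
    haveI : ((⊥ : Subgroup G).subgroupOf H).Normal := inferInstance
    let f : ↥H ⧸ (⊥ : Subgroup G).subgroupOf H →* G := QuotientGroup.lift _ H.subtype fun x hx => by
      rw [MonoidHom.mem_ker]
      exact mem_bot.mp (mem_subgroupOf.mp hx)
    have hf : Function.Injective f := by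
      intro a b hab
      obtain ⟨a, rfl⟩ := QuotientGroup.mk_surjective a
      obtain ⟨b, rfl⟩ := QuotientGroup.mk_surjective b
      exact congrArg _ (Subtype.ext hab : a = b)
    have hr : f.range = H := by
      ext x
      constructor
      · rintro ⟨a, rfl⟩
        obtain ⟨a, rfl⟩ := QuotientGroup.mk_surjective a
        exact a.2
      · exact fun hx => ⟨((⟨x, hx⟩ : H) : ↥H ⧸ (⊥ : Subgroup G).subgroupOf H), rfl⟩
    have := family_transfer_map h𝓦 f hf (hsec H ⊥ (fun e => absurd e hH))
    rwa [hr] at this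
  have hover : ∀ H : Subgroup G, (S : Subgroup G) ≤ H → H ≠ ⊤ → (S : Subgroup G) ⊓ ⁅H, H⁆ ≤ T := by
    intro H hSH hH
    rw [TwoGroups.ConjFunctor.eq_of_controlsTransfer hcf (hsub H hH) hSH S.isPGroup'
      (fun h => S.not_dvd_index (h.trans (relIndex_dvd_index_of_le hSH)))]
    simp only [h𝓥, iSup_image]
    exact iSup₂_le fun W hW => le_trans (inf_le_inf_left _ (commutator_mono inf_le_right inf_le_right)) (hWT W hW)
  -- control in the proper quotients
  have hquot : ∀ (R : Subgroup G) [R.Normal], R ≠ ⊥ →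
      (∀ W ∈ 𝓦, (inducedFunctor W ((S : Subgroup G).map (QuotientGroup.mk' R))).Normal →
        (S : Subgroup G).map (QuotientGroup.mk' R) ⊓ commutator (G ⧸ R) ≤ T.map (QuotientGroup.mk' R)) →
      ∀ x ∈ (S : Subgroup G) ⊓ commutator G, ∃ t ∈ T, t⁻¹ * x ∈ R := by
    intro R _ hR hnor x hx
    set π := QuotientGroup.mk' R with hπ
    have hsurj : Function.Surjective π := QuotientGroup.mk'_surjective R
    haveI : (R.subgroupOf ⊤).Normal := inferInstance
    let f : ↥(⊤ : Subgroup G) ⧸ R.subgroupOf ⊤ →* G ⧸ R :=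
      QuotientGroup.map (R.subgroupOf ⊤) R (⊤ : Subgroup G).subtype fun y hy => hy
    have hf : Function.Injective f := by
      intro a b hab
      obtain ⟨a, rfl⟩ := QuotientGroup.mk_surjective a
      obtain ⟨b, rfl⟩ := QuotientGroup.mk_surjective b
      exact QuotientGroup.eq.mpr (mem_subgroupOf.mpr (QuotientGroup.eq.mp hab))
    have hr : f.range = ⊤ := MonoidHom.range_eq_top.mpr fun y => by
      obtain ⟨y, rfl⟩ := QuotientGroup.mk_surjective y
      exact ⟨((⟨y, mem_top y⟩ : (⊤ : Subgroup G)) : ↥(⊤ : Subgroup G) ⧸ R.subgroupOf ⊤), rfl⟩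
    have hctl := family_transfer_map h𝓦 f hf (hsec ⊤ R (fun _ => hR))
    rw [hr] at hctl
    have hcfb : ∀ V ∈ (fun W => inducedFunctor (G := G ⧸ R) W) '' 𝓦, IsConjugacyFunctor p V := by
      rintro _ ⟨W, hW, rfl⟩
      exact isConjugacyFunctor_induced (h𝓦 W hW) _
    set Sb := S.mapSurjective hsurj
    have e := TwoGroups.ConjFunctor.eq_of_controlsTransfer hcfb hctl (R := (Sb : Subgroup (G ⧸ R))) le_top
      Sb.isPGroup' (Fusion.sylow_relIndex_top Sb)
    have hmem : π x ∈ (S : Subgroup G).map π ⊓ ⁅(⊤ : Subgroup (G ⧸ R)), ⊤⁆ := by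
      refine ⟨⟨x, hx.1, rfl⟩, ?_⟩
      have := mem_map_of_mem π hx.2
      rw [_root_.commutator_def, map_commutator, Subgroup.map_top_of_surjective _ hsurj] at this
      exact this
    rw [show (Sb : Subgroup (G ⧸ R)) = (S : Subgroup G).map π from rfl] at e
    rw [e] at hmem
    simp only [iSup_image, top_inf_eq] at hmem
    have hle : π x ∈ T.map π := by
      refine iSup₂_le (a := T.map π) (fun W hW => ?_) hmem
      set Nb := normalizer ((inducedFunctor W ((S : Subgroup G).map π) : Subgroup (G ⧸ R)) : Set (G ⧸ R)) with hNb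
      set Y := Nb.comap π with hY
      have hSY : (S : Subgroup G) ≤ Y := fun s hs =>
        TwoGroups.ConjFunctor.le_normalizer_apply (hcfb _ ⟨W, hW, rfl⟩) Sb.isPGroup'
          (le_normalizer (G := G ⧸ R) ⟨s, hs, rfl⟩)
      by_cases hYtop : Y = ⊤
      · have hn : (inducedFunctor W ((S : Subgroup G).map π)).Normal :=
          Subgroup.normalizer_eq_top_iff.mp (eq_top_iff.mpr fun y _ => by
            obtain ⟨y, rfl⟩ := hsurj y
            exact hYtop.ge (mem_top y))
        exact le_trans (inf_le_inf_left _ (commutator_mono le_top le_top)) (hnor W hW hn)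
      · have hNY : Nb = Y.map π := (Subgroup.map_comap_eq_self_of_surjective hsurj Nb).symm
        rw [hNY, ← map_commutator]
        refine le_trans (map_sylow_inf S _ ?_ π) (map_mono (hover Y hSY hYtop))
        exact hSY.trans (normalizer_commutator_ge_right Y Y |>.trans' le_rfl)
    obtain ⟨t, ht, he⟩ := hle
    exact ⟨t, ht, QuotientGroup.eq.mp he⟩
  -- the `p`-core is not trivial
  set P := pCore p G with hP
  haveI hPn : P.Normal := by rw [hP]; infer_instance
  have hPp : IsPGroup p P := Core.isPGroup_pCore p G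
  have hPS : P ≤ (S : Subgroup G) := Core.pCore_le_sylow S
  have hP1 : P ≠ ⊥ := by
    intro h0
    refine hG (TwoGroups.ConjFunctor.controlsTransfer_of_placed S
      (TwoGroups.ConjFunctor.placed_fullyNormalized S) hcf fun U hU hU1 => hsub _ fun e => hU1 ?_)
    exact le_bot_iff.mp (h0 ▸ Core.le_pCore (Subgroup.normalizer_eq_top_iff.mp e) (S.isPGroup'.to_le hU.1))
  have hNtop : ∀ W ∈ 𝓦, NW W ≠ ⊤ := fun W hW e => hfail (by
    have h1 := hWT W hW
    rwa [e, ← _root_.commutator_def] at h1)
  have hSn : normalizer ((S : Subgroup G) : Set G) ≠ ⊤ := fun e =>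
    hNtop W₀ hW₀ (top_le_iff.mp (e ▸ hnN W₀ hW₀))
  set D := T ⊓ P with hD
  have hcenH : ∀ H : Subgroup G, (S : Subgroup G) ≤ H → H ≠ ⊤ → ∀ h ∈ H, ∀ x ∈ P, ⁅h, x⁆ ∈ D := by
    intro H hSH hH h hh x hx
    have hmem : ⁅h, x⁆ ∈ P := commutator_le_right ⊤ P (commutator_mem_commutator (mem_top h) hx)
    exact ⟨hover H hSH hH ⟨hPS hmem, commutator_mem_commutator hh (hSH (hPS hx))⟩, hmem⟩
  have hPfail : ¬ P ⊓ commutator G ≤ D := by
    intro hle
    refine hfail fun x hx => ?_
    obtain ⟨t, ht, htx⟩ := hquot P hP1 (fun W hW hn => by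
      exfalso
      have hcW := isConjugacyFunctor_induced (h𝓦 W hW) (G ⧸ P)
      have hSbp : IsPGroup p ((S : Subgroup G).map (QuotientGroup.mk' P)) := S.isPGroup'.map _
      have hbot : inducedFunctor W ((S : Subgroup G).map (QuotientGroup.mk' P)) = ⊥ :=
        le_bot_iff.mp ((Core.pCore_quotient_pCore p G) ▸
          Core.le_pCore hn (hSbp.to_le (hcW _ hSbp).1))
      have hS0 : (S : Subgroup G).map (QuotientGroup.mk' P) = ⊥ := by
        by_contra hc
        exact (hcW _ hSbp).2.1 hc hbot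
      rw [Subgroup.map_eq_bot_iff, QuotientGroup.ker_mk'] at hS0
      haveI : (S : Subgroup G).Normal := (le_antisymm hS0 hPS) ▸ hPn
      exact hSn (Subgroup.normalizer_eq_top _)) x hx
    rw [show x = t * (t⁻¹ * x) by group]
    exact T.mul_mem ht (hle ⟨htx, (commutator G).mul_mem ((commutator G).inv_mem (hTG ht)) hx.2⟩).1
  have hTTD : P ⊓ ⁅(S : Subgroup G), (S : Subgroup G)⁆ ≤ D := fun x hx => ⟨hTT hx.2, hx.1⟩
  have hMtop : M ≠ ⊤ := hM ▸ normalizer_ne_top_of_failure S P D hPS hSn hcenH inf_le_right hTTD hPfail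
  have hHM : ∀ H : Subgroup G, (S : Subgroup G) ≤ H → H ≠ ⊤ → H ≤ M := by
    intro H hSH hH h hh
    rw [hM]
    refine mem_normalizer_fintype fun x hx => ?_
    have := mul_mem (hcenH H hSH hH h hh x hx.2) hx
    rwa [commutatorElement_def, inv_mul_cancel_right] at this
  have hSM : (S : Subgroup G) ≤ M := le_normalizer.trans (hHM _ le_normalizer hSn)
  -- no normal subgroup of order prime to `p`
  have hO : pPrimeCore p G = ⊥ := by
    by_contra hR
    refine hfail fun x hx => ?_
    obtain ⟨t, ht, htx⟩ := hquot (pPrimeCore p G) hR (fun W hW hn => by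
      set π := QuotientGroup.mk' (pPrimeCore p G) with hπ
      have hmap : inducedFunctor W ((S : Subgroup G).map π) = (inducedFunctor W (S : Subgroup G)).map π :=
        ((isPMap_induced (h𝓦 W hW)).map π (S : Subgroup G) S.isPGroup' (injOn_mk'_pPrimeCore S)).symm
      rw [hmap] at hn
      have hFr := sup_normalizer_of_map_normal (K := pPrimeCore p G)
        (S.isPGroup'.to_le ((isPMap_induced (h𝓦 W hW)).le _ S.isPGroup'))
        (Core.card_pPrimeCore_coprime p G) hn
      have htop : (NW W).map π = ⊤ := by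
        have h1 := congrArg (Subgroup.map π) hFr
        rw [Subgroup.map_sup, Subgroup.map_top_of_surjective π (QuotientGroup.mk'_surjective _),
          show (pPrimeCore p G).map π = ⊥ from QuotientGroup.map_mk'_self _, bot_sup_eq] at h1
        exact h1
      rw [_root_.commutator_def, ← htop, ← map_commutator]
      exact le_trans (map_sylow_inf S _ ((le_normalizer.trans (hnN W hW)).trans
        (normalizer_commutator_ge_right _ _)) π) (map_mono (hWT W hW))) x hx
    have h1 : QuotientGroup.mk' (pPrimeCore p G) t = QuotientGroup.mk' (pPrimeCore p G) x :=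
      QuotientGroup.eq.mpr htx
    exact injOn_mk'_pPrimeCore S (hTS ht) hx.1 h1 ▸ ht
  -- constrained
  have hC : centralizer (P : Set G) ≤ P := by
    set C := centralizer (P : Set G) with hCdef
    set Q := (S : Subgroup G) ⊓ C with hQ
    haveI hCn : C.Normal := inferInstance
    have hQi : ¬ p ∣ Q.relIndex C := by
      rw [← Fusion.relIndex_sup_normalized (L := ⊤) le_top le_top
        (le_of_le_of_eq le_top (Subgroup.normalizer_eq_top C).symm)]
      exact fun h => S.not_dvd_index (h.trans (relIndex_dvd_index_of_le le_sup_left))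
    let Qc : Sylow p C := IsPGroup.toSylow (P := Q.subgroupOf C) (S.isPGroup'.to_le inf_le_left).comap_subtype hQi
    have hQP : Q ≤ P := by
      by_contra hQP
      have hSQ : (S : Subgroup G) ≤ normalizer (Q : Set G) := fun s hs =>
        mem_normalizer_fintype fun q hq => ⟨(S : Subgroup G).mul_mem ((S : Subgroup G).mul_mem hs hq.1) ((S : Subgroup G).inv_mem hs), hCn.conj_mem q hq.2 s⟩
      have hNQ : normalizer (Q : Set G) ≠ ⊤ := fun e =>
        hQP (Core.le_pCore (Subgroup.normalizer_eq_top_iff.mp e) (S.isPGroup'.to_le inf_le_left))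
      have h1 := Sylow.normalizer_sup_eq_top Qc
      rw [show ((Qc : Subgroup C).map C.subtype) = Q by
        show (Q.subgroupOf C).map C.subtype = Q
        rw [subgroupOf_map_subtype, inf_eq_left.2 inf_le_right]] at h1
      refine hMtop (top_le_iff.mp (h1.ge.trans (sup_le (hHM _ hSQ hNQ) fun c hc => ?_)))
      rw [hM]
      refine mem_normalizer_fintype fun x hx => ?_
      rwa [← mem_centralizer_iff.mp hc x hx.2, mul_inv_cancel_right]
    intro c hc
    have hcen : (Qc : Subgroup C) ≤ center C := fun q hq => mem_center_iff.mpr fun d =>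
      Subtype.ext (mem_centralizer_iff.mp d.2 (q : G) (hQP hq)).symm
    obtain ⟨z, hz, k, hk, hzk⟩ := exists_mul_of_central_sylow Qc hcen ⟨c, hc⟩
    have hk' : (k : G) ∈ pPrimeCore p G := by
      haveI : ((pPrimeCore p C).map C.subtype).Normal := Core.normal_map_subtype_of_characteristic _
      refine Core.le_pPrimeCore inferInstance ?_ (mem_map_of_mem C.subtype hk)
      rw [Subgroup.card_map_of_injective C.subtype_injective]
      exact Core.card_pPrimeCore_coprime p C
    rw [hO, mem_bot] at hk'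
    have : c = (z : G) * (k : G) := congrArg Subtype.val hzk
    rw [this, hk', mul_one]
    exact hQP hz
  refine ⟨hC, ⟨hMtop, hHM⟩, ⟨le_inf (commutator_le_left P M) (commutator_mono (hPS.trans hSM) le_rfl), ?_⟩,
    fun u huS huP => ?_⟩
  · exact le_inf inf_le_left fun x hx => hover M hSM hMtop ⟨hPS hx.1, hx.2⟩
  · by_contra hno
    push Not at hno
    exact hPfail (pCore_inf_commutator_le_of_low S D hSn inf_le_right hcenH hTTD u huS huP hno)

end Cfsg.Agent.PLocal
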