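/-
Fixed points of coprime operators when `J(G)` acts non-trivially on `V`.
-/
import Cfsg.Agent.PLocal.OffenderSymmetry
import Cfsg.Agent.PLocal.OffenderQuotient

set_option linter.unusedSectionVars false
set_option linter.style.haveILetI false

namespace Cfsg.Agent.PLocal

open Subgroup Cfsg
open scoped commutatorElement

universe u

variable {G : Type u} [Group G] [Finite G] {p : ℕ} [hp : Fact p.Prime]

theorem exists_factor_amb (V : Subgroup G) [V.Normal] (hsep : IsPSolvable p G) (hV : IsElementaryAbelian p V)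
    (hO : pCore p (G ⧸ centralizer (V : Set G)) = ⊥) (hJ : ¬ thompsonSubgroup p G ≤ centralizer (V : Set G)) :
    Nonempty (OffCtx.Factor p (ambV V) (ambJ V p)) := by
  by_contra hne
  rw [not_nonempty_iff] at hne
  apply hJ
  have h := (offCtx_amb V hsep hV hO).factor_iSup (ambJ_gen V hV)
  rw [iSup_of_empty] at h
  exact (ambMap_ker V).le.trans' ((Subgroup.map_eq_bot_iff _).mp h.symm)

theorem six_coprime (V : Subgroup G) [V.Normal] (hsep : IsPSolvable p G) (hV : IsElementaryAbelian p V)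
    (hO : pCore p (G ⧸ centralizer (V : Set G)) = ⊥) (hJ : ¬ thompsonSubgroup p G ≤ centralizer (V : Set G))
    {X : Subgroup G} (hcop : (Nat.card X).Coprime (Nat.card (thompsonSubgroup p G))) :
    (Nat.card (X.map (ambMap V))).Coprime 6 := by
  obtain ⟨E⟩ := exists_factor_amb V hsep hV hO hJ
  have hc := offCtx_amb V hsep hV hO
  exact (hcop.coprime_dvd_left (Subgroup.card_map_dvd _ _)).coprime_dvd_right
    ((hc.factor_card_dvd E).trans ((Subgroup.card_dvd_of_le (hc.factor_le E)).trans (Subgroup.card_map_dvd _ _)))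

theorem map_le_normalizers (V : Subgroup G) [V.Normal] (X : Subgroup G) :
    X.map (ambMap V) ≤ normalizer (ambV V : Set (Amb V)) ∧
      X.map (ambMap V) ≤ normalizer (ambJ V p : Set (Amb V)) := by
  refine ⟨((Subgroup.map_mono le_top).trans (MonoidHom.range_eq_map _).ge).trans (range_le_normalizer V), ?_⟩
  refine le_trans (Subgroup.map_mono ?_) (Subgroup.le_normalizer_map (ambMap V))
  rw [Subgroup.normalizer_eq_top]
  exact le_top

/-- Fixed points lift. -/
theorem exists_lift_fixed (V : Subgroup G) [V.Normal] {X : Subgroup G} [Group.IsSolvable X]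
    (hcop : (Nat.card X).Coprime (Nat.card (thompsonSubgroup p G))) {c : Amb V} (hc : c ∈ ambJ V p)
    (hX : c ∈ centralizer (X.map (ambMap V) : Set (Amb V))) :
    ∃ k ∈ thompsonSubgroup p G, k ∈ centralizer (X : Set G) ∧ ambMap V k = c := by
  obtain ⟨k0, hk0, rfl⟩ := hc
  have hXn : X ≤ normalizer (thompsonSubgroup p G : Set G) := by rw [Subgroup.normalizer_eq_top]; exact le_top
  have hXM : X ≤ normalizer (thompsonSubgroup p G ⊓ centralizer (V : Set G) : Set G) :=
    (le_inf hXn (le_of_le_of_eq le_top (Subgroup.normalizer_eq_top _).symm)).trans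
      Subgroup.inf_normalizer_le_normalizer_inf
  obtain ⟨m, hm, k, hk, e⟩ := Coprime.exists_mul_centralizer (M := thompsonSubgroup p G ⊓ centralizer (V : Set G))
    hXn hcop inf_le_left hXM hk0 fun a ha => by
      refine ⟨?_, ?_⟩
      · show ⁅k0, a⁆ ∈ thompsonSubgroup p G
        rw [show ⁅k0, a⁆ = k0 * (a * k0⁻¹ * a⁻¹) by simp only [commutatorElement_def]; group]
        exact mul_mem hk0 ((mem_normalizer_iff.mp (hXn ha) _).mp (inv_mem hk0))
      · show ⁅k0, a⁆ ∈ centralizer (V : Set G)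
        rw [← ambMap_ker, MonoidHom.mem_ker, map_commutatorElement, commutatorElement_eq_one_iff_mul_comm]
        exact (Subgroup.mem_centralizer_iff.mp hX _ ⟨a, ha, rfl⟩).symm
  refine ⟨k, hk.1, hk.2, ?_⟩
  have hm1 : ambMap V m = 1 := by rw [← MonoidHom.mem_ker, ambMap_ker]; exact hm.2
  rw [e, map_mul, hm1, one_mul]

/-- `C_J(X)` and a Sylow subgroup generate `J` modulo `C(V)`. -/
theorem thompson_le_of_fixed (V : Subgroup G) [V.Normal] (hsep : IsPSolvable p G) (hV : IsElementaryAbelian p V)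
    (hO : pCore p (G ⧸ centralizer (V : Set G)) = ⊥) {X : Subgroup G} [Group.IsSolvable X]
    (hcop : (Nat.card X).Coprime (Nat.card (thompsonSubgroup p G))) (S : Sylow p G) {M : Subgroup G}
    (hC : thompsonSubgroup p G ⊓ centralizer (V : Set G) ≤ M) (hS : (S : Subgroup G) ⊓ thompsonSubgroup p G ≤ M)
    (hX : thompsonSubgroup p G ⊓ centralizer (X : Set G) ≤ M) : thompsonSubgroup p G ≤ M := by
  by_cases hJ : thompsonSubgroup p G ≤ centralizer (V : Set G)
  · exact (le_inf le_rfl hJ).trans hC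
  set J := thompsonSubgroup p G with hJdef
  set π := ambMap V with hπ
  have hc := offCtx_amb V hsep hV hO
  have hgen := ambJ_gen V hV
  obtain ⟨hXV, hXH⟩ := map_le_normalizers (p := p) V X
  have h6 := six_coprime V hsep hV hO hJ hcop
  suffices h : ambJ V p ≤ (M ⊓ J).map π by
    intro g hg
    obtain ⟨m, hm, e⟩ := h ⟨g, hg, rfl⟩
    rw [show g = m * (m⁻¹ * g) by group]
    have hmJ : m ∈ J := hm.2
    refine mul_mem hm.1 (hC ⟨(show m⁻¹ * g ∈ J from mul_mem (inv_mem hmJ) hg), ?_⟩)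
    show m⁻¹ * g ∈ centralizer (V : Set G)
    rw [← ambMap_ker, MonoidHom.mem_ker, map_mul, map_inv, ← hπ, e, inv_mul_cancel]
  refine (hc.factor_iSup hgen).ge.trans (iSup_le fun E => ?_)
  obtain ⟨A, hA, hTA, eA⟩ := hc.factor_spec E
  rw [eA]
  set E' := eOff p (ambJ V p) A with hE'
  haveI : J.Normal := inferInstance
  -- a Sylow subgroup of `E` inside the image of `S`
  obtain ⟨T, hT⟩ := exists_sylow_inf S J
  set E₀ := (E'.comap π).subgroupOf J with hE₀
  haveI : E₀.Normal := ⟨fun x hx g => by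
    show π ((g : G) * x * (g : G)⁻¹) ∈ E'
    rw [map_mul, map_mul, map_inv]
    exact (mem_normalizer_iff.mp (hc.H_normalizes hgen hA hTA ⟨g, g.2, rfl⟩) _).mp hx⟩
  obtain ⟨T', hT'⟩ := exists_sylow_inf T E₀
  let f : E₀ →* E' := ((π.comp J.subtype).comp E₀.subtype).codRestrict _ fun x => x.2
  have hfs : Function.Surjective f := by
    rintro ⟨y, hy⟩
    obtain ⟨g, hg, rfl⟩ := hc.eOff_le_H hA hy
    exact ⟨⟨⟨g, hg⟩, hy⟩, rfl⟩
  set P := T'.mapSurjective hfs with hP
  set B := (P : Subgroup E').map E'.subtype with hB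
  have hBM : B ≤ (M ⊓ J).map π := by
    rintro _ ⟨y, hy, rfl⟩
    rw [Sylow.coe_mapSurjective] at hy
    obtain ⟨x, hx, rfl⟩ := hy
    have h1 : (x : J) ∈ (T : Subgroup J) ⊓ E₀ := hT' ▸ ⟨x, hx, rfl⟩
    have h2 : ((x : J) : G) ∈ (S : Subgroup G) ⊓ J := hT ▸ ⟨(x : J), h1.1, rfl⟩
    exact ⟨((x : J) : G), ⟨hS h2, (x : J).2⟩, rfl⟩
  have hdvd : p ∣ Nat.card E' := hTA.card ▸ Subgroup.card_dvd_of_le (le_sup_right : A ≤ E')
  have hBc : Nat.card B = p := by
    rw [hB, Subgroup.card_map_of_injective E'.subtype_injective, P.card_eq_multiplicity]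
    obtain ⟨e⟩ := (hc.eOff_decomp hA hTA).2.2.2
    haveI : NeZero p := ⟨hp.out.ne_zero⟩
    rw [Nat.card_congr e.toEquiv, Linear.card_SL_two, ZMod.card]
    rcases hc.prime_eq hA hTA with h | h <;> subst h
    · rw [show (2 * (2 ^ 2 - 1) : ℕ) = 2 * 3 from rfl, Nat.factorization_mul (by norm_num) (by norm_num),
        Finsupp.add_apply, Nat.Prime.factorization_self Nat.prime_two,
        Nat.factorization_eq_zero_of_not_dvd (by norm_num : ¬ 2 ∣ 3)]
      rfl
    · rw [show (3 * (3 ^ 2 - 1) : ℕ) = 3 * 8 from rfl, Nat.factorization_mul (by norm_num) (by norm_num),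
        Finsupp.add_apply, Nat.Prime.factorization_self Nat.prime_three,
        Nat.factorization_eq_zero_of_not_dvd (by norm_num : ¬ 3 ∣ 8)]
      rfl
  obtain ⟨g, hg, hgA⟩ : ∃ g ∈ E', A.map (MulAut.conj g).toMonoidHom = B := by
    obtain ⟨Q, hQ⟩ := ((IsPGroup.of_card (p := p) (n := 1) (by rw [hTA.card, pow_one])).of_equiv
      (Subgroup.subgroupOfEquivOfLe (show A ≤ E' from le_sup_right)).symm).exists_le_sylow
    obtain ⟨g, hg⟩ := MulAction.exists_smul_eq E' Q P
    refine ⟨g, g.2, Subgroup.eq_of_le_of_card_ge ?_ (by rw [hBc, Subgroup.card_map_of_injective (MulAut.conj (g : Amb V)).injective, hTA.card])⟩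
    rintro _ ⟨a, ha, rfl⟩
    refine ⟨g * ⟨a, (le_sup_right : A ≤ E') ha⟩ * g⁻¹, ?_, rfl⟩
    rw [← hg, Sylow.coe_subgroup_smul]
    exact ⟨⟨a, (le_sup_right : A ≤ E') ha⟩, hQ (Subgroup.mem_subgroupOf.mpr ha), rfl⟩
  have hgH := hc.eOff_le_H hA hg
  have hTB : IsTrans p (ambV V) B := hgA ▸ hc.conj_trans hTA hgH
  have hBH : B ≤ ambJ V p := (Subgroup.map_subtype_le _).trans (hc.eOff_le_H hA)
  have hEB : eOff p (ambJ V p) B = E' := by
    rw [← hgA, hc.eOff_conj hA hgH]
    exact Subgroup.mem_normalizer_iff_map_conj_eq.mp (Subgroup.le_normalizer hg)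
  obtain ⟨x, hx, hxB⟩ : ∃ x ∈ ⁅oQ p (ambJ V p) , A⁆, x ∉ centralizer (B : Set (Amb V)) := by
    by_contra hcon
    push Not at hcon
    refine hc.no_line_qA hA hTA (X := ⁅ambV V, B⁆)
      (commutator_mono le_rfl (Subgroup.map_subtype_le _)) hTB.cardP fun q hq => ?_
    exact hc.norm_commutator (hc.act.norm (hc.eOff_le_H hA (hc.qA_le hq)))
      (Subgroup.centralizer_le_normalizer _ (hcon q hq))
  obtain ⟨-, -, hE⟩ := hc.eOff_facts_of hBH hTB (hc.commutator_le_Q hA hx) hxB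
  rw [← hEB, hE]
  refine sup_le hBM ?_
  obtain ⟨c, hcH, hcX, hcE⟩ := hc.exists_glue hgen hXV hXH h6 E (a := x) (eA.ge (hc.qA_le hx))
  rw [eA] at hcE
  obtain ⟨k, hkJ, hkX, hk⟩ := exists_lift_fixed V hcop hcH hcX
  rintro _ ⟨b, hb, rfl⟩
  obtain ⟨m, hm, rfl⟩ := hBM hb
  have hmM : m ∈ M := hm.1
  have hmJ : m ∈ J := hm.2
  refine ⟨k * m * k⁻¹, ⟨(show k * m * k⁻¹ ∈ M from mul_mem (mul_mem (hX ⟨hkJ, hkX⟩) hmM) (inv_mem (hX ⟨hkJ, hkX⟩))),
    (show k * m * k⁻¹ ∈ J from mul_mem (mul_mem hkJ hmJ) (inv_mem hkJ))⟩, ?_⟩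
  rw [map_mul, map_mul, map_inv, show π k = c from hk]
  show c * π m * c⁻¹ = x * π m * x⁻¹
  have hmE : π m ∈ E' := Subgroup.map_subtype_le _ hb
  have h1 : Commute (π m) (x⁻¹ * c) := commutatorElement_eq_one_iff_mul_comm.mp (Subgroup.mem_bot.mp
    (hc.eOff_comm_centralizer hgen hA hTA ▸ commutator_mem_commutator hmE
      (Subgroup.mem_inf.mpr ⟨mul_mem (inv_mem (hc.eOff_le_H hA (hc.qA_le hx))) hcH, hcE⟩)))
  calc c * π m * c⁻¹ = x * ((x⁻¹ * c) * π m) * c⁻¹ := by group
    _ = x * (π m * (x⁻¹ * c)) * c⁻¹ := by rw [h1.eq]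
    _ = _ := by group

/-- The fixed points of `X` contain a plane on which they induce `SL(2, p)`. -/
theorem exists_fixed_sl2 (V : Subgroup G) [V.Normal] (hsep : IsPSolvable p G) (hV : IsElementaryAbelian p V)
    (hO : pCore p (G ⧸ centralizer (V : Set G)) = ⊥) (hJ : ¬ thompsonSubgroup p G ≤ centralizer (V : Set G))
    {X : Subgroup G} [Group.IsSolvable X] (hcop : (Nat.card X).Coprime (Nat.card (thompsonSubgroup p G))) :
    (p = 2 ∨ p = 3) ∧ ∃ W : Subgroup G, W ≤ V ⊓ centralizer (X : Set G) ∧ Nat.card W = p ^ 2 ∧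
      thompsonSubgroup p G ⊓ centralizer (X : Set G) ≤ normalizer (W : Set G) ∧
      ∃ φ : (thompsonSubgroup p G ⊓ centralizer (X : Set G) : Subgroup G) →*
        Matrix.SpecialLinearGroup (Fin 2) (ZMod p), Function.Surjective φ ∧ φ.ker =
          (centralizer (W : Set G)).subgroupOf (thompsonSubgroup p G ⊓ centralizer (X : Set G)) := by
  set π := ambMap V with hπ
  set ι : V →* Amb V := SemidirectProduct.inl with hι
  have hιi : Function.Injective ι := SemidirectProduct.inl_injective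
  have hc := offCtx_amb V hsep hV hO
  have hgen := ambJ_gen V hV
  obtain ⟨hXV, hXH⟩ := map_le_normalizers (p := p) V X
  have h6 := six_coprime V hsep hV hO hJ hcop
  obtain ⟨E⟩ := exists_factor_amb V hsep hV hO hJ
  obtain ⟨A, hA, hTA, eA⟩ := hc.factor_spec E
  refine ⟨hc.prime_eq hA hTA, ?_⟩
  set P := OffCtx.orbitPlane (X.map π) E with hP
  have hPV : P ≤ ambV V := hc.orbitPlane_le_V hgen hXV hXH h6 E
  set D := thompsonSubgroup p G ⊓ centralizer (X : Set G) with hD
  have hDfix : ∀ d ∈ D, π d ∈ ambJ V p ∧ π d ∈ centralizer (X.map π : Set (Amb V)) := fun d hd =>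
    ⟨⟨d, hd.1, rfl⟩, Subgroup.mem_centralizer_iff.mpr fun _ ⟨x, hx, e⟩ => by
      rw [← e, ← map_mul, ← map_mul, Subgroup.mem_centralizer_iff.mp hd.2 x hx]⟩
  set W := (P.comap ι).map V.subtype with hW
  refine ⟨W, ?_, ?_, ?_, ?_⟩
  · rintro _ ⟨v, hv, rfl⟩
    refine ⟨v.2, Subgroup.mem_centralizer_iff.mpr fun x hx => ?_⟩
    exact (ambMap_commute_iff V x v).mp (Subgroup.mem_centralizer_iff.mp hv.1.2 _ ⟨x, hx, rfl⟩)
  · rw [hW, Subgroup.card_map_of_injective V.subtype_injective, ← Subgroup.card_map_of_injective hιi,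
      Subgroup.map_comap_eq_self hPV]
    exact hc.card_orbitPlane hgen hXV hXH h6 E
  · intro d hd
    refine mem_normalizer_fintype ?_
    rintro _ ⟨v, hv, rfl⟩
    refine ⟨MulAut.conjNormal d v, ?_, rfl⟩
    show ι _ ∈ P
    rw [hι, ← ambMap_conj]
    exact (mem_normalizer_iff.mp (hc.orbitPlane_invariant hgen hXV hXH h6 E (hDfix d hd).1 (hDfix d hd).2) _).mp hv
  · obtain ⟨e⟩ := (hc.eOff_decomp hA hTA).2.2.2
    set E' := eOff p (ambJ V p) A with hE'
    set U := ⁅ambV V, E'⁆ with hU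
    -- the projection to the factor
    have hex : ∀ d : D, ∃ a : E', (a : Amb V)⁻¹ * π d ∈ ambJ V p ⊓ centralizer (U : Set (Amb V)) := by
      intro d
      have hn : ambJ V p ⊓ centralizer (U : Set (Amb V)) ≤ normalizer (E' : Set (Amb V)) :=
        inf_le_left.trans (hc.H_normalizes hgen hA hTA)
      obtain ⟨a, ha, r, hr, h⟩ := Coprime.exists_mul_of_mem_sup hn
        ((hc.eOff_sup_centralizer hgen hA hTA).ge (hDfix d d.2).1)
      exact ⟨⟨a, ha⟩, by show a⁻¹ * π d ∈ _; rw [← h, inv_mul_cancel_left]; exact hr⟩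
    choose f hf using hex
    have huniq : ∀ a b : E', ∀ g : Amb V, (a : Amb V)⁻¹ * g ∈ ambJ V p ⊓ centralizer (U : Set (Amb V)) →
        (b : Amb V)⁻¹ * g ∈ ambJ V p ⊓ centralizer (U : Set (Amb V)) → a = b := by
      intro a b g ha hb
      have h := mul_mem ha (inv_mem hb)
      rw [mul_inv_rev, inv_inv, mul_assoc, mul_inv_cancel_left] at h
      have := Subgroup.mem_bot.mp ((hc.eOff_inf_centralizer hgen hA hTA).le
        (Subgroup.mem_inf.mpr ⟨mul_mem (inv_mem a.2) b.2, h⟩))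
      exact Subtype.ext (inv_mul_eq_one.mp this)
    let φ : D →* E' := MonoidHom.mk' f fun d d' => huniq _ _ (π ((d * d' : D) : G)) (hf _) (by
      rw [Subgroup.coe_mul, Subgroup.coe_mul, map_mul]
      have h1 : Commute (f d' : Amb V) ((f d : Amb V)⁻¹ * π d) := commutatorElement_eq_one_iff_mul_comm.mp
        (Subgroup.mem_bot.mp (hc.eOff_comm_centralizer hgen hA hTA ▸ commutator_mem_commutator (f d').2 (hf d)))
      rw [show ((f d : Amb V) * f d')⁻¹ * (π d * π d') = ((f d' : Amb V))⁻¹ * (((f d : Amb V)⁻¹ * π d) * π d') by group,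
        show ((f d : Amb V)⁻¹ * π d) * π d' = ((f d : Amb V)⁻¹ * π d) * (f d' * ((f d' : Amb V)⁻¹ * π d')) by group,
        ← mul_assoc ((f d : Amb V)⁻¹ * π d), ← h1.eq, mul_assoc, inv_mul_cancel_left]
      exact mul_mem (hf d) (hf d'))
    refine ⟨e.toMonoidHom.comp φ, ?_, ?_⟩
    · intro y
      obtain ⟨a, rfl⟩ := e.surjective y
      obtain ⟨c, hcH, hcX, hcE⟩ := hc.exists_glue hgen hXV hXH h6 E (a := (a : Amb V)) (eA.ge a.2)
      rw [eA] at hcE
      obtain ⟨k, hkJ, hkX, hk⟩ := exists_lift_fixed V hcop hcH hcX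
      refine ⟨⟨k, hkJ, hkX⟩, congrArg e (huniq _ _ (π k) (hf _) ?_)⟩
      rw [hk]
      exact Subgroup.mem_inf.mpr ⟨mul_mem (inv_mem (hc.eOff_le_H hA a.2)) hcH, hcE⟩
    · ext d
      rw [MonoidHom.mem_ker, Subgroup.mem_subgroupOf]
      show e (φ d) = 1 ↔ _
      rw [map_eq_one_iff e e.injective]
      have h1 : φ d = 1 ↔ π d ∈ centralizer (U : Set (Amb V)) := by
        constructor
        · intro h
          have h' := (hf d).2
          rwa [show f d = 1 from h, OneMemClass.coe_one, inv_one, one_mul] at h'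
        · intro h
          refine huniq _ _ (π d) (hf d) ?_
          rw [OneMemClass.coe_one, inv_one, one_mul]
          exact ⟨(hDfix d d.2).1, h⟩
      rw [h1, hU, ← eA, ← hc.fix_orbitPlane_iff hgen hXV hXH h6 E (hDfix d d.2).1 (hDfix d d.2).2,
        Subgroup.mem_centralizer_iff, Subgroup.mem_centralizer_iff]
      constructor
      · rintro h _ ⟨v, hv, rfl⟩
        exact ((ambMap_commute_iff V d v).mp (h _ hv).symm).symm
      · intro h w hw
        obtain ⟨v, rfl⟩ := hPV hw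
        exact ((ambMap_commute_iff V d v).mpr (h _ ⟨v, hw, rfl⟩).symm).symm

end Cfsg.Agent.PLocal
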