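/-
The setting of a group `K` normalized by a coprime group, inside `L = K X`.
-/
import Cfsg.Agent.PLocal.OffenderFixed

set_option linter.unusedSectionVars false
set_option linter.style.haveILetI false

namespace Cfsg.Agent.PLocal

open Subgroup Cfsg
open scoped commutatorElement

universe u

variable {K L : Type u} [Group K] [Finite K] [Group L] [Finite L] {p : ℕ} [hp : Fact p.Prime]
  (ι : K →* L) (hι : Function.Injective ι) [ι.range.Normal] (hidx : ι.range.index.Coprime p)
include hι hidx

/-- `p`-subgroups of `L` lie in `K`. -/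
theorem le_range_of_isPGroup {Q : Subgroup L} (hQ : IsPGroup p Q) : Q ≤ ι.range := fun x hx => by
  obtain ⟨k, hk⟩ := hQ ⟨x, hx⟩
  have hxk : x ^ p ^ k = 1 := congrArg Subtype.val hk
  rw [← QuotientGroup.eq_one_iff, ← orderOf_eq_one_iff]
  refine Nat.eq_one_of_dvd_coprimes (hidx.pow_right k) ?_ ?_
  · rw [Subgroup.index_eq_card]; exact orderOf_dvd_natCard _
  · rw [orderOf_dvd_iff_pow_eq_one, ← QuotientGroup.mk_pow, hxk, QuotientGroup.mk_one]

theorem sylow_map_embed (S : Sylow p K) : ∃ T : Sylow p L, (T : Subgroup L) = (S : Subgroup K).map ι := by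
  refine ⟨⟨_, S.isPGroup'.map ι, fun {Q} hQ hle => ?_⟩, rfl⟩
  have hQr := le_range_of_isPGroup ι hι hidx hQ
  have h : Q.comap ι = (S : Subgroup K) :=
    S.is_maximal' (hQ.comap_of_injective ι hι) (fun x hx => hle ⟨x, hx, rfl⟩)
  rw [← h, Subgroup.map_comap_eq_self hQr]

theorem thompsonSubgroup_embed : thompsonSubgroup p L = (thompsonSubgroup p K).map ι := by
  refine le_antisymm (sSup_le fun A hA => ?_) (Subgroup.map_le_iff_le_comap.mpr (sSup_le fun A hA => ?_))
  · have hAr := le_range_of_isPGroup ι hι hidx (isPGroup_of_EA hA.1)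
    rw [← Subgroup.map_comap_eq_self hAr]
    refine Subgroup.map_mono (le_thompsonSubgroup ⟨isEA_comap hA.1 ι hι, fun B hB => ?_⟩)
    have h := hA.2 _ (isEA_map hB ι)
    rw [Subgroup.card_map_of_injective hι] at h
    rwa [← Subgroup.map_comap_eq_self hAr, Subgroup.card_map_of_injective hι] at h
  · refine Subgroup.map_le_iff_le_comap.mp (le_thompsonSubgroup ⟨isEA_map hA.1 ι, fun B hB => ?_⟩)
    have hBr := le_range_of_isPGroup ι hι hidx (isPGroup_of_EA hB)
    rw [← Subgroup.map_comap_eq_self hBr, Subgroup.card_map_of_injective hι, Subgroup.card_map_of_injective hι]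
    exact hA.2 _ (isEA_comap hB ι hι)

theorem omegaGen_embed_normal : ((omegaGen p K).map ι).Normal := by
  refine ⟨?_⟩
  rintro _ ⟨x, hx, rfl⟩ g
  let e : K ≃* K := (MonoidHom.ofInjective hι).trans ((MulAut.conjNormal g).trans (MonoidHom.ofInjective hι).symm)
  have he : ∀ y, ι (e y) = g * ι y * g⁻¹ := fun y => by
    show ι ((MonoidHom.ofInjective hι).symm (MulAut.conjNormal g (MonoidHom.ofInjective hι y))) = _
    rw [MonoidHom.apply_ofInjective_symm hι, MulAut.conjNormal_apply]
    rfl
  refine ⟨e x, ?_, he x⟩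
  have hle : (omegaGen p K).map e.toMonoidHom ≤ omegaGen p K := by
    rw [Subgroup.map_iSup]
    refine iSup_le fun S => ?_
    rw [omegaZ_map _ e.injective.injOn]
    exact le_iSup (fun T : Sylow p K => omegaZ p (T : Subgroup K)) (S.mapSurjective (f := e.toMonoidHom) e.surjective)
  exact hle ⟨x, hx, rfl⟩

theorem isPSolvable_embed (hsep : IsPSolvable p K) : IsPSolvable p L := by
  refine Core.isPSolvable_of_normal ι.range (Core.isPSolvable_congr (MonoidHom.ofInjective hι) hsep) ?_
  rw [Core.isPSolvable_iff, ← compl_compl ({p} : Set ℕ)]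
  refine Core.isPiSeparable_compl (Core.isPiSeparable_of_isPiNat
    ((Core.isPiNat_compl_singleton_iff_coprime hp.out).mpr ?_))
  rwa [← Subgroup.index_eq_card]

theorem pCore_embed (V : Subgroup L) [V.Normal] (hV : V = (omegaGen p K).map ι) :
    pCore p (L ⧸ centralizer (V : Set L)) = ⊥ := by
  refine pCore_quotient_centralizer_eq_bot V fun W hW => ?_
  rw [hV, Subgroup.map_le_iff_le_comap]
  refine iSup_le fun S => ?_
  obtain ⟨T, hT⟩ := sylow_map_embed ι hι hidx S
  rw [← Subgroup.map_le_iff_le_comap]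
  refine le_trans (le_inf ?_ ?_) (hW T)
  · rw [hV]; exact Subgroup.map_mono (le_iSup (fun S : Sylow p K => omegaZ p (S : Subgroup K)) S)
  · rw [hT]
    rintro _ ⟨x, hx, rfl⟩
    rw [Subgroup.mem_centralizer_iff]
    rintro _ ⟨y, hy, rfl⟩
    rw [← map_mul, ← map_mul, Subgroup.mem_centralizer_iff.mp (omegaZ_le _ hx).2 y hy]

omit hidx in
theorem comap_centralizer_embed (U : Subgroup K) :
    (centralizer ((U.map ι : Subgroup L) : Set L)).comap ι = centralizer (U : Set K) := by
  ext x
  rw [Subgroup.mem_comap, Subgroup.mem_centralizer_iff, Subgroup.mem_centralizer_iff]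
  constructor
  · intro h y hy
    apply hι
    rw [map_mul, map_mul]
    exact h _ ⟨y, hy, rfl⟩
  · rintro h _ ⟨y, hy, rfl⟩
    rw [← map_mul, ← map_mul, h y hy]

/-- Generation by `N(J(S))`, `C(Ω₁(Z(S)))` and fixed points. -/
theorem generation_embed (hsep : IsPSolvable p K) (hO : pPrimeCore p K = ⊥) {X : Subgroup L} [Group.IsSolvable X]
    (hcop : (Nat.card X).Coprime (Nat.card (thompsonSubgroup p K))) (S : Sylow p K) :
    normalizer (thompsonSubgroupOf p (S : Subgroup K) : Set K) ⊔ centralizer (omegaZ p (S : Subgroup K) : Set K) ⊔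
      (centralizer (X : Set L)).comap ι = ⊤ := by
  set M := normalizer (thompsonSubgroupOf p (S : Subgroup K) : Set K) ⊔ centralizer (omegaZ p (S : Subgroup K) : Set K) ⊔
      (centralizer (X : Set L)).comap ι with hM
  have hN : normalizer (thompsonSubgroupOf p (S : Subgroup K) : Set K) ≤ M := le_sup_left.trans le_sup_left
  have hZ : centralizer (omegaZ p (S : Subgroup K) : Set K) ≤ M := le_sup_right.trans le_sup_left
  have hXM : (centralizer (X : Set L)).comap ι ≤ M := le_sup_right
  haveI := omegaGen_normal (p := p) (G := K)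
  set C := centralizer (omegaGen p K : Set K) with hC
  have hCM : C ≤ M :=
    (Subgroup.centralizer_le (SetLike.coe_subset_coe.mpr (le_iSup (fun T : Sylow p K => omegaZ p (T : Subgroup K)) S))).trans hZ
  have hSN : (S : Subgroup K) ≤ normalizer (thompsonSubgroupOf p (S : Subgroup K) : Set K) := by
    intro s hs
    have h := Subgroup.mem_normalizer_iff_map_conj_eq.mp (Subgroup.le_normalizer hs)
    rw [Subgroup.mem_normalizer_iff_map_conj_eq]
    show (thompsonSubgroupOf p (S : Subgroup K)).map (MulAut.conj s).toMonoidHom = _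
    change (S : Subgroup K).map (MulAut.conj s).toMonoidHom = _ at h
    rw [Core.ThompsonComplement.thompsonSubgroupOf_map _ (MulAut.conj s).injective.injOn, h]
  haveI hn := omegaGen_embed_normal (p := p) ι hι hidx
  set V := (omegaGen p K).map ι with hV
  have hJL := thompsonSubgroup_embed (p := p) ι hι hidx
  obtain ⟨T, hT⟩ := sylow_map_embed ι hι hidx S
  have hJ : thompsonSubgroup p K ≤ M := by
    have h := thompson_le_of_fixed V (isPSolvable_embed ι hι hidx hsep)
      (isEA_map (omegaGen_isEA (Core.centralizer_pCore_le hsep hO)) ι) (pCore_embed ι hι hidx V hV)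
      (X := X) (by rw [hJL, Subgroup.card_map_of_injective hι]; exact hcop) T (M := M.map ι) ?_ ?_ ?_
    · rw [hJL] at h
      exact (Subgroup.map_le_map_iff_of_injective hι).mp h
    · rw [hJL]
      rintro _ ⟨⟨x, hx, rfl⟩, hxc⟩
      refine ⟨x, hCM ?_, rfl⟩
      rw [hC, ← comap_centralizer_embed ι hι]
      exact hxc
    · rw [hT]
      exact inf_le_left.trans (Subgroup.map_mono (hSN.trans hN))
    · rw [hJL]
      rintro _ ⟨⟨x, hx, rfl⟩, hxc⟩
      exact ⟨x, hXM hxc, rfl⟩
  have hJS : thompsonSubgroupOf p (S : Subgroup K) ≤ thompsonSubgroup p K ⊔ C := by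
    refine le_trans (thompsonSubgroupOf_le fun B hB => ?_) le_sup_left
    obtain ⟨g, hg⟩ := exists_conj_le_sylow (isPGroup_of_EA hB) S
    exact ⟨_, isEA_map hB _, hg, (Subgroup.card_map_of_injective (MulAut.conj g).injective).ge⟩
  rw [eq_top_iff, ← centralizer_sup_normalizer_thompson S (thompsonSubgroup p K ⊔ C) hJS]
  exact sup_le (sup_le hJ hCM) hN

/-- An `SL(2, p)` on a plane among the fixed points. -/
theorem fixed_sl2_embed (hsep : IsPSolvable p K) (hO : pPrimeCore p K = ⊥) (hnf : ¬ IsThompsonFactorizable p K)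
    {X : Subgroup L} [Group.IsSolvable X] (hcop : (Nat.card X).Coprime (Nat.card (thompsonSubgroup p K))) :
    (p = 2 ∨ p = 3) ∧ ∃ W D : Subgroup L, W ≤ ι.range ⊓ centralizer (X : Set L) ∧
      D ≤ ι.range ⊓ centralizer (X : Set L) ∧ IsElementaryAbelian p W ∧ Nat.card W = p ^ 2 ∧
      D ≤ normalizer (W : Set L) ∧
      ∃ φ : D →* Matrix.SpecialLinearGroup (Fin 2) (ZMod p), Function.Surjective φ ∧
        φ.ker = (centralizer (W : Set L)).subgroupOf D := by
  haveI hn := omegaGen_embed_normal (p := p) ι hι hidx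
  set V := (omegaGen p K).map ι with hV
  have hJL := thompsonSubgroup_embed (p := p) ι hι hidx
  have hVE : IsElementaryAbelian p V := isEA_map (omegaGen_isEA (Core.centralizer_pCore_le hsep hO)) ι
  have hJ : ¬ thompsonSubgroup p L ≤ centralizer (V : Set L) := by
    intro h
    refine hnf ((thompsonFactorizable_iff hO).mpr ?_)
    rw [← comap_centralizer_embed ι hι, ← Subgroup.map_le_iff_le_comap, ← hJL]
    exact h
  obtain ⟨hp', W, hW1, hW2, hW3, φ, hφ, hker⟩ := exists_fixed_sl2 V (isPSolvable_embed ι hι hidx hsep) hVE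
    (pCore_embed ι hι hidx V hV) hJ (X := X) (by rw [hJL, Subgroup.card_map_of_injective hι]; exact hcop)
  refine ⟨hp', W, thompsonSubgroup p L ⊓ centralizer (X : Set L),
    hW1.trans (inf_le_inf_right _ (Subgroup.map_le_range _ _)),
    inf_le_inf_right _ (hJL ▸ Subgroup.map_le_range _ _), isEA_mono hVE (hW1.trans inf_le_left), hW2, hW3, φ, hφ, hker⟩

end Cfsg.Agent.PLocal
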