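/-
Weak closure of subgroups of the p-th powers of the centre of a Sylow subgroup.
-/
import Cfsg.Agent.PLocal.EngelTransfer
import Cfsg.Agent.PLocal.TransferConstrained
import Cfsg.Agent.FusionZJ.QuadraticFix
import Cfsg.Agent.S1968

set_option autoImplicit false
set_option linter.style.haveILetI false
set_option maxSynthPendingDepth 4

namespace Cfsg.Agent.PLocal

open Subgroup Cfsg

universe u

variable {p : ℕ} [Fact p.Prime]

/-- A group of `p`-th powers of central elements of `P` inside `O_p`, normalized by `N(W P)`, is normal. -/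
theorem normal_of_quadratic {W : ∀ (Q : Type u) [Group Q], Subgroup Q} (hW : IsCharPFunctor.{u} p W)
    (hq : ∀ (L : Type u) [Group L] [Finite L] (P : Sylow p L),
      ¬ (inducedFunctor W (P : Subgroup L)).Normal → ∃ g : L, g ∈ (P : Subgroup L) ∧ g ∉ pCore p L ∧
        ⁅⁅pCore p L ⊓ centralizer ((pCore p L : Subgroup L) : Set L), zpowers g⁆, zpowers g⁆ = ⊥) :
    ∀ (L : Type u) [Group L] [Finite L] (P : Sylow p L) (A : Subgroup L), A ≤ pCore p L →
      (∀ a ∈ A, ∃ z ∈ (P : Subgroup L), (∀ s ∈ (P : Subgroup L), s * z = z * s) ∧ z ^ p = a) →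
      normalizer ((inducedFunctor W (P : Subgroup L) : Subgroup L) : Set L) ≤ normalizer (A : Set L) →
      A.Normal := by
  intro L
  induction hn : Nat.card L using Nat.strong_induction_on generalizing L with
  | _ n IH =>
  intro _ _ P A hAO hAz hN
  subst hn
  classical
  set O := pCore p L with hO
  haveI hOn : O.Normal := by rw [hO]; infer_instance
  have hOP : O ≤ (P : Subgroup L) := Core.pCore_le_sylow P
  have key : ∀ U : Subgroup L, U.Normal → U ≤ centralizer (A : Set L) →
      ∀ w ∈ (P : Subgroup L), w ∈ U → w ∉ O → A.Normal := by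
    intro U hU hUA w hwP hwU hwO
    haveI := hU
    set D : Subgroup L := (P : Subgroup L) ⊓ U with hD
    set K : Subgroup L := normalizer (D : Set L) with hK
    have hPK : (P : Subgroup L) ≤ K := fun x hx => mem_normalizer_fintype fun y hy =>
      ⟨(P : Subgroup L).mul_mem ((P : Subgroup L).mul_mem hx hy.1) ((P : Subgroup L).inv_mem hx),
        hU.conj_mem y hy.2 x⟩
    have hKtop : K ≠ ⊤ := fun h => hwO (Core.le_pCore (Subgroup.normalizer_eq_top_iff.mp h)
      (P.isPGroup'.to_le inf_le_left) ⟨hwP, hwU⟩)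
    have hlt : Nat.card K < Nat.card L := lt_of_le_of_ne (Subgroup.card_le_card_group K)
      fun h => hKtop (Subgroup.eq_top_of_card_eq K h)
    set P' : Sylow p K := P.subtype hPK with hP'
    have hP'map : (P' : Subgroup K).map K.subtype = (P : Subgroup L) := by
      rw [hP', Sylow.coe_subtype, Subgroup.subgroupOf_map_subtype, inf_eq_left.mpr hPK]
    have hAK : A ≤ K := hAO.trans (hOP.trans hPK)
    have hAnK : (A.subgroupOf K).Normal := by
      refine IH _ hlt K rfl P' (A.subgroupOf K) (fun a ha => ?_) (fun a ha => ?_) fun k hk => ?_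
      · exact Core.le_pCore inferInstance ((Core.isPGroup_pCore p L).comap_subtype) (hAO (mem_subgroupOf.mp ha))
      · obtain ⟨z, hz, hzc, hza⟩ := hAz a (mem_subgroupOf.mp ha)
        exact ⟨⟨z, hPK hz⟩, hz, fun s hs => Subtype.ext (hzc s hs), Subtype.ext hza⟩
      · have h1 : (k : L) ∈ normalizer (A : Set L) := hN (by
          show (k : L) ∈ normalizer ((FusionZJ.wOf W (P : Subgroup L) : Subgroup L) : Set L)
          rw [← hP'map, FusionZJ.wOf_map W hW.2 K.subtype K.subtype_injective _ P'.isPGroup']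
          exact Subgroup.le_normalizer_map K.subtype ⟨k, hk, rfl⟩)
        exact mem_normalizer_fintype fun a ha => mem_subgroupOf.mpr
          (by simpa using (mem_normalizer_iff.mp h1 _).mp (mem_subgroupOf.mp ha))
    have hKA : K ≤ normalizer (A : Set L) :=
      fun k hk => mem_normalizer_fintype fun a ha =>
        mem_subgroupOf.mp (hAnK.conj_mem ⟨a, hAK ha⟩ (mem_subgroupOf.mpr ha) ⟨k, hk⟩)
    have hsup : K ⊔ U = ⊤ := by
      obtain ⟨T, hT⟩ := exists_sylow_inf P U
      have := Sylow.normalizer_sup_eq_top T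
      rwa [hT] at this
    exact Subgroup.normalizer_eq_top_iff.mp
      (top_le_iff.mp (hsup.ge.trans (sup_le hKA (hUA.trans (centralizer_le_normalizer _)))))
  by_cases hz0 : ∃ a ∈ A, ∃ z ∈ (P : Subgroup L), (∀ s ∈ (P : Subgroup L), s * z = z * s) ∧ z ^ p = a ∧ z ∉ O
  · obtain ⟨a, -, z, hzP, hzc, -, hzO⟩ := hz0
    exact key (centralizer (O : Set L)) inferInstance (centralizer_le hAO) z hzP
      (fun o ho => hzc o (hOP ho)) hzO
  push Not at hz0
  by_cases hWn : (inducedFunctor W (P : Subgroup L)).Normal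
  · exact Subgroup.normalizer_eq_top_iff.mp
      (top_le_iff.mp ((Subgroup.normalizer_eq_top_iff.mpr hWn).ge.trans hN))
  obtain ⟨u, huP, huO, hquad⟩ := hq L P hWn
  set Z := O ⊓ centralizer (O : Set L) with hZ
  haveI hZn : Z.Normal := inferInstance
  have hZab : ∀ a ∈ Z, ∀ b ∈ Z, a * b = b * a := fun a ha b hb => mem_centralizer_iff.mp hb.2 a ha.1
  have hApow : ∀ a ∈ A, ∃ z ∈ Z, z ^ p = a := fun a ha => by
    obtain ⟨z, hzP, hzc, hza⟩ := hAz a ha
    exact ⟨z, ⟨hz0 a ha z hzP hzc hza, fun o ho => hzc o (hOP ho)⟩, hza⟩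
  set C := centralizer (Z : Set L) with hC
  have hCA : C ≤ centralizer (A : Set L) := fun c hc a ha => by
    obtain ⟨z, hz, rfl⟩ := hApow a ha
    exact mem_centralizer_iff.mp hc _ (Z.pow_mem hz p)
  by_cases huC : u ∈ C
  · exact key C inferInstance hCA u huP huC huO
  have hex : ∃ i, u ^ p ^ i ∈ C := by
    obtain ⟨i, hi⟩ := P.isPGroup' ⟨u, huP⟩
    exact ⟨i, by rw [show u ^ p ^ i = 1 from congrArg Subtype.val hi]; exact C.one_mem⟩
  obtain ⟨i, hi⟩ : ∃ i, Nat.find hex = i + 1 := by
    refine ⟨Nat.find hex - 1, (Nat.succ_pred_eq_of_ne_zero fun h => huC ?_).symm⟩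
    simpa [h] using Nat.find_spec hex
  set v := u ^ p ^ i with hv
  have hvC : v ∉ C := Nat.find_min hex (by omega)
  have hvp : v ^ p ∈ C := by
    rw [hv, ← pow_mul, ← pow_succ, ← hi]; exact Nat.find_spec hex
  set B := Subgroup.closure ((fun z : L => z ^ p) '' (Z : Set L)) with hB
  have hBn : B.Normal := by
    refine Subgroup.Normal.mk fun b hb g => ?_
    have h1 : B.map (MulAut.conj g).toMonoidHom ≤ B := by
      rw [hB, MonoidHom.map_closure]
      refine closure_mono ?_
      rintro _ ⟨_, ⟨z, hz, rfl⟩, rfl⟩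
      exact ⟨g * z * g⁻¹, hZn.conj_mem z hz g, by rw [map_pow]; rfl⟩
    exact h1 ⟨b, hb, rfl⟩
  have hvB : v ∈ centralizer (B : Set L) := by
    rw [hB, centralizer_closure, mem_centralizer_iff]
    rintro _ ⟨z, hz, rfl⟩
    have := FusionZJ.exists_quadratic_step Z (fun g a ha => hZn.conj_mem a ha g) hZab hquad
      (Subgroup.npow_mem_zpowers u _) (fun a ha => by rw [← hvp a ha, mul_inv_cancel_right]) hz
    exact (mul_inv_eq_iff_eq_mul.mp this).symm
  have hAB : A ≤ B := fun a ha => by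
    obtain ⟨z, hz, rfl⟩ := hApow a ha
    exact subset_closure ⟨z, hz, rfl⟩
  refine key (centralizer (B : Set L)) inferInstance (centralizer_le hAB) v (pow_mem huP _) hvB fun hvO => hvC ?_
  exact fun z hz => (mem_centralizer_iff.mp hz.2 v hvO).symm

/-- Subgroups of `p`-th powers of the centre normal in `N(W S)` are weakly closed. -/
theorem isWeaklyClosed_of_quadratic {W : ∀ (Q : Type u) [Group Q], Subgroup Q} (hW : IsCharPFunctor.{u} p W)
    (hWZ : ∀ (Q : Type u) [Group Q] [Finite Q], IsPGroup p Q → Subgroup.center Q ≤ W Q)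
    (hq : ∀ (L : Type u) [Group L] [Finite L] (P : Sylow p L),
      ¬ (inducedFunctor W (P : Subgroup L)).Normal → ∃ g : L, g ∈ (P : Subgroup L) ∧ g ∉ pCore p L ∧
        ⁅⁅pCore p L ⊓ centralizer ((pCore p L : Subgroup L) : Set L), zpowers g⁆, zpowers g⁆ = ⊥)
    {G : Type u} [Group G] [Finite G] (S : Sylow p G) (A : Subgroup G)
    (hAz : ∀ a ∈ A, ∃ z ∈ (S : Subgroup G), (∀ s ∈ (S : Subgroup G), s * z = z * s) ∧ z ^ p = a)
    (hN : normalizer ((inducedFunctor W (S : Subgroup G) : Subgroup G) : Set G) ≤ normalizer (A : Set G)) :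
    IsWeaklyClosed A (S : Subgroup G) := by
  by_contra hnwc
  have hcf := isConjugacyFunctor_induced hW G
  have hAZ : A ≤ (S : Subgroup G) ⊓ centralizer ((S : Subgroup G) : Set G) := fun a ha => by
    obtain ⟨z, hz, hzc, rfl⟩ := hAz a ha
    exact ⟨pow_mem hz p, fun s hs => (Commute.pow_right (hzc s hs : Commute s z) p).eq⟩
  obtain ⟨T, hT, hAT, hNA, hi, -, h, hh, -, hne⟩ := S1968.result S (inducedFunctor W) hcf
    (fun P hP x hx => ⟨⟨x, hx.1⟩, hWZ ↥P hP (mem_center_iff.mpr fun y => Subtype.ext (hx.2 y y.2)), rfl⟩)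
    A hAZ hN hnwc
  set L := normalizer (T : Set G) with hL
  set R := (S : Subgroup G) ⊓ L with hR
  let R' : Sylow p L := IsPGroup.toSylow (P := R.subgroupOf L) (S.isPGroup'.to_le inf_le_left).comap_subtype hi
  have hTL : T ≤ L := le_normalizer
  have hR'map : (R' : Subgroup L).map L.subtype = R := by
    show (R.subgroupOf L).map L.subtype = R
    rw [subgroupOf_map_subtype, inf_eq_left.2 inf_le_right]
  have hn := normal_of_quadratic hW hq L R' (A.subgroupOf L) (fun a ha => ?_) (fun a ha => ?_) (fun k hk => ?_)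
  · exact hne (le_antisymm
      (by rintro _ ⟨a, ha, rfl⟩; exact mem_subgroupOf.mp (hn.conj_mem ⟨a, hTL (hAT ha)⟩ (mem_subgroupOf.mpr ha) ⟨h, hh⟩))
      (fun a ha => ⟨h⁻¹ * a * h, by
        have := hn.conj_mem ⟨a, hTL (hAT ha)⟩ (mem_subgroupOf.mpr ha) (⟨h, hh⟩ : L)⁻¹
        simpa [mem_subgroupOf] using this, by simp [mul_assoc]⟩))
  · exact Core.le_pCore (Subgroup.normal_subgroupOf_of_le_normalizer le_rfl)
      (S.isPGroup'.to_le hT.1).comap_subtype (mem_subgroupOf.mpr (hAT (mem_subgroupOf.mp ha)))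
  · obtain ⟨z, hz, hzc, hza⟩ := hAz a (mem_subgroupOf.mp ha)
    have hzL : z ∈ L := centralizer_le_normalizer _ (fun t ht => hzc t (hT.1 ht))
    exact ⟨⟨z, hzL⟩, ⟨hz, hzL⟩, fun s hs => Subtype.ext (hzc s hs.1), Subtype.ext hza⟩
  · have h1 : (k : G) ∈ normalizer (A : Set G) := hNA (by
      show (k : G) ∈ normalizer ((FusionZJ.wOf W R : Subgroup G) : Set G)
      rw [← hR'map, FusionZJ.wOf_map W hW.2 L.subtype L.subtype_injective _ R'.isPGroup']
      exact Subgroup.le_normalizer_map L.subtype ⟨k, hk, rfl⟩)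
    exact mem_normalizer_fintype fun a ha => mem_subgroupOf.mpr
      (by simpa using (mem_normalizer_iff.mp h1 _).mp (mem_subgroupOf.mp ha))

end Cfsg.Agent.PLocal
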